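import Cfsg.Agent.Lib.Recog.ONanMat.Cover
import Cfsg.Prelude.Def_KGroupFacts

set_option autoImplicit false
set_option maxRecDepth 100000

/-!
A triple stem extension of the presented O'Nan group (owner: helper9; the matrices are helper6's).
-/

namespace CfsgLib.Recog.ONan

open Cfsg CfsgLib.Recog.ONanMat
open scoped commutatorElement

/-- The preimage of the group among the matrices. -/
def coverGroup : Subgroup GL45 := prep.range.comap (QuotientGroup.mk' scalars)

/-- The projection of the preimage. -/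
noncomputable def coverMap : coverGroup →* GON :=
  (MonoidHom.ofInjective prep_injective).symm.toMonoidHom.comp
    (((QuotientGroup.mk' scalars).comp coverGroup.subtype).codRestrict prep.range fun h => h.2)

theorem prep_coverMap (h : coverGroup) : prep (coverMap h) = QuotientGroup.mk' scalars (h : GL45) :=
  congrArg Subtype.val ((MonoidHom.ofInjective prep_injective).apply_symm_apply
    ((((QuotientGroup.mk' scalars).comp coverGroup.subtype).codRestrict prep.range fun h => h.2) h))

theorem coverMap_surjective : Function.Surjective coverMap := by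
  intro u
  obtain ⟨m, hm⟩ := QuotientGroup.mk'_surjective scalars (prep u)
  exact ⟨⟨m, ⟨u, hm.symm⟩⟩, prep_injective (by rw [prep_coverMap]; exact hm)⟩

theorem mem_coverMap_ker (h : coverGroup) : h ∈ coverMap.ker ↔ (h : GL45) ∈ scalars := by
  rw [MonoidHom.mem_ker, ← prep_injective.eq_iff, prep_coverMap, map_one]
  exact QuotientGroup.eq_one_iff _

theorem scalar_mem (z : GL45) (hz : z ∈ scalars) : z ∈ coverGroup :=
  ⟨1, by rw [map_one]; exact ((QuotientGroup.eq_one_iff z).2 hz).symm⟩

theorem card_coverMap_ker : Nat.card coverMap.ker = 3 := by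
  rw [← card_scalars]
  refine Nat.card_congr ⟨fun h => ⟨(h.1 : GL45), (mem_coverMap_ker h.1).1 h.2⟩,
    fun z => ⟨⟨z.1, scalar_mem z.1 z.2⟩, (mem_coverMap_ker _).2 z.2⟩, fun h => rfl, fun z => rfl⟩

theorem prep_lgen {x : ℕ} (hx : x < 7) : prep (lgen x) = QuotientGroup.mk' scalars (unitL x) := by
  interval_cases x <;> exact PresentedGroup.toGroup.of _

theorem extra_two : (([2, 3, 4, 0, 2, 3, 4, 0, 2, 3, 4, 0, 2, 3, 4, 0, 2, 3, 4, 0] : List ℕ).map unitL).prod = omega :=
  Units.ext (by rw [unitL_val_prod, extra_prod (p := ([2, 3, 4, 0, 2, 3, 4, 0, 2, 3, 4, 0, 2, 3, 4, 0, 2, 3, 4, 0], 2))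
    (by decide)]; rfl)

theorem extra_g : unitL 1 * unitL 6 * (unitL 7 * unitL 7) = 1 := by
  have e : (([1, 6, 7, 7] : List ℕ).map unitL).prod = 1 := Units.ext (by
    rw [unitL_val_prod, extra_prod (p := ([1, 6, 7, 7], 1)) (by decide), Units.val_one]
    simp)
  simpa [mul_assoc] using e

theorem unitL_seven : unitL 7 = (unitL 0)⁻¹ := Units.ext rfl

theorem unitL_sq {x : ℕ} (hx : 1 ≤ x ∧ x ≤ 6) : unitL x * unitL x = 1 := Units.ext (lmat_sq hx)

theorem scalar_sq {z : GL45} (hz : z ∈ scalars) (h : z * z = 1) : z = 1 := by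
  have h3 : z ^ 3 = 1 := by
    have := Subgroup.orderOf_dvd_natCard scalars hz
    rw [card_scalars] at this
    exact orderOf_dvd_iff_pow_eq_one.1 this
  rw [pow_succ, pow_two, h, one_mul] at h3
  exact h3

/-- The representation does not lift to the matrices. -/
theorem no_section (s : GON →* GL45) (hs : ∀ u, QuotientGroup.mk' scalars (s u) = prep u) : False := by
  have hdiff : ∀ x, x < 7 → ∃ z ∈ scalars, s (lgen x) = unitL x * z := by
    intro x hx
    have h := hs (lgen x)
    rw [prep_lgen hx] at h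
    exact ⟨(unitL x)⁻¹ * s (lgen x), QuotientGroup.eq.1 h.symm, by group⟩
  have hnode : ∀ x, 1 ≤ x ∧ x ≤ 6 → s (lgen x) = unitL x := by
    intro x hx
    obtain ⟨z, hz, e⟩ := hdiff x (by omega)
    have h := congrArg s (lgen_sq (x := x) (by omega) (by omega))
    rw [map_mul, map_one, e, mul_assoc, ← mul_assoc z, scalars_central hz, mul_assoc, ← mul_assoc,
      unitL_sq hx, one_mul] at h
    rw [e, scalar_sq hz h, mul_one]
  obtain ⟨z, hz, e⟩ := hdiff 0 (by omega)
  have hg : s (lgen 0) = unitL 0 := by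
    have hw : ((([7, 7, 6, 1] : List ℕ).reverse).map lgen).prod = 1 := base_one (by simp [baseSeqs])
    have h := congrArg s hw
    simp only [List.reverse_cons, List.reverse_nil, List.nil_append, List.cons_append, List.map_cons, List.map_nil,
      List.prod_cons, List.prod_nil, mul_one, map_mul, map_one] at h
    have h7 : s (lgen 7) = (unitL 0 * z)⁻¹ := by
      rw [← e, ← map_inv]
      exact congrArg s rfl
    rw [hnode 1 (by omega), hnode 6 (by omega), h7, _root_.mul_inv_rev, ← unitL_seven] at h
    have hz' : ∀ A, z⁻¹ * A = A * z⁻¹ := scalars_central (inv_mem hz)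
    rw [show z⁻¹ * unitL 7 * (z⁻¹ * unitL 7) = z⁻¹ * z⁻¹ * (unitL 7 * unitL 7) by
      rw [mul_assoc, ← mul_assoc (unitL 7), ← hz', mul_assoc, ← mul_assoc z⁻¹ z⁻¹]] at h
    have h2 : z⁻¹ * z⁻¹ = 1 := by
      have hc : ∀ A, (z⁻¹ * z⁻¹) * A = A * (z⁻¹ * z⁻¹) := scalars_central (mul_mem (inv_mem hz) (inv_mem hz))
      rw [← mul_assoc, ← mul_assoc, ← hc] at h
      simp only [mul_assoc] at h
      have hx : unitL 1 * (unitL 6 * (unitL 7 * unitL 7)) = 1 := by rw [← mul_assoc]; exact extra_g
      rw [hx, mul_one] at h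
      exact h
    rw [e, inv_eq_one.1 (scalar_sq (inv_mem hz) h2), mul_one]
  have hall : ∀ x ∈ ([2, 3, 4, 0, 2, 3, 4, 0, 2, 3, 4, 0, 2, 3, 4, 0, 2, 3, 4, 0] : List ℕ),
      s (lgen x) = unitL x := by
    intro x hx
    simp only [List.mem_cons, List.not_mem_nil, or_false] at hx
    rcases Nat.eq_zero_or_pos x with rfl | hp
    · exact hg
    · exact hnode x (by omega)
  have hw : ((([0, 4, 3, 2, 0, 4, 3, 2, 0, 4, 3, 2, 0, 4, 3, 2, 0, 4, 3, 2] : List ℕ).reverse).map lgen).prod = 1 :=
    base_one (by simp [baseSeqs])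
  have h := congrArg s hw
  rw [map_list_prod, List.map_map, map_one,
    show ([0, 4, 3, 2, 0, 4, 3, 2, 0, 4, 3, 2, 0, 4, 3, 2, 0, 4, 3, 2] : List ℕ).reverse =
      [2, 3, 4, 0, 2, 3, 4, 0, 2, 3, 4, 0, 2, 3, 4, 0, 2, 3, 4, 0] from rfl,
    List.map_congr_left (f := s ∘ lgen) (g := unitL) (fun x hx => hall x hx), extra_two] at h
  exact omega_ne_one h

theorem coverMap_stem : Cfsg.IsStemExtension coverMap := by
  have := finite_GON
  have hsimple : IsSimpleGroup GON := isON_GON.1
  obtain ⟨hc, -⟩ := simple_facts hsimple (by rw [card_GON]; norm_num)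
  have hne : commutator GON ≠ ⊥ := by
    intro h
    have hall : Subgroup.center GON = ⊤ := by
      rw [eq_top_iff]
      intro u _
      refine Subgroup.mem_center_iff.2 fun v => ?_
      have : ⁅v, u⁆ ∈ commutator GON := Subgroup.commutator_mem_commutator (Subgroup.mem_top _) (Subgroup.mem_top _)
      rw [h, Subgroup.mem_bot, commutatorElement_eq_one_iff_commute] at this
      exact this
    rw [hc] at hall
    exact bot_ne_top hall
  have hperf : commutator GON = ⊤ :=
    (IsSimpleGroup.eq_bot_or_eq_top_of_normal _ inferInstance).resolve_left hne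
  refine ⟨coverMap_surjective, fun h hh => Subgroup.mem_center_iff.2 fun y => ?_, fun h hh => ?_⟩
  · exact Subtype.ext (scalars_central ((mem_coverMap_ker h).1 hh) _).symm
  by_contra hnot
  have : Fact (Nat.Prime 3) := ⟨Nat.prime_three⟩
  set K : Subgroup coverGroup := commutator coverGroup with hK
  have hinj : Function.Injective (coverMap.comp K.subtype) := by
    rw [← MonoidHom.ker_eq_bot_iff, Subgroup.eq_bot_iff_forall]
    rintro ⟨k, hk⟩ hk1
    by_contra hne1
    rcases (K.subgroupOf coverMap.ker).eq_bot_or_eq_top_of_prime_card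
        (hp := ⟨by rw [card_coverMap_ker]; exact Nat.prime_three⟩) with hb | ht
    · have : (⟨k, hk1⟩ : coverMap.ker) ∈ K.subgroupOf coverMap.ker := hk
      rw [hb, Subgroup.mem_bot] at this
      exact hne1 (Subtype.ext (congrArg Subtype.val this :))
    · exact hnot (show (⟨h, hh⟩ : coverMap.ker) ∈ K.subgroupOf coverMap.ker by rw [ht]; trivial)
  have hsurj : Function.Surjective (coverMap.comp K.subtype) := by
    have : K.map coverMap = ⊤ := by
      rw [hK, commutator_def, Subgroup.map_commutator, Subgroup.map_top_of_surjective _ coverMap_surjective,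
        ← commutator_def, hperf]
    intro u
    obtain ⟨k, hk, e⟩ := (show u ∈ K.map coverMap by rw [this]; trivial)
    exact ⟨⟨k, hk⟩, e⟩
  let e := MulEquiv.ofBijective _ ⟨hinj, hsurj⟩
  refine no_section ((coverGroup.subtype.comp K.subtype).comp e.symm.toMonoidHom) fun u => ?_
  have h2 := prep_coverMap ((e.symm u : K) : coverGroup)
  rw [show coverMap ((e.symm u : K) : coverGroup) = u from e.apply_symm_apply u] at h2
  exact h2.symm

end CfsgLib.Recog.ONan
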