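import Cfsg.Agent.Lib.Recog.ONan.OutNets

set_option autoImplicit false
set_option maxRecDepth 100000
set_option Elab.async false

/-!
Checks for the outer automorphism, first part (owner: helper9).
-/

namespace CfsgLib.Recog.ONan

theorem out_nets_ok : [outNetX, outNetW, outNetWT, outNetTG, outNetTA, outNetTB, outNetTC, outNetTD, outNetTE,
    outNetTF].all (netOK 17) = true := by decide +kernel

theorem x_net : sameNet (flatNet xWord) outNetX = true := by decide +kernel

theorem w_net : sameNet (flatNet wWord) outNetW = true := by decide +kernel

theorem wt_net : sameNet (flatNet wAltWord) outNetWT = true := by decide +kernel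

theorem x_nineteen : sameNet (wordNet (sixNet outNetW) (List.replicate 19 0)) [] = true := by decide +kernel

theorem u_x : sameNet (wordNet (sixNet outNetW) [2, 0, 3]) (wordNet (sixNet outNetW) (List.replicate 8 0)) = true := by
  decide +kernel

theorem x_fixed :
    Nat.land (fixedMask 17 [outNetX]) (Nat.sub (Nat.shiftLeft 1 122760) 1) = 1 := by decide +kernel

theorem u_fixed :
    Nat.land (fixedMask 17 [flatNet uWord]) (Nat.sub (Nat.shiftLeft 1 122760) 1) = fixedBits := by decide +kernel

theorem bits_small : Nat.blt fixedBits (Nat.shiftLeft 1 169) = true := by decide +kernel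

theorem bits_known : (List.range 169).all (fun p => !fixedBits.testBit p || goodPts.contains p ||
    (badReps.map Prod.fst).contains p) = true := by decide +kernel

theorem good_reps : (List.range 6).all (fun j =>
    Nat.beq (netK (flatNet (goodReps.getD j [])) 0) (goodPts.getD j 0) &&
      sameNet (flatNet (goodReps.getD j [] ++ uWord)) (flatNet (uWord ++ goodReps.getD j []))) = true := by
  decide +kernel

theorem bad_reps : badReps.all (fun b => Nat.beq (netK (flatNet b.2.1) 0) b.1 &&
    sameNet (flatNet (uWord ++ b.2.1)) (flatNet (b.2.1 ++ b.2.2)) &&
      b.2.2.all (fun x => Nat.ble 1 x && Nat.ble x 6)) = true := by decide +kernel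

theorem bad_even : badReps.all (fun b => (evalPairs b.2.2).isSome) = true := by decide +kernel

theorem w_comm : sameNet (flatNet (wWord ++ uWord)) (flatNet (uWord ++ wWord)) = true := by decide +kernel

theorem out_rels : outRels.all (fun r => sameNet (wordNet (twoNet outNetX outNetW) r) []) = true := by
  decide +kernel

theorem w_moves : Nat.beq (netK (outNetW ++ outNetWT.reverse) 0) 0 = false ∨
    Nat.beq (netK (outNetW ++ outNetWT.reverse) 1) 1 = false := by decide +kernel

end CfsgLib.Recog.ONan
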