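import Cfsg.Agent.Lib.Recog.ONan.OutNets

set_option autoImplicit false
set_option maxRecDepth 100000
set_option Elab.async false

/-!
Checks for the outer automorphism, second part: generation and the new relators (owner: helper9).
-/

namespace CfsgLib.Recog.ONan

theorem gen_check0 : sameNet (wordNet (sixNet outNetW) (genWords.getD 0 [])) (mainData.net 0) = true := by decide +kernel

theorem gen_check1 : sameNet (wordNet (sixNet outNetW) (genWords.getD 1 [])) (mainData.net 1) = true := by decide +kernel

theorem gen_check2 : sameNet (wordNet (sixNet outNetW) (genWords.getD 2 [])) (mainData.net 2) = true := by decide +kernel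

theorem gen_check3 : sameNet (wordNet (sixNet outNetW) (genWords.getD 3 [])) (mainData.net 3) = true := by decide +kernel

theorem gen_check4 : sameNet (wordNet (sixNet outNetW) (genWords.getD 4 [])) (mainData.net 4) = true := by decide +kernel

theorem gen_check5 : sameNet (wordNet (sixNet outNetW) (genWords.getD 5 [])) (mainData.net 5) = true := by decide +kernel

theorem gen_check6 : sameNet (wordNet (sixNet outNetW) (genWords.getD 6 [])) (mainData.net 6) = true := by decide +kernel

end CfsgLib.Recog.ONan
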