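import Cfsg.Agent.Lib.Recog.ONan.OutNets

set_option autoImplicit false
set_option maxRecDepth 100000
set_option Elab.async false

/-!
Checks for the outer automorphism, third part: the candidates (owner: helper9).
-/

namespace CfsgLib.Recog.ONan

theorem test_zero : (List.range 72).all (testOne 0) = true := by decide +kernel

theorem test_one : (List.range 72).all (testOne 1) = true := by decide +kernel

theorem test_two : (List.range 72).all (testOne 2) = true := by decide +kernel

theorem same_cand : sameNet (flatNet (candWord sameIdx)) outNetW = true := by decide +kernel

theorem alt_cand : sameNet (flatNet (candWord altIdx)) outNetWT = true := by decide +kernel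

end CfsgLib.Recog.ONan
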