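import Cfsg.Agent.Lib.Recog.ONan.OutModel
import Cfsg.Agent.Lib.Recog.ONan.OutCheckA
import Cfsg.Agent.Lib.Recog.ONan.OutCheckB
import Cfsg.Agent.Lib.Recog.ONan.OutCheckC

set_option autoImplicit false
set_option maxRecDepth 100000

/-!
Centralisers of an element of order nineteen and of one of order six in the O'Nan group (owner: helper9).
-/

namespace CfsgLib.Recog.ONan

open Cfsg

/-- The element of order nineteen. -/
noncomputable def eX : GON := wp xWord

/-- The element of order six. -/
noncomputable def eU : GON := wp uWord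

/-- The third generator. -/
noncomputable def eW : GON := wp wWord

/-- Its image under the outer automorphism. -/
noncomputable def eV : GON := wp wAltWord

theorem net_ok_of {V : List (ℕ × ℕ)} (h : V ∈ [outNetX, outNetW, outNetWT, outNetTG, outNetTA, outNetTB, outNetTC,
    outNetTD, outNetTE, outNetTF]) : netOK 17 V = true :=
  List.all_eq_true.1 out_nets_ok V h

theorem shows_X : Shows eX outNetX := (shows_word xWord).of_same (net_ok_of (by simp)) x_net

theorem shows_U : Shows eU (flatNet uWord) := shows_word uWord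

theorem shows_W : Shows eW outNetW := (shows_word wWord).of_same (net_ok_of (by simp)) w_net

theorem shows_V : Shows eV outNetWT := (shows_word wAltWord).of_same (net_ok_of (by simp)) wt_net

/-- The elements `x, x⁻¹, u, u⁻¹, w, w⁻¹`. -/
noncomputable def sixElt (w : GON) : ℕ → GON
  | 0 => eX
  | 1 => eX⁻¹
  | 2 => eU
  | 3 => eU⁻¹
  | 4 => w
  | 5 => w⁻¹
  | _ => 1

theorem shows_sixElt {w : GON} {W : List (ℕ × ℕ)} (hw : Shows w W) : ∀ x, Shows (sixElt w x) (sixNet W x)
  | 0 => shows_X
  | 1 => shows_X.inv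
  | 2 => shows_U
  | 3 => shows_U.inv
  | 4 => hw
  | 5 => hw.inv
  | (_ + 6) => shows_one

theorem shows_six_word {w : GON} {W : List (ℕ × ℕ)} (hw : Shows w W) (l : List ℕ) :
    Shows ((l.map (sixElt w)).prod) (wordNet (sixNet W) l) :=
  Shows.list (shows_sixElt hw) l

theorem gen_check {t : ℕ} (ht : t < 7) :
    sameNet (wordNet (sixNet outNetW) (genWords.getD t [])) (mainData.net t) = true := by
  interval_cases t
  exacts [gen_check0, gen_check1, gen_check2, gen_check3, gen_check4, gen_check5, gen_check6]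

/-- The generators as words in the three elements. -/
theorem lgen_eq {t : ℕ} (ht : t < 7) : ((genWords.getD t []).map (sixElt eW)).prod = lgen t :=
  (shows_six_word shows_W _).eq (shows_lgen t) (gen_check ht)

/-- A homomorphism is determined by the images of the three elements. -/
theorem hom_ext {Q : Type*} [Group Q] {f g : GON →* Q} (hx : f eX = g eX) (hu : f eU = g eU) (hw : f eW = g eW) :
    f = g := by
  refine PresentedGroup.ext fun y => ?_
  rw [← lgen_gidx, ← lgen_eq (show gidx y < 7 by cases y <;> decide), map_list_prod, map_list_prod, List.map_map,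
    List.map_map]
  refine congrArg List.prod (List.map_congr_left fun x _ => ?_)
  match x with
  | 0 => exact hx
  | 1 => show f eX⁻¹ = g eX⁻¹; rw [map_inv, map_inv, hx]
  | 2 => exact hu
  | 3 => show f eU⁻¹ = g eU⁻¹; rw [map_inv, map_inv, hu]
  | 4 => exact hw
  | 5 => show f eW⁻¹ = g eW⁻¹; rw [map_inv, map_inv, hw]
  | (n + 6) => show f 1 = g 1; rw [map_one, map_one]

theorem eX_pow : eX ^ 19 = 1 := by
  have h := (shows_six_word shows_W (List.replicate 19 0)).eq_one x_nineteen
  rw [List.map_replicate, List.prod_replicate] at h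
  exact h

theorem eU_conj : eU * eX * eU⁻¹ = eX ^ 8 := by
  have h := (shows_six_word shows_W [2, 0, 3]).eq (shows_six_word shows_W (List.replicate 8 0)) u_x
  rw [List.map_replicate, List.prod_replicate] at h
  rw [← show (([2, 0, 3] : List ℕ).map (sixElt eW)).prod = eU * eX * eU⁻¹ by simp [sixElt, mul_assoc]]
  exact h

theorem x_fixed_point {p : Fin (2 ^ 17)} (hp : (p : ℕ) < 122760) (h : phi eX p = p) : (p : ℕ) = 0 := by
  have h1 := fixed_bit shows_X hp h
  rwa [x_fixed, Nat.testBit_one_eq_true_iff_self_eq_zero] at h1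

theorem eX_ne_one : eX ≠ 1 := fun h =>
  absurd (x_fixed_point (p := ⟨1, by norm_num⟩) (by norm_num) (by rw [h, map_one]; rfl)) (by norm_num)

theorem orderOf_eX : orderOf eX = 19 :=
  have : Fact (Nat.Prime 19) := ⟨by norm_num⟩
  orderOf_eq_prime eX_pow eX_ne_one

theorem wp_mem {l : List ℕ} (h : ∀ x ∈ l, 1 ≤ x ∧ x ≤ 6) : wp l ∈ sixSub :=
  Subgroup.list_prod_mem _ fun g hg => by
    obtain ⟨x, hx, rfl⟩ := List.mem_map.1 hg
    exact Subgroup.subset_closure ⟨x, by have := h x hx; simp; omega, rfl⟩

theorem rho_word {l : List ℕ} (h : ∀ x ∈ l, 1 ≤ x ∧ x ≤ 6) : rho ((l.map tgen).prod) = wp l := by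
  rw [wp, map_list_prod, List.map_map]
  exact congrArg List.prod (List.map_congr_left fun x hx => rho_tgen (h x hx).1 (h x hx).2)

theorem xWord_letters : ∀ x ∈ xWord, 1 ≤ x ∧ x ≤ 6 := by decide

theorem uWord_letters : ∀ x ∈ uWord, 1 ≤ x ∧ x ≤ 6 := by decide

theorem cent_letters : ∀ w ∈ innerCent, ∀ x ∈ w, 1 ≤ x ∧ x ≤ 6 := by decide

theorem phi_fix_zero {g : GON} (hg : g ∈ sixSub) : phi g ⟨0, by norm_num⟩ = ⟨0, by norm_num⟩ :=
  Fin.ext (six_fixes hg)

theorem image_fixed {a c : GON} (ha : a ∈ sixSub) (h : c * a = a * c) :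
    phi a (phi c ⟨0, by norm_num⟩) = phi c ⟨0, by norm_num⟩ := by
  rw [← Equiv.Perm.mul_apply, ← map_mul, ← h, map_mul, Equiv.Perm.mul_apply, phi_fix_zero ha]

/-- The centraliser of the element of order nineteen. -/
theorem centralizer_eX {c : GON} (h : c * eX = eX * c) : ∃ i < 19, c = eX ^ i := by
  have hXm : eX ∈ sixSub := wp_mem xWord_letters
  have h0 := x_fixed_point (base_lt c) (image_fixed hXm h)
  obtain ⟨t, rfl⟩ := rho_range ▸ mem_sixSub_iff.2 h0
  have hX : eX = rho ((xWord.map tgen).prod) := (rho_word xWord_letters).symm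
  rw [hX, ← map_mul, ← map_mul] at h
  obtain ⟨i, hi, rfl⟩ := centralizer_x (rho_injective h)
  exact ⟨i, hi, by rw [map_pow, ← hX]⟩

theorem centWords_mem {w : List ℕ} (hw : w ∈ innerCent) : w ∈ centWords ∧ w ++ uWord ∈ centWords :=
  ⟨List.mem_append_left _ hw, List.mem_append_right _ (List.mem_map.2 ⟨w, hw, rfl⟩)⟩

theorem centWords_length : centWords.length = 12 := by decide

theorem goodPts_length : goodPts.length = 6 := by decide

/-- The centraliser of the element of order six. -/
theorem centralizer_eU {c : GON} (h : c * eU = eU * c) : ∃ i < 72, c = wp (candWord i) := by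
  have hUm : eU ∈ sixSub := wp_mem uWord_letters
  set p := phi c ⟨0, by norm_num⟩ with hp
  have hlt : (p : ℕ) < 122760 := base_lt c
  have hbit := fixed_bit shows_U hlt (image_fixed hUm h)
  rw [u_fixed] at hbit
  have hsmall : (p : ℕ) < 169 := by
    by_contra hge
    have hb : fixedBits < 2 ^ (p : ℕ) := by
      have hb := Nat.blt_eq ▸ bits_small
      change fixedBits < 1 <<< 169 at hb
      rw [Nat.one_shiftLeft] at hb
      exact hb.trans_le (Nat.pow_le_pow_right (by omega) (Nat.not_lt.1 hge))
    rw [Nat.testBit_lt_two_pow hb] at hbit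
    exact Bool.noConfusion hbit
  have hk := List.all_eq_true.1 bits_known p (List.mem_range.2 hsmall)
  rw [hbit, Bool.not_true, Bool.false_or, Bool.or_eq_true, List.contains_iff_mem, List.contains_iff_mem] at hk
  have hU : eU = rho ((uWord.map tgen).prod) := (rho_word uWord_letters).symm
  -- an element with the same image of the base point differs from `c` by the subgroup
  have diff : ∀ r : List ℕ, netK (flatNet r) 0 = (p : ℕ) → (wp r)⁻¹ * c ∈ sixSub := by
    intro r hr
    have e : phi (wp r) ⟨0, by norm_num⟩ = p := Fin.ext (by rw [(shows_word r).2, ← netK_eq, hr])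
    rw [mem_sixSub_iff, map_mul, Equiv.Perm.mul_apply, ← hp, ← e, map_inv, Equiv.Perm.coe_inv,
      Equiv.symm_apply_apply]
  rcases hk with hk | hk
  · obtain ⟨j, hj, hjp⟩ := List.getElem_of_mem hk
    have hj6 : j < 6 := goodPts_length ▸ hj
    have hg := List.all_eq_true.1 good_reps j (List.mem_range.2 hj6)
    rw [Bool.and_eq_true] at hg
    set r := goodReps.getD j [] with hr
    have hpt : netK (flatNet r) 0 = (p : ℕ) := by
      rw [Nat.eq_of_beq_eq_true hg.1, List.getD_eq_getElem _ _ hj, hjp]
    have hcomm : wp r * eU = eU * wp r := by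
      rw [eU, ← wp_append, ← wp_append]
      exact (shows_word _).eq (shows_word _) hg.2
    obtain ⟨t, ht⟩ := rho_range ▸ diff r hpt
    have hc : rho t * eU = eU * rho t := by
      rw [ht]
      exact ((Commute.inv_left (show Commute (wp r) eU from hcomm)).mul_left (show Commute c eU from h))
    rw [hU, ← map_mul, ← map_mul] at hc
    obtain ⟨w, hw, he⟩ := centralizer_u (rho_injective hc)
    obtain ⟨w', hw', hw'e⟩ : ∃ w' ∈ centWords, rho t = wp w' := by
      rcases he with rfl | rfl
      · exact ⟨w, (centWords_mem hw).1, rho_word (cent_letters w hw)⟩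
      · exact ⟨w ++ uWord, (centWords_mem hw).2, by rw [map_mul, rho_word (cent_letters w hw), ← hU, wp_append]; rfl⟩
    obtain ⟨m, hm, hmw⟩ := List.getElem_of_mem hw'
    have hm12 : m < 12 := centWords_length ▸ hm
    refine ⟨12 * j + m, by omega, ?_⟩
    rw [candWord, show (12 * j + m) / 12 = j by omega, show (12 * j + m) % 12 = m by omega, ← hr,
      List.getD_eq_getElem _ _ hm, hmw, wp_append, ← hw'e, ht, mul_inv_cancel_left]
  · exfalso
    obtain ⟨⟨q, r, l⟩, hb, hbp⟩ := List.mem_map.1 hk
    have h1 := List.all_eq_true.1 bad_reps _ hb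
    rw [Bool.and_eq_true, Bool.and_eq_true, List.all_eq_true] at h1
    obtain ⟨⟨h1, h2⟩, h3⟩ := h1
    have hl : ∀ x ∈ l, 1 ≤ x ∧ x ≤ 6 := fun x hx => by
      have := h3 x hx
      rw [Bool.and_eq_true, Nat.ble_eq, Nat.ble_eq] at this
      exact this
    have hrel : eU * wp r = wp r * wp l := by
      rw [eU, ← wp_append, ← wp_append]
      exact (shows_word _).eq (shows_word _) h2
    obtain ⟨t, ht⟩ := rho_range ▸ diff r ((Nat.eq_of_beq_eq_true h1).trans hbp)
    have hc : rho t * eU = wp l * rho t := by
      have e : wp l = (wp r)⁻¹ * eU * wp r := by rw [mul_assoc, hrel, inv_mul_cancel_left]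
      rw [ht, e, mul_assoc, h]
      group
    rw [hU, ← rho_word hl, ← map_mul, ← map_mul] at hc
    have hright := congrArg SemidirectProduct.right (rho_injective hc)
    obtain ⟨P, hP⟩ := Option.isSome_iff_exists.1 (List.all_eq_true.1 bad_even _ hb)
    obtain ⟨U, -, hUo⟩ := uT_eq
    rw [SemidirectProduct.mul_right, SemidirectProduct.mul_right, word_right hP, one_mul, mul_eq_left, hUo] at hright
    exact sigma_ne_one (congrArg Subtype.val hright)

end CfsgLib.Recog.ONan
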