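import Cfsg.Agent.Lib.Recog.ONan.SixSub
import Cfsg.Prelude.Def_Sporadic

set_option autoImplicit false
set_option maxRecDepth 100000

/-!
The presented O'Nan group is simple (owner: helper9).
-/

namespace CfsgLib.Recog.ONan

open Cfsg

/-- The points fixed along a word. -/
noncomputable def fixedMask (n : ℕ) (ns : List (List (ℕ × ℕ))) : ℕ :=
  Nat.rec (allPts n) (fun k m => Nat.land m (Nat.xor (allPts n) (Nat.xor (pullWord ns (plane n k)) (plane n k)))) n

theorem fixedMask_testBit {n : ℕ} {ns : List (List (ℕ × ℕ))} (hok : ns.all (netOK n) = true) {p : ℕ}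
    (hp : p < 2 ^ n) (h : wordAt ns p = p) : (fixedMask n ns).testBit p = true := by
  have key : ∀ j ≤ n, (Nat.rec (allPts n) (fun k m =>
      Nat.land m (Nat.xor (allPts n) (Nat.xor (pullWord ns (plane n k)) (plane n k)))) j : ℕ).testBit p = true := by
    intro j hj
    induction j with
    | zero => show (allPts n).testBit p = true; rw [allPts_testBit, decide_eq_true_eq]; exact hp
    | succ k ih =>
      show (Nat.land _ (Nat.xor (allPts n) (Nat.xor (pullWord ns (plane n k)) (plane n k)))).testBit p = true
      change (_ &&& (allPts n ^^^ (pullWord ns (plane n k) ^^^ plane n k))).testBit p = true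
      rw [Nat.testBit_and, ih (by omega), Nat.testBit_xor, Nat.testBit_xor, pullWord_testBit hok, h, allPts_testBit]
      simp [hp]
  exact key n le_rfl

/-- A word whose value has order nineteen. -/
def nineteenWord : List ℕ := [6, 5, 3, 4, 1, 2]

theorem nineteen_one_fix :
    Nat.land (fixedMask 17 (nineteenWord.map mainData.net)) (Nat.sub (Nat.shiftLeft 1 122760) 1) = 1 := by
  decide +kernel

theorem nineteen_pow : trivWord (List.flatten (List.replicate 19 nineteenWord.reverse)) = true := by decide +kernel

/-- The element of order nineteen. -/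
noncomputable def nineteen : GON := (nineteenWord.reverse.map lgen).prod

theorem nineteen_mem : nineteen ∈ sixSub :=
  Subgroup.list_prod_mem _ fun g hg => by
    obtain ⟨x, hx, rfl⟩ := List.mem_map.1 hg
    exact Subgroup.subset_closure ⟨x, by
      simp [nineteenWord] at hx
      rcases hx with rfl | rfl | rfl | rfl | rfl | rfl <;> decide, rfl⟩

theorem nineteen_pow_eq_one : nineteen ^ 19 = 1 := by
  have hlet : ∀ x ∈ nineteenWord.reverse, 1 ≤ x ∧ x ≤ 6 := by decide
  have h1 : nineteen = rho ((nineteenWord.reverse.map tgen).prod) := by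
    rw [nineteen, map_list_prod, List.map_map]
    exact congrArg List.prod (List.map_congr_left fun x hx => (rho_tgen (hlet x hx).1 (hlet x hx).2).symm)
  have h2 : ∀ m : ℕ, ((List.flatten (List.replicate m nineteenWord.reverse)).map tgen).prod =
      ((nineteenWord.reverse.map tgen).prod) ^ m := by
    intro m
    induction m with
    | zero => simp
    | succ m ih => rw [List.replicate_succ, List.flatten_cons, List.map_append, List.prod_append, ih, pow_succ']
  rw [h1, ← map_pow, ← h2, trivWord_spec nineteen_pow, map_one]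

theorem nineteen_fixed {c : GON ⧸ sixSub} (h : nineteen • c = c) : c = ((1 : GON) : GON ⧸ sixSub) := by
  obtain ⟨v, hv, hpt⟩ := coset_bijection
  obtain ⟨p, hp, rfl⟩ := hv.surjOn (Set.mem_univ c)
  obtain ⟨o, ho, ho'⟩ := hv.surjOn (Set.mem_univ ((1 : GON) : GON ⧸ sixSub))
  have e0 : o = 0 := by
    rw [← hpt o ho, ho', cosetPt_mk, map_one]; rfl
  have e := congrArg (fun q => (cosetPt q : ℕ)) h
  simp only [cosetPt_smul] at e
  rw [nineteen, phi_word, hpt p hp] at e
  have hbit : (Nat.land (fixedMask 17 (nineteenWord.map mainData.net))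
      (Nat.sub (Nat.shiftLeft 1 122760) 1)).testBit p = true := by
    change ((fixedMask 17 _) &&& (Nat.sub (Nat.shiftLeft 1 122760) 1)).testBit p = true
    rw [Nat.testBit_and, fixedMask_testBit (by simp [List.all_eq_true, net_ok]) (Set.mem_Iio.1 hp |>.trans (by norm_num)) e,
      testBit_ones]
    simpa using hp
  rw [nineteen_one_fix, Nat.testBit_one_eq_true_iff_self_eq_zero] at hbit
  rw [hbit, ← e0, ho']

theorem nineteen_ne_one : nineteen ≠ 1 := by
  intro h
  obtain ⟨v, hv, hpt⟩ := coset_bijection
  have h1 := nineteen_fixed (c := v 1) (by rw [h, one_smul])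
  have h2 := hpt 1 (by omega)
  rw [h1, cosetPt_mk, map_one] at h2
  exact absurd h2 (by decide)

/-- Identifying `a` and `b` collapses the group. -/
theorem collapse {Q : Type*} [Group Q] (f : GON →* Q) (hab : f (lgen 1) = f (lgen 2)) :
    ∀ u : GON, f u = 1 := by
  have hrel : ∀ r ∈ relList, FreeGroup.lift (fun y => f (PresentedGroup.of y)) r = 1 := fun r hr => by
    rw [show FreeGroup.lift (fun y => f (PresentedGroup.of y)) =
      f.comp (PresentedGroup.mk (Spor.coxRelators Spor.ON.edges ∪ {r | r ∈ Spor.ON.extra}))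
      from FreeGroup.ext_hom _ _ fun y => by simp [PresentedGroup.of], MonoidHom.comp_apply,
      PresentedGroup.one_of_mem (relList_mem hr), map_one]
  have sq : ∀ y : Spor.ON.Gen, y ≠ .g → f (PresentedGroup.of y) * f (PresentedGroup.of y) = 1 := fun y hy => by
    rw [← map_mul, node_sq hy, map_one]
  set A := f (PresentedGroup.of Spor.ON.Gen.a) with hA
  set B := f (PresentedGroup.of Spor.ON.Gen.b) with hB
  set C := f (PresentedGroup.of Spor.ON.Gen.c) with hC
  set D := f (PresentedGroup.of Spor.ON.Gen.d) with hD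
  set E := f (PresentedGroup.of Spor.ON.Gen.e) with hE
  set F := f (PresentedGroup.of Spor.ON.Gen.f) with hF
  set T := f (PresentedGroup.of Spor.ON.Gen.g) with hT
  have cox : ∀ x y, x ∈ Spor.coxNodes Spor.ON.edges → y ∈ Spor.coxNodes Spor.ON.edges →
      (f (PresentedGroup.of x) * f (PresentedGroup.of y)) ^ Spor.coxLabel Spor.ON.edges x y = 1 := by
    intro x y hx hy
    have := hrel _ (List.mem_append_left _ (List.mem_flatMap.2 ⟨x, hx, List.mem_map.2 ⟨y, hy, rfl⟩⟩))
    simpa using this
  -- two involutions with product of order dividing three that commute are equal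
  have merge : ∀ x y : Q, x * x = 1 → y * y = 1 → (x * y) ^ 3 = 1 → (x * y) ^ 2 = 1 → x = y := by
    intro x y hx hy h3 h2
    have : x * y = 1 := by rw [pow_succ, h2, one_mul] at h3; exact h3
    calc x = x * (y * y) := by rw [hy, mul_one]
      _ = y := by rw [← mul_assoc, this, one_mul]
  have hab' : A = B := hab
  have hcb : A = C := merge A C (sq _ (by decide)) (sq _ (by decide))
    (by rw [hab']; exact cox .b .c (by decide) (by decide)) (cox .a .c (by decide) (by decide))
  have hcd : (C * D) ^ 2 = 1 := by rw [← hcb]; exact cox .a .d (by decide) (by decide)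
  have hfa : A = F := by
    have h := hrel _ (List.mem_append_right _ (show (Spor.ON.a * Spor.ON.f) * (((Spor.ON.c * Spor.ON.d) ^ 4)⁻¹) ∈
      Spor.ON.extra by simp [Spor.ON.extra]))
    simp only [map_mul, map_inv, map_pow, FreeGroup.lift_apply_of] at h
    rw [← hA, ← hF, ← hC, ← hD, show (C * D) ^ 4 = ((C * D) ^ 2) ^ 2 by rw [← pow_mul], hcd, one_pow, inv_one,
      mul_one] at h
    calc A = A * (F * F) := by rw [sq _ (by decide), mul_one]
      _ = F := by rw [← mul_assoc, h, one_mul]
  have hef : E = F := merge E F (sq _ (by decide)) (sq _ (by decide)) (cox .e .f (by decide) (by decide))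
    (by rw [← hfa]; exact cox .e .a (by decide) (by decide))
  have hde : D = E := merge D E (sq _ (by decide)) (sq _ (by decide)) (cox .d .e (by decide) (by decide))
    (by rw [hef, ← hfa]; exact cox .d .a (by decide) (by decide))
  have hda : D = A := by rw [hde, hef, hfa]
  have hT2 : T * T = 1 := by
    have h := hrel _ (List.mem_append_right _ (show (Spor.ON.a * Spor.ON.f) * ((Spor.ON.g ^ 2)⁻¹) ∈
      Spor.ON.extra by simp [Spor.ON.extra]))
    simp only [map_mul, map_inv, map_pow, FreeGroup.lift_apply_of] at h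
    rw [← hA, ← hF, ← hT, ← hfa, sq _ (by decide), one_mul, inv_eq_one, pow_two] at h
    exact h
  have hA2 : A * A = 1 := sq _ (by decide)
  have h7 : T ^ 4 * A = 1 := by
    have h := hrel _ (List.mem_append_right _ (show Spor.ON.g * Spor.ON.b * (Spor.ON.c⁻¹ * Spor.ON.g * Spor.ON.c) *
      (Spor.ON.b⁻¹ * Spor.ON.g * Spor.ON.b) * (Spor.ON.c⁻¹ * Spor.ON.g * Spor.ON.c) ∈
      Spor.ON.extra by simp [Spor.ON.extra]))
    simp only [map_mul, map_inv, FreeGroup.lift_apply_of] at h
    rw [← hT, ← hB, ← hC, ← hab', ← hcb, inv_eq_of_mul_eq_one_left hA2] at h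
    simp only [mul_assoc] at h
    rw [← mul_assoc A A, hA2, one_mul, ← mul_assoc A A, hA2, one_mul, ← mul_assoc A A, hA2, one_mul] at h
    rw [pow_succ, pow_succ, pow_succ, pow_one]
    simpa [mul_assoc] using h
  have hA1 : A = 1 := by
    rw [show T ^ 4 = (T * T) * (T * T) by simp only [pow_succ, pow_zero, one_mul, mul_assoc], hT2, one_mul, one_mul] at h7
    exact h7
  have hT1 : T = 1 := by
    have h := hrel _ (List.mem_append_right _ (show (Spor.ON.b * Spor.ON.c * Spor.ON.d * Spor.ON.g) ^ 5 ∈
      Spor.ON.extra by simp [Spor.ON.extra]))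
    simp only [map_mul, map_pow, FreeGroup.lift_apply_of] at h
    rw [← hT, ← hB, ← hC, ← hD, ← hab', ← hcb, hda, hA1, one_mul, one_mul, one_mul,
      show T ^ 5 = (T * T) * (T * T) * T by simp only [pow_succ, pow_zero, one_mul, mul_assoc], hT2, one_mul, one_mul] at h
    exact h
  intro u
  have : f = 1 := PresentedGroup.ext fun y => by
    rw [MonoidHom.one_apply]
    cases y
    · exact hT1
    · exact hA1
    · exact hab'.symm.trans hA1
    · exact hcb.symm.trans hA1
    · exact hda.trans hA1
    · exact hef.trans (hfa.symm.trans hA1)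
    · exact hfa.symm.trans hA1
  rw [this, MonoidHom.one_apply]

instance finite_GON : Finite GON := Nat.finite_of_card_ne_zero (by rw [card_GON]; norm_num)

/-- No prime power dividing the index is one more than a multiple of nineteen. -/
theorem index_prime_powers : ∀ p : ℕ, p.Prime → ∀ k : ℕ, 0 < k → p ^ k ∣ 122760 → p ^ k % 19 ≠ 1 := by
  intro p hp k hk hdvd
  have h1 : p ∣ 2 ^ 3 * 3 ^ 2 * 5 * 11 * 31 := by
    rw [show (2 ^ 3 * 3 ^ 2 * 5 * 11 * 31 : ℕ) = 122760 by norm_num]
    exact (dvd_pow_self p hk.ne').trans hdvd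
  have hq : ∀ q : ℕ, q.Prime → p ∣ q → p = q := fun q hq h => (Nat.prime_dvd_prime_iff_eq hp hq).1 h
  rcases hp.dvd_mul.1 h1 with h | h
  · rcases hp.dvd_mul.1 h with h | h
    · rcases hp.dvd_mul.1 h with h | h
      · rcases hp.dvd_mul.1 h with h | h
        · obtain rfl := hq 2 Nat.prime_two (hp.dvd_of_dvd_pow h)
          have : k < 4 := by
            by_contra hk'
            exact absurd ((pow_dvd_pow 2 (Nat.not_lt.1 hk')).trans hdvd) (by norm_num)
          interval_cases k <;> norm_num
        · obtain rfl := hq 3 Nat.prime_three (hp.dvd_of_dvd_pow h)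
          have : k < 3 := by
            by_contra hk'
            exact absurd ((pow_dvd_pow 3 (Nat.not_lt.1 hk')).trans hdvd) (by norm_num)
          interval_cases k <;> norm_num
      · obtain rfl := hq 5 (by norm_num) h
        have : k < 2 := by
          by_contra hk'
          exact absurd ((pow_dvd_pow 5 (Nat.not_lt.1 hk')).trans hdvd) (by norm_num)
        interval_cases k; norm_num
    · obtain rfl := hq 11 (by norm_num) h
      have : k < 2 := by
        by_contra hk'
        exact absurd ((pow_dvd_pow 11 (Nat.not_lt.1 hk')).trans hdvd) (by norm_num)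
      interval_cases k; norm_num
  · obtain rfl := hq 31 (by norm_num) h
    have : k < 2 := by
      by_contra hk'
      exact absurd ((pow_dvd_pow 31 (Nat.not_lt.1 hk')).trans hdvd) (by norm_num)
    interval_cases k; norm_num

theorem normal_trivial {N : Subgroup GON} (hN : N.Normal) (hmeet : N ⊓ sixSub = ⊥) : N = ⊥ := by
  by_contra hne
  have hcent : ∀ n ∈ N, nineteen * n * nineteen⁻¹ = n → n = 1 := by
    intro n hn hcomm
    have hc : nineteen * n = n * nineteen := mul_inv_eq_iff_eq_mul.1 hcomm
    have h1 : nineteen • ((n : GON) : GON ⧸ sixSub) = (n : GON ⧸ sixSub) := by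
      rw [MulAction.Quotient.smul_coe, smul_eq_mul, hc, QuotientGroup.eq]
      simpa using sixSub.inv_mem nineteen_mem
    have h2 := nineteen_fixed h1
    rw [QuotientGroup.eq, mul_one, inv_mem_iff] at h2
    exact Subgroup.mem_bot.1 (hmeet ▸ Subgroup.mem_inf.2 ⟨hn, h2⟩)
  have hdvd : Nat.card N ∣ 122760 := by
    have := hN
    have hinj : Function.Injective ((QuotientGroup.mk' N).comp sixSub.subtype) := by
      rw [← MonoidHom.ker_eq_bot_iff, Subgroup.eq_bot_iff_forall]
      intro k hk
      rw [MonoidHom.mem_ker, MonoidHom.comp_apply, QuotientGroup.mk'_apply, QuotientGroup.eq_one_iff] at hk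
      exact Subtype.ext (Subgroup.mem_bot.1 (hmeet ▸ Subgroup.mem_inf.2 ⟨hk, k.2⟩))
    have h1 : Nat.card N * Nat.card sixSub ∣ Nat.card GON := by
      rw [← N.card_mul_index]
      exact Nat.mul_dvd_mul_left _ (Subgroup.card_dvd_of_injective _ hinj)
    rw [card_GON, card_sixSub, show (460815505920 : ℕ) = 122760 * 3753792 by norm_num] at h1
    exact Nat.dvd_of_mul_dvd_mul_right (by norm_num) h1
  have : N ≠ ⊥ := hne
  have hN1 : Nat.card N ≠ 1 := fun h => hne (Subgroup.card_eq_one.1 h)
  obtain ⟨p, hp, hpdvd⟩ := Nat.exists_prime_and_dvd hN1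
  have : Fact p.Prime := ⟨hp⟩
  have : Fact (Nat.Prime 19) := ⟨by norm_num⟩
  -- the group of order nineteen acts on the Sylow subgroups
  let Y : Subgroup GON := Subgroup.zpowers nineteen
  have hY : Nat.card Y = 19 := by
    rw [Nat.card_zpowers, orderOf_eq_prime nineteen_pow_eq_one nineteen_ne_one]
  have hpg : IsPGroup 19 Y := IsPGroup.of_card (n := 1) (by rw [hY, pow_one])
  let act : Y →* MulAut N := (MulAut.conjNormal (H := N)).comp Y.subtype
  letI : MulDistribMulAction Y N := MulDistribMulAction.compHom N act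
  have hsmul : ∀ (y : Y) (n : N), ((y • n : N) : GON) = (y : GON) * n * (y : GON)⁻¹ := fun y n => rfl
  have hcop : ¬ 19 ∣ Nat.card (Sylow p N) := fun h => by
    have h' := (h.trans ((Sylow.card_dvd_index (default : Sylow p N)).trans
      (Subgroup.index_dvd_card _))).trans hdvd
    norm_num at h'
  obtain ⟨P, hP⟩ := hpg.nonempty_fixed_point_of_prime_not_dvd_card (Sylow p N) hcop
  rw [MulAction.mem_fixedPoints] at hP
  have hPinv : ∀ (y : Y) (n : N), n ∈ (P : Subgroup N) → y • n ∈ (P : Subgroup N) := by
    intro y n hn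
    have h := hP y
    rw [← h]
    exact Subgroup.smul_mem_pointwise_smul n y _ hn
  letI : MulAction Y (P : Subgroup N) :=
    { smul := fun y n => ⟨y • (n : N), hPinv y n n.2⟩
      one_smul := fun n => Subtype.ext (one_smul Y (n : N))
      mul_smul := fun y z n => Subtype.ext (mul_smul y z (n : N)) }
  have hmod := hpg.card_modEq_card_fixedPoints (P : Subgroup N)
  have hfix : MulAction.fixedPoints Y (P : Subgroup N) = {1} := by
    ext n
    rw [MulAction.mem_fixedPoints, Set.mem_singleton_iff]
    constructor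
    · intro h
      have h1 := congrArg (fun z : (P : Subgroup N) => ((z : N) : GON)) (h ⟨nineteen, Subgroup.mem_zpowers _⟩)
      exact Subtype.ext (Subtype.ext (hcent _ (n : N).2 h1))
    · rintro rfl y
      exact Subtype.ext (smul_one y)
  have hone : Nat.card ↥({1} : Set (P : Subgroup N)) = 1 := Set.ncard_singleton (1 : (P : Subgroup N))
  rw [hfix, hone] at hmod
  obtain ⟨k, hk⟩ := P.isPGroup'.exists_card_eq
  rw [hk] at hmod
  rcases Nat.eq_zero_or_pos k with rfl | hkpos
  · rw [pow_zero] at hk
    exact P.ne_bot_of_dvd_card hpdvd (Subgroup.card_eq_one.1 hk)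
  · exact index_prime_powers p hp k hkpos
      ((hk ▸ Subgroup.card_subgroup_dvd_card (P : Subgroup N)).trans hdvd) hmod

/-- The presented group is simple of order 460815505920. -/
theorem isON_GON : Cfsg.IsON GON := by
  refine ⟨?_, card_GON⟩
  have : Nontrivial GON := (Nat.card_eq_one_iff_unique.not.1 (by rw [card_GON]; norm_num) |> fun h => by
    rw [← not_subsingleton_iff_nontrivial]
    exact fun hs => h ⟨hs, ⟨1⟩⟩)
  refine ⟨fun N hN => ?_⟩
  have := hN
  rcases em ((QuotientGroup.mk' N).comp rho (tgen 1 * tgen 2) = 1) with h | h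
  · refine Or.inr (eq_top_iff.2 fun u _ => ?_)
    rw [MonoidHom.comp_apply, map_mul, rho_tgen le_rfl (by omega), rho_tgen (by omega) (by omega), map_mul] at h
    have heq : QuotientGroup.mk' N (lgen 1) = QuotientGroup.mk' N (lgen 2) := by
      have h2 : QuotientGroup.mk' N (lgen 2) * QuotientGroup.mk' N (lgen 2) = 1 := by
        rw [← map_mul, lgen_sq (by omega) (by omega), map_one]
      rw [eq_inv_of_mul_eq_one_left h, ← eq_inv_of_mul_eq_one_left h2]
    exact (QuotientGroup.eq_one_iff u).1 (collapse _ heq u)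
  · refine Or.inl (normal_trivial hN ?_)
    have hinj := target_hom_injective _ h
    rw [Subgroup.eq_bot_iff_forall]
    intro x hx
    obtain ⟨hxN, hxK⟩ := Subgroup.mem_inf.1 hx
    obtain ⟨t, rfl⟩ := rho_range ▸ hxK
    have : t = 1 := hinj (by
      rw [map_one, MonoidHom.comp_apply]
      exact (QuotientGroup.eq_one_iff _).2 hxN)
    rw [this, map_one]

end CfsgLib.Recog.ONan
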