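import Cfsg.Agent.Lib.Recog.ONan.MultSevenChecks
import Cfsg.Agent.Lib.Recog.ONan.OutBound
import Cfsg.Agent.Lib.Recog.ONan.Simple

set_option autoImplicit false
set_option maxRecDepth 100000

/-!
The seven part of the Schur multiplier of the O'Nan group is trivial (owner: helper9).
-/

namespace CfsgLib.Recog.ONan

open Cfsg CfsgLib.Sporadic.Mult MultData

theorem seven_part {Γ : Type*} [Group Γ] [Finite Γ] (σ : Γ →* GON)
    (hσ : Cfsg.IsStemExtension σ) (he : ∀ z ∈ σ.ker, z ^ 7 = 1) :
    ∃ U : Subgroup GON, ¬ 7 ∣ U.index ∧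
      ∀ (z : Γ) (h : z ∈ U.comap σ), z ∈ σ.ker → (⟨z, h⟩ : U.comap σ) ∈ commutator (U.comap σ) →
        z = 1 := by
  obtain ⟨hs, hc, -⟩ := hσ
  obtain ⟨hshape, g1, g3, hpal⟩ := seven_rels_shape
  have hinv := seven_inv_ok
  rw [Bool.and_eq_true] at hinv
  set t : ℕ → GON := fun i => wp (sevenGens.getD i []) with htdef
  have et1 : t 1 = (t 0)⁻¹ := by rw [htdef]; simp only; rw [g1, wp_invWord]
  have et3 : t 3 = (t 2)⁻¹ := by rw [htdef]; simp only; rw [g3, wp_invWord]
  have i0 : wp sevenInv * t 0 = (t 0)⁻¹ * wp sevenInv := by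
    rw [← et1, htdef]; simp only; rw [← wp_append, ← wp_append]
    exact (shows_word _).eq (shows_word _) hinv.1
  have i2 : wp sevenInv * t 2 = (t 2)⁻¹ * wp sevenInv := by
    rw [← et3, htdef]; simp only; rw [← wp_append, ← wp_append]
    exact (shows_word _).eq (shows_word _) hinv.2
  obtain ⟨τ, hτ⟩ := hs (wp sevenInv)
  have key : ∀ g : GON, wp sevenInv * g = g⁻¹ * wp sevenInv → ∃ X : Γ, σ X = g ∧ τ * X * τ⁻¹ = X⁻¹ := by
    intro g hg
    obtain ⟨X0, hX0⟩ := hs g
    have hk : X0 * (τ * X0 * τ⁻¹) ∈ σ.ker := by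
      rw [MonoidHom.mem_ker, map_mul, map_mul, map_mul, map_inv, hτ, hX0, hg,
        mul_inv_cancel_right, mul_inv_cancel]
    set k := X0 * (τ * X0 * τ⁻¹) with hk'
    have hkc : ∀ u, Commute u k := fun u => Subgroup.mem_center_iff.1 (hc hk) u
    have hk4 : k * k ^ 3 = (k ^ 3)⁻¹ := by
      refine (inv_eq_of_mul_eq_one_right ?_).symm
      rw [← pow_succ' k 3, ← pow_add]
      exact he k hk
    refine ⟨X0 * k ^ 3, by rw [map_mul, hX0, map_pow, MonoidHom.mem_ker.1 hk, one_pow, mul_one], ?_⟩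
    calc τ * (X0 * k ^ 3) * τ⁻¹ = τ * X0 * (k ^ 3 * τ⁻¹) := by group
      _ = τ * X0 * (τ⁻¹ * k ^ 3) := by rw [((hkc τ⁻¹).pow_right 3).eq]
      _ = X0⁻¹ * (k * k ^ 3) := by rw [hk']; simp only [mul_assoc, inv_mul_cancel_left]
      _ = X0⁻¹ * (k ^ 3)⁻¹ := by rw [hk4]
      _ = (k ^ 3)⁻¹ * X0⁻¹ := (((hkc X0⁻¹).pow_right 3).inv_right).eq
      _ = (X0 * k ^ 3)⁻¹ := (_root_.mul_inv_rev _ _).symm
  obtain ⟨X, hX, iX⟩ := key _ i0
  obtain ⟨Y, hY, iY⟩ := key _ i2
  let T : ℕ → Γ := fun i => [X, X⁻¹, Y, Y⁻¹].getD i X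
  have ht : ∀ i < 4, σ (T i) = t i := by
    intro i hi
    interval_cases i
    · exact hX
    · exact (map_inv σ X).trans (by rw [hX]; exact et1.symm)
    · exact hY
    · exact (map_inv σ Y).trans (by rw [hY]; exact et3.symm)
  have hconjT : ∀ i < 4, τ * T i * τ⁻¹ = (T i)⁻¹ := by
    intro i hi
    interval_cases i
    · exact iX
    · show τ * X⁻¹ * τ⁻¹ = X⁻¹⁻¹
      simpa [_root_.mul_inv_rev, mul_assoc] using congrArg (fun g : Γ => g⁻¹) iX
    · exact iY
    · show τ * Y⁻¹ * τ⁻¹ = Y⁻¹⁻¹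
      simpa [_root_.mul_inv_rev, mul_assoc] using congrArg (fun g : Γ => g⁻¹) iY
  have hrels : ∀ W ∈ sevenTable.rels, wprod T W = 1 := by
    intro W hW
    rw [show sevenTable.rels = sevenRels from rfl, hshape, List.mem_append] at hW
    rcases hW with hW | hW
    · fin_cases hW <;> simp [wprod, T]
    · obtain ⟨hrev, hlt⟩ := hpal W hW
      have hk : wprod T W ∈ σ.ker := by
        rw [MonoidHom.mem_ker, map_wprod]
        unfold wprod
        rw [List.map_congr_left fun i hi => ht i (hlt i hi)]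
        have hh := List.all_eq_true.1 seven_pal_ok W hW
        rw [Bool.and_eq_true] at hh
        have h : wp (W.map (fun i => sevenGens.getD i [])).flatten = 1 := by
          rw [← rho_word fun x hx => ?_, trivWord_spec hh.2, map_one]
          have := List.all_eq_true.1 hh.1 x hx
          rwa [Bool.and_eq_true, Nat.ble_eq, Nat.ble_eq] at this
        rw [show W.map t = (W.map (fun i => sevenGens.getD i [])).map wp by rw [List.map_map]; rfl]
        rw [← h]
        clear h hh hrev hlt hW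
        generalize W.map (fun i => sevenGens.getD i []) = L
        induction L with
        | nil => rfl
        | cons w L ih => rw [List.map_cons, List.prod_cons, ih, List.flatten_cons, wp_append]
      have hconjW : τ * wprod T W * τ⁻¹ = (wprod T W)⁻¹ := by
        show MulAut.conj τ (wprod T W) = _
        rw [wprod, map_list_prod, List.prod_inv_reverse, List.map_map, List.map_map,
          ← List.map_reverse, hrev]
        exact congrArg List.prod (List.map_congr_left fun i hi => hconjT i (hlt i hi))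
      rw [Subgroup.mem_center_iff.1 (hc hk) τ, mul_inv_cancel_right] at hconjW
      have h2 : wprod T W ^ 2 = 1 := by rw [sq]; exact mul_eq_one_iff_eq_inv.2 hconjW
      have := pow_gcd_eq_one.2 ⟨h2, he _ hk⟩
      rwa [show Nat.gcd 2 7 = 1 from rfl, pow_one] at this
  have hlt : ∀ p < sevenTable.N, ∀ i ∈ sevenTable.wd p, i < sevenTable.k := fun p hp => seven_table_ok.2 ⟨p, hp⟩
  have hinj : Set.InjOn (fun p => wprod t (sevenTable.wd p)) {p | p < sevenTable.N} :=
    SepData.injOn (S := sevenSep) seven_sep_base seven_sep_all seven_sep_nodup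
  obtain ⟨hcard, hU⟩ := complement_of_table σ hs hc seven_table_ok.1 T hrels t ht hlt hinj
  refine ⟨_, fun hd => ?_, hU⟩
  have h := Subgroup.card_mul_index (Subgroup.closure (t '' {i | i < sevenTable.k}))
  rw [hcard, card_GON, show sevenTable.N = 343 from rfl] at h
  have hi : (Subgroup.closure (t '' {i | i < sevenTable.k})).index = 1343485440 := by omega
  rw [hi] at hd
  norm_num at hd

end CfsgLib.Recog.ONan
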