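import Cfsg.Agent.Lib.Recog.ONan.MultThreeSep
import Cfsg.Agent.Lib.Recog.ONan.Simple

set_option autoImplicit false
set_option maxRecDepth 100000

/-!
The three part of the Schur multiplier of the O'Nan group: lifts of one pair of commuting elements decide
(owner: helper9).
-/

namespace CfsgLib.Recog.ONan

open Cfsg MultData

/-- The four generators. -/
noncomputable def threeElt (i : ℕ) : GON := wp (threeGen i)

theorem three_cube {i : ℕ} (hi : i < 4) : threeElt i ^ 3 = 1 := by
  rw [pow_three, ← mul_assoc, threeElt, ← wp_append, ← wp_append]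
  exact (shows_word _).eq_one (List.all_eq_true.1 three_cube_ok i (List.mem_range.2 hi))

theorem three_comm {i j : ℕ} (hi : i < 4) (hj : j < 4) : threeElt i * threeElt j = threeElt j * threeElt i := by
  have key : ∀ e ∈ [(0, 1), (0, 2), (0, 3), (1, 2), (1, 3), (2, 3)],
      threeElt e.1 * threeElt e.2 = threeElt e.2 * threeElt e.1 := fun e he => by
    rw [threeElt, threeElt, ← wp_append, ← wp_append]
    exact (shows_word _).eq (shows_word _) (List.all_eq_true.1 three_comm_ok e he)
  interval_cases i <;> interval_cases j <;> first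
    | rfl
    | exact key (0, 1) (by simp) | exact key (0, 2) (by simp) | exact key (0, 3) (by simp)
    | exact key (1, 2) (by simp) | exact key (1, 3) (by simp) | exact key (2, 3) (by simp)
    | exact (key (0, 1) (by simp)).symm | exact (key (0, 2) (by simp)).symm | exact (key (0, 3) (by simp)).symm
    | exact (key (1, 2) (by simp)).symm | exact (key (1, 3) (by simp)).symm | exact (key (2, 3) (by simp)).symm

theorem three_flip {i : ℕ} (hi : i < 4) :
    wp threeFlip * threeElt i = (if i % 2 = 0 then threeElt i else threeElt i ^ 2) * wp threeFlip := by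
  have h := (shows_word _).eq (shows_word _) (List.all_eq_true.1 three_flip_ok i (List.mem_range.2 hi))
  interval_cases i <;> simpa [wp_append, threeElt, pow_two, mul_assoc] using h

theorem three_shift : wp threeShift * threeElt 0 = threeElt 3 ^ 2 * wp threeShift ∧
    wp threeShift * threeElt 2 = threeElt 1 * threeElt 3 * wp threeShift := by
  have h := three_shift_ok
  rw [Bool.and_eq_true] at h
  constructor
  · simpa [wp_append, threeElt, pow_two, mul_assoc] using (shows_word _).eq (shows_word _) h.1
  · simpa [wp_append, threeElt, mul_assoc] using (shows_word _).eq (shows_word _) h.2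

theorem wp_replicate (w : List ℕ) (n : ℕ) : wp (List.replicate n w).flatten = wp w ^ n := by
  induction n with
  | zero => rw [List.replicate_zero, List.flatten_nil, pow_zero, wp_nil]
  | succ n ih => rw [List.replicate_succ, List.flatten_cons, wp_append, ih, pow_succ']

/-- The elementary group of order 81. -/
noncomputable def threeSub : Subgroup GON := Subgroup.closure (threeElt '' {i | i < 4})

theorem threeSub_comm : ∀ x ∈ threeSub, ∀ y ∈ threeSub, x * y = y * x := by
  have h : threeSub ≤ Subgroup.centralizer (threeElt '' {i | i < 4}) := by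
    rw [threeSub, Subgroup.closure_le]
    rintro _ ⟨i, hi, rfl⟩
    rw [SetLike.mem_coe, Subgroup.mem_centralizer_iff]
    rintro _ ⟨j, hj, rfl⟩
    exact three_comm hj hi
  intro x hx y hy
  have h2 : threeSub ≤ Subgroup.centralizer (threeSub : Set GON) := by
    rw [threeSub, Subgroup.closure_le]
    rintro _ ⟨i, hi, rfl⟩
    rw [SetLike.mem_coe, Subgroup.mem_centralizer_iff]
    intro z hz
    exact (Subgroup.mem_centralizer_iff.1 (h hz) _ ⟨i, hi, rfl⟩).symm
  exact (Subgroup.mem_centralizer_iff.1 (h2 hy) x hx)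

theorem threeSub_cube : ∀ x ∈ threeSub, x ^ 3 = 1 := by
  intro x hx
  induction hx using Subgroup.closure_induction with
  | mem x hx =>
    obtain ⟨i, hi, rfl⟩ := hx
    exact three_cube hi
  | one => exact one_pow 3
  | mul x y hx hy ihx ihy =>
    rw [(show Commute x y from threeSub_comm x hx y hy).mul_pow, ihx, ihy, one_mul]
  | inv x _ ih => rw [inv_pow, ih, inv_one]

theorem move3_word (w : List ℕ) : move3 w (pack3 1 6 12) = pack3 (phi (wp w) ⟨1, by norm_num⟩ : ℕ)
    (phi (wp w) ⟨6, by norm_num⟩ : ℕ) (phi (wp w) ⟨12, by norm_num⟩ : ℕ) := by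
  obtain ⟨e1, e2, e3⟩ := pack3_parts (a := 1) (b := 6) (c := 12) (by norm_num) (by norm_num)
  rw [move3, e1, e2, e3, netK_eq, netK_eq, netK_eq, (shows_word w).2, (shows_word w).2, (shows_word w).2]

theorem card_threeSub : Nat.card threeSub = 81 := by
  have := finite_GON
  have : Fact (Nat.Prime 3) := ⟨Nat.prime_three⟩
  have hge : 81 ≤ Nat.card threeSub := by
    have hmem : ∀ q, wp (threeWordAt q) ∈ threeSub := by
      intro q
      rw [threeWordAt, wp, List.map_flatten, List.prod_flatten]
      refine Subgroup.list_prod_mem _ fun x hx => ?_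
      simp only [List.map_map, List.mem_map, List.mem_range, Function.comp_def] at hx
      obtain ⟨i, hi, rfl⟩ := hx
      rw [← wp, wp_replicate]
      exact pow_mem (show threeElt i ∈ threeSub from Subgroup.subset_closure ⟨i, hi, rfl⟩) _
    let f : Fin 81 → threeSub := fun q => ⟨wp (threeWordAt q), hmem q⟩
    have hf : Function.Injective f := by
      intro p q e
      have e' : wp (threeWordAt p) = wp (threeWordAt q) := congrArg Subtype.val e
      have hp := List.all_eq_true.1 three_images_ok p (List.mem_range.2 p.2)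
      have hq := List.all_eq_true.1 three_images_ok q (List.mem_range.2 q.2)
      rw [Nat.beq_eq, move3_word] at hp hq
      have hp' : (p : ℕ) < threeImages.length := by rw [three_images_nodup.2]; exact p.2
      have hq' : (q : ℕ) < threeImages.length := by rw [three_images_nodup.2]; exact q.2
      rw [e', ← hq, List.getD_eq_getElem _ _ hp', List.getD_eq_getElem _ _ hq'] at hp
      exact Fin.ext ((three_images_nodup.1.getElem_inj_iff).1 hp)
    simpa using Nat.card_le_card_of_injective f hf
  obtain ⟨k, hk⟩ := (show IsPGroup 3 threeSub from fun x => ⟨1, Subtype.ext (by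
    rw [Subgroup.coe_pow, pow_one]; exact threeSub_cube x x.2)⟩).exists_card_eq
  have hd : 3 ^ k ∣ 460815505920 := card_GON ▸ hk ▸ Subgroup.card_subgroup_dvd_card threeSub
  have hk5 : k < 5 := by
    by_contra h
    exact absurd ((pow_dvd_pow 3 (Nat.not_lt.1 h)).trans hd) (by norm_num)
  rw [hk] at hge ⊢
  interval_cases k <;> omega

theorem three_part {Γ : Type*} [Group Γ] [Finite Γ] (σ : Γ →* GON)
    (hσ : Cfsg.IsStemExtension σ) (he : ∀ z ∈ σ.ker, z ^ 3 = 1)
    (h02 : ∀ X Y : Γ, σ X = threeElt 0 → σ Y = threeElt 2 → Commute X Y) :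
    ∃ U : Subgroup GON, ¬ 3 ∣ U.index ∧
      ∀ (z : Γ) (h : z ∈ U.comap σ), z ∈ σ.ker → (⟨z, h⟩ : U.comap σ) ∈ commutator (U.comap σ) →
        z = 1 := by
  obtain ⟨hs, hc, -⟩ := hσ
  have cen : ∀ {z : Γ}, σ z = 1 → ∀ t, Commute t z := fun hz t =>
    Subgroup.mem_center_iff.1 (hc hz) t
  let L : GON → Γ := Function.surjInv hs
  have hL : ∀ g, σ (L g) = g := Function.surjInv_eq hs
  -- whether lifts commute does not depend on the lifts
  have indep : ∀ {g h : GON} {X Y X' Y' : Γ}, σ X = g → σ Y = h → σ X' = g → σ Y' = h → Commute X Y →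
      Commute X' Y' := by
    intro g h X Y X' Y' hX hY hX' hY' hXY
    have hk : σ (X⁻¹ * X') = 1 := by rw [map_mul, map_inv, hX, hX', inv_mul_cancel]
    have hl : σ (Y⁻¹ * Y') = 1 := by rw [map_mul, map_inv, hY, hY', inv_mul_cancel]
    rw [show X' = X * (X⁻¹ * X') by group, show Y' = Y * (Y⁻¹ * Y') by group]
    exact ((hXY.mul_right (cen hl X))).mul_left ((cen hk Y).symm.mul_right ((cen hl _)))
  -- an element fixing one and inverting the other forces commuting lifts
  have kill : ∀ i j, i < 4 → j < 4 → i % 2 = 0 → j % 2 = 1 → Commute (L (threeElt i)) (L (threeElt j)) := by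
    intro i j hi hj hi2 hj2
    set X := L (threeElt i) with hXdef
    set Y := L (threeElt j) with hYdef
    set N := L (wp threeFlip) with hNdef
    set c := X * Y * X⁻¹ * Y⁻¹ with hcdef
    have hck : σ c = 1 := by
      rw [hcdef, map_mul, map_mul, map_mul, map_inv, map_inv, hXdef, hYdef, hL, hL, three_comm hi hj,
        mul_inv_cancel_right, mul_inv_cancel]
    have fi := three_flip hi
    have fj := three_flip hj
    rw [if_pos hi2] at fi
    rw [if_neg (by omega)] at fj
    have hj3 : threeElt j ^ 2 = (threeElt j)⁻¹ :=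
      eq_inv_of_mul_eq_one_left (by rw [← pow_succ]; exact three_cube hj)
    have h1 : σ (N * X * N⁻¹ * X⁻¹) = 1 := by
      rw [map_mul, map_mul, map_mul, map_inv, map_inv, hNdef, hXdef, hL, hL, fi, mul_inv_cancel_right,
        mul_inv_cancel]
    have h2 : σ (N * Y * N⁻¹ * Y) = 1 := by
      rw [map_mul, map_mul, map_mul, map_inv, hNdef, hYdef, hL, hL, fj, mul_inv_cancel_right, hj3, inv_mul_cancel]
    set z := N * X * N⁻¹ * X⁻¹ with hzdef
    set w := N * Y * N⁻¹ * Y with hwdef
    have eX : N * X * N⁻¹ = z * X := by rw [hzdef]; group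
    have eY : N * Y * N⁻¹ = w * Y⁻¹ := by rw [hwdef]; group
    have hcc : ∀ t, Commute t c := cen hck
    have hzw : ∀ t, Commute t (z * w) := cen (by rw [map_mul, h1, h2, one_mul])
    have e1 : X * Y⁻¹ = c * (Y⁻¹ * X) := by
      have e0 : N * (X * Y) * N⁻¹ = N * (c * (Y * X)) * N⁻¹ := by rw [hcdef]; group
      have l : N * (X * Y) * N⁻¹ = z * w * (X * Y⁻¹) := by
        calc N * (X * Y) * N⁻¹ = (N * X * N⁻¹) * (N * Y * N⁻¹) := by group
          _ = z * X * (w * Y⁻¹) := by rw [eX, eY]
          _ = z * (X * w) * Y⁻¹ := by group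
          _ = z * (w * X) * Y⁻¹ := by rw [(cen h2 X).eq]
          _ = z * w * (X * Y⁻¹) := by group
      have r : N * (c * (Y * X)) * N⁻¹ = z * w * (c * (Y⁻¹ * X)) := by
        calc N * (c * (Y * X)) * N⁻¹ = c * ((N * Y * N⁻¹) * (N * X * N⁻¹)) := by
              rw [← mul_assoc N c, (hcc N).eq]; group
          _ = c * (w * Y⁻¹ * (z * X)) := by rw [eX, eY]
          _ = c * (w * (Y⁻¹ * z) * X) := by group
          _ = c * (w * (z * Y⁻¹) * X) := by rw [(cen h1 Y⁻¹).eq]
          _ = c * ((w * z) * (Y⁻¹ * X)) := by group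
          _ = c * ((z * w) * (Y⁻¹ * X)) := by rw [(cen h1 w).eq]
          _ = z * w * (c * (Y⁻¹ * X)) := by rw [← mul_assoc c, (hzw c).eq, mul_assoc]
      rw [l, r] at e0
      exact mul_left_cancel e0
    have e2 : Y⁻¹ * X = c * (X * Y⁻¹) := by
      calc Y⁻¹ * X = Y⁻¹ * (c * (Y * X)) * Y⁻¹ := by rw [hcdef]; group
        _ = (Y⁻¹ * c) * (Y * X) * Y⁻¹ := by group
        _ = (c * Y⁻¹) * (Y * X) * Y⁻¹ := by rw [(hcc Y⁻¹).eq]
        _ = c * (X * Y⁻¹) := by group
    have hc2 : c * c = 1 := by
      have e3 : X * Y⁻¹ = (c * c) * (X * Y⁻¹) := by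
        calc X * Y⁻¹ = c * (Y⁻¹ * X) := e1
          _ = c * (c * (X * Y⁻¹)) := congrArg (c * ·) e2
          _ = c * c * (X * Y⁻¹) := (mul_assoc _ _ _).symm
      exact mul_eq_right.1 e3.symm
    have hc1 : c = 1 := by
      have hgcd : c ^ Nat.gcd 2 3 = 1 := pow_gcd_eq_one.2 ⟨by rw [sq]; exact hc2, he c hck⟩
      rwa [show Nat.gcd 2 3 = 1 from rfl, pow_one] at hgcd
    show X * Y = Y * X
    calc X * Y = c * (Y * X) := by rw [hcdef]; group
      _ = Y * X := by rw [hc1, one_mul]
  -- the last pair is a conjugate of the given one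
  have k13 : Commute (L (threeElt 1)) (L (threeElt 3)) := by
    set N := L (wp threeShift) with hNdef
    set X1 := L (threeElt 1) with hX1
    set X3 := L (threeElt 3) with hX3
    obtain ⟨s1, s2⟩ := three_shift
    have hb : Commute (X3 * X3) (X1 * X3) := by
      refine indep (g := threeElt 3 ^ 2) (h := threeElt 1 * threeElt 3)
        (X := N * L (threeElt 0) * N⁻¹) (Y := N * L (threeElt 2) * N⁻¹) ?_ ?_ ?_ ?_ ?_
      · rw [map_mul, map_mul, map_inv, hNdef, hL, hL, s1, mul_inv_cancel_right]
      · rw [map_mul, map_mul, map_inv, hNdef, hL, hL, s2, mul_inv_cancel_right]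
      · rw [map_mul, hX3, hL, sq]
      · rw [map_mul, hX1, hX3, hL, hL]
      · exact (h02 _ _ (hL _) (hL _)).map (MulAut.conj N).toMonoidHom
    have h1 : Commute (X3 * X3) X1 := by
      have := hb.mul_right (((Commute.refl X3).mul_left (Commute.refl X3)).inv_right)
      rwa [mul_inv_cancel_right] at this
    have hcube : σ (X3 ^ 3) = 1 := by rw [map_pow, hX3, hL, three_cube (by omega)]
    have h2 : Commute ((X3 * X3) * (X3 * X3) * (X3 ^ 3)⁻¹) X1 :=
      (h1.mul_left h1).mul_left ((cen hcube X1).symm.inv_left)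
    rw [show (X3 * X3) * (X3 * X3) * (X3 ^ 3)⁻¹ = X3 by group] at h2
    exact h2.symm
  have pairs : ∀ i j, i < 4 → j < 4 → Commute (L (threeElt i)) (L (threeElt j)) := by
    intro i j hi hj
    interval_cases i <;> interval_cases j <;> first
      | exact Commute.refl _
      | exact kill _ _ (by omega) (by omega) (by rfl) (by rfl)
      | exact (kill _ _ (by omega) (by omega) (by rfl) (by rfl)).symm
      | exact k13 | exact k13.symm
      | exact h02 _ _ (hL _) (hL _) | exact (h02 _ _ (hL _) (hL _)).symm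
  let S : Set Γ := (fun i => L (threeElt i)) '' {i | i < 4} ∪ (σ.ker : Set Γ)
  have hScomm : ∀ a ∈ S, ∀ b ∈ S, a * b = b * a := by
    rintro a (⟨i, hi, rfl⟩ | ha) b (⟨j, hj, rfl⟩ | hb)
    · exact pairs i j hi hj
    · exact cen (MonoidHom.mem_ker.1 hb) _
    · exact (cen (MonoidHom.mem_ker.1 ha) _).symm
    · exact cen (MonoidHom.mem_ker.1 hb) a
  have hK1 : Subgroup.closure S ≤ Subgroup.centralizer S := by
    rw [Subgroup.closure_le]
    exact fun a ha => Subgroup.mem_centralizer_iff.2 fun b hb => hScomm b hb a ha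
  have hK2 : Subgroup.closure S ≤ Subgroup.centralizer (Subgroup.closure S : Set Γ) := by
    rw [Subgroup.closure_le]
    exact fun a ha => Subgroup.mem_centralizer_iff.2 fun b hb =>
      (Subgroup.mem_centralizer_iff.1 (hK1 hb) a ha).symm
  refine ⟨threeSub, fun hd => ?_, fun z hz _ hcom => ?_⟩
  · have h := threeSub.card_mul_index
    rw [card_threeSub, card_GON] at h
    rw [show threeSub.index = 5689080320 by omega] at hd
    norm_num at hd
  · have hle : threeSub.comap σ ≤ Subgroup.closure S := by
      intro x hx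
      have hmap : threeSub ≤ (Subgroup.closure S).map σ := by
        rw [threeSub, Subgroup.closure_le]
        rintro _ ⟨i, hi, rfl⟩
        exact ⟨L (threeElt i), Subgroup.subset_closure (Or.inl ⟨i, hi, rfl⟩), hL _⟩
      obtain ⟨s, hs', e⟩ := hmap hx
      rw [show x = s * (s⁻¹ * x) by group]
      exact mul_mem hs' (Subgroup.subset_closure (Or.inr (MonoidHom.mem_ker.2 (by
        rw [map_mul, map_inv, e, inv_mul_cancel]))))
    have hbot : commutator (threeSub.comap σ) = ⊥ := by
      rw [eq_bot_iff, commutator_def, Subgroup.commutator_le]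
      intro x _ y _
      rw [Subgroup.mem_bot, commutatorElement_eq_one_iff_commute]
      exact Subtype.ext (Subgroup.mem_centralizer_iff.1 (hK2 (hle y.2)) _ (hle x.2))
    rw [hbot, Subgroup.mem_bot] at hcom
    exact congrArg Subtype.val hcom

end CfsgLib.Recog.ONan
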