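import Cfsg.Agent.Lib.Recog.ONan.MultTwo
import Cfsg.Agent.Lib.Recog.ONan.MultThree
import Cfsg.Agent.Lib.Recog.ONan.MultSeven
import Cfsg.Agent.Lib.Recog.ONan.MultCover
import Cfsg.Agent.Lib.Schur.Multiplier

set_option autoImplicit false
set_option maxRecDepth 100000

/-!
The Schur multiplier of the O'Nan group is cyclic of order 3 (owner: helper9).
-/

namespace CfsgLib.Recog.ONan

open Cfsg CfsgLib.Sporadic.Mult
open scoped commutatorElement

theorem cyclic_primes {r : ℕ} (hr : r.Prime) (h2 : r ≠ 2) (h3 : r ≠ 3) (h7 : r ≠ 7)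
    (hd : r ∣ 460815505920) : r * r ∣ 460815505920 → False := by
  intro hsq
  have e : (460815505920 : ℕ) = 2 ^ 9 * 3 ^ 4 * 7 ^ 3 * (5 * (11 * (19 * 31))) := by norm_num
  have hq : ∀ q : ℕ, q.Prime → r ∣ q → r = q := fun q hq h => (Nat.prime_dvd_prime_iff_eq hr hq).1 h
  rw [e] at hd
  rcases hr.dvd_mul.1 hd with hd | hd
  · rcases hr.dvd_mul.1 hd with hd | hd
    · rcases hr.dvd_mul.1 hd with hd | hd
      · exact h2 (hq 2 Nat.prime_two (hr.dvd_of_dvd_pow hd))
      · exact h3 (hq 3 Nat.prime_three (hr.dvd_of_dvd_pow hd))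
    · exact h7 (hq 7 (by norm_num) (hr.dvd_of_dvd_pow hd))
  · rcases hr.dvd_mul.1 hd with hd | hd
    · obtain rfl := hq 5 (by norm_num) hd; norm_num at hsq
    · rcases hr.dvd_mul.1 hd with hd | hd
      · obtain rfl := hq 11 (by norm_num) hd; norm_num at hsq
      · rcases hr.dvd_mul.1 hd with hd | hd
        · obtain rfl := hq 19 (by norm_num) hd; norm_num at hsq
        · obtain rfl := hq 31 (by norm_num) hd; norm_num at hsq

/-- An extension where lifts of the distinguished pair commute is trivial. -/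
theorem ker_eq_bot {Γ : Type*} [Group Γ] [Finite Γ] (σ : Γ →* GON) (hσ : Cfsg.IsStemExtension σ)
    (hcm : ∀ X Y : Γ, σ X = threeElt 0 → σ Y = threeElt 2 → Commute X Y) : σ.ker = ⊥ := by
  have := finite_GON
  refine (Subgroup.eq_bot_iff_forall _).2 fun z hz => ?_
  rw [← orderOf_eq_one_iff]
  by_contra hne
  obtain ⟨r, hr, hrz⟩ := Nat.exists_prime_and_dvd hne
  have := Fact.mk hr
  by_cases h2 : r = 2
  · subst h2
    exact kills_prime σ hσ 2 (fun Δ _ _ τ hτ he => two_part τ hτ he) hz hrz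
  by_cases h7 : r = 7
  · subst h7
    exact kills_prime σ hσ 7 (fun Δ _ _ τ hτ he => seven_part τ hτ he) hz hrz
  by_cases h3 : r = 3
  · subst h3
    refine kills_prime_comm σ hσ 3 {(threeElt 0, threeElt 2)} ?_
      (fun Δ _ _ τ hτ he hS => three_part τ hτ he fun X Y hX hY => hS _ rfl X Y hX hY) hz hrz
    rintro ab rfl X Y hX hY
    exact hcm X Y hX hY
  have key : ∃ U : Subgroup GON, ¬ r ∣ U.index ∧
      ∀ (z : Γ) (h : z ∈ U.comap σ), z ∈ σ.ker → (⟨z, h⟩ : U.comap σ) ∈ commutator (U.comap σ) → z = 1 := by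
    by_cases hd : r ∣ 460815505920
    · obtain ⟨x, hx⟩ := exists_prime_orderOf_dvd_card' (G := GON) r (by rw [card_GON]; exact hd)
      refine ⟨Subgroup.zpowers x, fun h => ?_, fun z h hk hcom => CfsgLib.Known.SL2Mult.trivial_of_mult
        σ hσ _ (CfsgLib.Schur.hasCyclicSchurMultiplier_one_of_isCyclic _) z h hk hcom⟩
      have h1 := Subgroup.card_mul_index (Subgroup.zpowers x)
      rw [Nat.card_zpowers, hx, card_GON] at h1
      exact cyclic_primes hr h2 h3 h7 hd (by rw [← h1]; exact Nat.mul_dvd_mul_left r h)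
    · exact ⟨⊥, by rwa [Subgroup.index_bot, card_GON], fun z h hk hcom =>
        CfsgLib.Known.SL2Mult.trivial_of_mult σ hσ _
          (CfsgLib.Schur.hasCyclicSchurMultiplier_one_of_isCyclic _) z h hk hcom⟩
  obtain ⟨U, hU1, hU2⟩ := key
  exact hU1 (hrz.trans (orderOf_dvd_of_pow_eq_one
    (CfsgLib.Known.SL2Mult.pow_index_eq_one σ hσ U hU2 hz)))

theorem card_ker_le {Γ : Type*} [Group Γ] [Finite Γ] (σ : Γ →* GON) (hσ : Cfsg.IsStemExtension σ) :
    Nat.card σ.ker ≤ 3 := by
  obtain ⟨hs, hc, hder⟩ := hσ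
  obtain ⟨A, hA⟩ := hs (threeElt 0)
  obtain ⟨B, hB⟩ := hs (threeElt 2)
  set z0 := ⁅A, B⁆ with hz0
  have hz : z0 ∈ σ.ker := by
    rw [MonoidHom.mem_ker, map_commutatorElement, hA, hB, commutatorElement_eq_one_iff_commute]
    exact three_comm (by omega) (by omega)
  have hzc : ∀ t, Commute t z0 := fun t => Subgroup.mem_center_iff.1 (hc hz) t
  have hz3 : z0 ^ 3 = 1 := by
    have e : B * A * B⁻¹ = z0⁻¹ * A := by rw [hz0, commutatorElement_def]; group
    have hA3 : A ^ 3 ∈ σ.ker := by rw [MonoidHom.mem_ker, map_pow, hA, three_cube (by omega)]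
    have e2 := congrArg (· ^ 3) e
    simp only [conj_pow, ((hzc A).inv_right).symm.mul_pow] at e2
    rw [Subgroup.mem_center_iff.1 (hc hA3) B, mul_inv_cancel_right, inv_pow] at e2
    exact inv_eq_one.1 (mul_right_cancel (e2.symm.trans (one_mul (A ^ 3)).symm))
  let N : Subgroup Γ := Subgroup.zpowers z0
  have hNk : N ≤ σ.ker := Subgroup.zpowers_le.2 hz
  have : N.Normal := ⟨fun n hn g => by
    rw [Subgroup.mem_center_iff.1 (hc (hNk hn)) g, mul_inv_cancel_right]; exact hn⟩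
  let τ : Γ ⧸ N →* GON := QuotientGroup.lift N σ hNk
  have hτk : τ.ker = σ.ker.map (QuotientGroup.mk' N) := by
    ext q
    obtain ⟨x, rfl⟩ := QuotientGroup.mk_surjective q
    constructor
    · intro hx; exact ⟨x, hx, rfl⟩
    · rintro ⟨y, hy, e⟩
      show τ (QuotientGroup.mk x) = 1
      rw [← e]; exact hy
  have hτ : Cfsg.IsStemExtension τ := by
    refine ⟨fun q => ?_, ?_, ?_⟩
    · obtain ⟨x, rfl⟩ := hs q; exact ⟨QuotientGroup.mk x, rfl⟩
    · rw [hτk]
      rintro _ ⟨x, hx, rfl⟩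
      refine Subgroup.mem_center_iff.2 fun q => ?_
      obtain ⟨y, rfl⟩ := QuotientGroup.mk_surjective q
      exact congrArg (QuotientGroup.mk' N) (Subgroup.mem_center_iff.1 (hc hx) y)
    · rw [hτk]
      refine (Subgroup.map_mono hder).trans ?_
      rw [commutator_def, commutator_def, Subgroup.map_commutator]
      exact Subgroup.commutator_mono le_top le_top
  have hAB : Commute (A : Γ ⧸ N) (B : Γ ⧸ N) := by
    rw [← commutatorElement_eq_one_iff_commute]
    exact (map_commutatorElement (QuotientGroup.mk' N) A B).symm.trans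
      ((QuotientGroup.eq_one_iff _).2 (Subgroup.mem_zpowers z0))
  have hcm : ∀ X Y : Γ ⧸ N, τ X = threeElt 0 → τ Y = threeElt 2 → Commute X Y := by
    intro X Y hX hY
    have cen : ∀ {w : Γ ⧸ N}, τ w = 1 → ∀ t, Commute t w := fun hw t =>
      Subgroup.mem_center_iff.1 (hτ.2.1 hw) t
    have hk : τ ((A : Γ ⧸ N)⁻¹ * X) = 1 := by
      rw [map_mul, map_inv, hX, show τ (A : Γ ⧸ N) = threeElt 0 from hA, inv_mul_cancel]
    have hl : τ ((B : Γ ⧸ N)⁻¹ * Y) = 1 := by
      rw [map_mul, map_inv, hY, show τ (B : Γ ⧸ N) = threeElt 2 from hB, inv_mul_cancel]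
    rw [show X = (A : Γ ⧸ N) * ((A : Γ ⧸ N)⁻¹ * X) by group, show Y = (B : Γ ⧸ N) * ((B : Γ ⧸ N)⁻¹ * Y) by group]
    exact (hAB.mul_right (cen hl _)).mul_left ((cen hk _).symm.mul_right (cen hl _))
  have hbot := ker_eq_bot τ hτ hcm
  have hle : σ.ker ≤ N := fun x hx =>
    (QuotientGroup.eq_one_iff x).1 ((Subgroup.eq_bot_iff_forall _).1 hbot _ (hτk ▸ ⟨x, hx, rfl⟩))
  refine (Subgroup.card_le_of_le hle).trans ?_
  rw [Nat.card_zpowers]
  exact Nat.le_of_dvd (by norm_num) (orderOf_dvd_of_pow_eq_one hz3)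

/-- A stem extension with kernel of order three decides the multiplier. -/
theorem multiplier_of_stem {Δ : Type*} [Group Δ] (π : Δ →* GON) (hπ : Cfsg.IsStemExtension π)
    (hcard : Nat.card π.ker = 3) : Cfsg.HasCyclicSchurMultiplier GON 3 := by
  have : Fact (Nat.Prime 3) := ⟨Nat.prime_three⟩
  have : IsCyclic π.ker := isCyclic_of_prime_card hcard
  have hA : Nat.card (Multiplicative (ZMod 3)) = 3 := by simp
  refine CfsgLib.Schur.hasSchurMultiplier_of_witness π hπ (mulEquivOfCyclicCardEq (hcard.trans hA.symm)) ?_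
  intro Γ _ _ σ hσ
  rw [hA]
  exact card_ker_le σ hσ

theorem multiplier_GON : Cfsg.HasCyclicSchurMultiplier GON 3 :=
  @multiplier_of_stem coverGroup _ coverMap coverMap_stem card_coverMap_ker

end CfsgLib.Recog.ONan
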