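import Cfsg.Agent.Lib.Recog.ONan.Group

set_option autoImplicit false
set_option maxRecDepth 100000

/-!
The derived relations hold in the presented O'Nan group (owner: helper9).
-/

namespace CfsgLib.Recog.ONan

open Cfsg
open CfsgLib.ThreeTrans.CosetIndex (actW actW_eq)

theorem lgen_fifteen : lgen 15 = 1 := rfl

theorem phi_lgen' (x : ℕ) : phi (lgen x) = letterPerm x := by
  rcases lt_or_ge x 8 with hx | hx
  · exact phi_lgen x hx
  · obtain ⟨n, rfl⟩ : ∃ n, x = n + 8 := ⟨x - 8, by omega⟩
    rw [show lgen (n + 8) = 1 from rfl, map_one]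
    refine Equiv.ext fun p => Fin.ext ?_
    rw [letterPerm_val, Data.net, List.getD_eq_default _ _ (by rw [mainData_len]; omega)]
    rfl

/-- The permutation of a word. -/
theorem phi_word : ∀ (w : List ℕ) (p : Fin (2 ^ 17)),
    ((phi ((w.reverse.map lgen).prod) p : Fin (2 ^ 17)) : ℕ) = wordAt (w.map mainData.net) p
  | [], p => by
    rw [List.reverse_nil, List.map_nil, List.prod_nil, map_one]
    rfl
  | x :: w, p => by
    rw [List.reverse_cons, List.map_append, List.prod_append, List.map_singleton, List.prod_singleton, map_mul,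
      Equiv.Perm.mul_apply, phi_word w, phi_lgen']
    rfl

theorem phi_word_eq_one {w : List ℕ} (h : fixesAll 17 (w.map mainData.net) = true) :
    phi ((w.reverse.map lgen).prod) = 1 :=
  Equiv.ext fun p => Fin.ext (by
    rw [phi_word]
    exact fixesAll_elim (by simp [List.all_eq_true, net_ok]) h p.2)

/-- A context over one point. -/
theorem ctx_point {X : Type*} [MulAction GON X] {rels : List (List ℕ)}
    (h : ∀ w ∈ rels, (w.reverse.map lgen).prod = 1) :
    Ctx (X := X) lgen ⟨0, [], [7, 1, 2, 3, 4, 5, 6, 0], rels⟩ := by
  have hi : ∀ x, Data.inv ⟨0, [], [7, 1, 2, 3, 4, 5, 6, 0], rels⟩ x = ivl x := fun x => mainData_inv x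
  refine ⟨fun _ => rfl, fun x => by rw [hi, hi, ivl_ivl], fun x => by rw [hi]; exact lgen_inv x, lgen_fifteen,
    fun x p => rfl, fun w hw q => by rw [actW_eq, h w hw, one_smul], fun w _ p _ => ?_⟩
  have key : ∀ (u : List ℕ) (q : ℕ),
      wordAt (u.map (Data.net ⟨0, [], [7, 1, 2, 3, 4, 5, 6, 0], rels⟩)) q = q := by
    intro u
    induction u with
    | nil => exact fun q => rfl
    | cons x u ih => exact fun q => ih q
  exact key w p

/-- The data for the commutation proofs. -/
def dataComm : Data := ⟨0, [], [7, 1, 2, 3, 4, 5, 6, 0], baseSeqs⟩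

/-- The data for the swap proof. -/
def dataSwap : Data := ⟨0, [], [7, 1, 2, 3, 4, 5, 6, 0], baseSeqs ++ extraSeqs.take 6⟩

theorem closerA_ok : closeOK dataComm [0, 0, 0, 0, 0, 0, 0, 0, 1] closerCommA closerCommAWord = true := by
  decide +kernel

theorem closerF_ok : closeOK dataComm [0, 0, 0, 0, 0, 0, 0, 0, 1] closerCommF closerCommFWord = true := by
  decide +kernel

theorem closerCD_ok : closeOK dataComm [0, 0, 0, 0, 0, 0, 0, 0, 1] closerCommCD closerCommCDWord = true := by
  decide +kernel

theorem closerSwap_ok : closeOK dataSwap [0, 1, 1, 1, 1, 1, 1, 0, 1] closerSwap closerSwapWord = true := by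
  decide +kernel

theorem swap_fixes : fixesAll 17 (closerSwapWord.map mainData.net) = true := by decide +kernel

theorem comm_one {B : Burst} {w : List ℕ} (h : closeOK dataComm [0, 0, 0, 0, 0, 0, 0, 0, 1] B w = true) :
    (w.reverse.map lgen).prod = 1 := by
  have hctx : Ctx (X := GON) lgen dataComm := ctx_point fun _ hw => base_one hw
  obtain ⟨hs, -⟩ := sound_start (a := lgen) (D := dataComm) (q0 := (1 : GON))
    (s := [0, 0, 0, 0, 0, 0, 0, 0, 1]) rfl (fun x hx => Or.inl (by interval_cases x <;> rfl))
  have := closeOK_sound hctx hs h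
  rwa [actW_eq, smul_eq_mul, mul_one] at this

theorem extra_first (w : List ℕ) (hw : w ∈ extraSeqs.take 6) : (w.reverse.map lgen).prod = 1 := by
  have hsrc : (extraSeqs.take 6).all (fun w => [closerCommAWord, closerCommFWord, closerCommCDWord].contains w ||
      [closerCommAWord, closerCommFWord, closerCommCDWord].contains (w.reverse.map ivl)) = true := by decide +kernel
  have hproved : ∀ v ∈ [closerCommAWord, closerCommFWord, closerCommCDWord], (v.reverse.map lgen).prod = 1 := by
    intro v hv
    simp only [List.mem_cons, List.not_mem_nil, or_false] at hv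
    rcases hv with rfl | rfl | rfl
    · exact comm_one closerA_ok
    · exact comm_one closerF_ok
    · exact comm_one closerCD_ok
  have h := List.all_eq_true.1 hsrc w hw
  simp only [Bool.or_eq_true, List.contains_iff_mem] at h
  rcases h with h | h
  · exact hproved w h
  · have h1 := hproved _ h
    rw [prod_ivl lgen lgen_inv, inv_eq_one] at h1
    exact h1

theorem swap_one : (closerSwapWord.reverse.map lgen).prod = 1 := by
  have hctx : Ctx (X := GON ⧸ sixSub) lgen dataSwap := ctx_point fun w hw => by
    rcases List.mem_append.1 hw with h | h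
    · exact base_one h
    · exact extra_first w h
  obtain ⟨hs, -⟩ := sound_start (a := lgen) (D := dataSwap) (q0 := ((1 : GON) : GON ⧸ sixSub))
    (s := [0, 1, 1, 1, 1, 1, 1, 0, 1]) rfl (fun x hx => by
      interval_cases x
      · exact Or.inl rfl
      all_goals first
        | exact Or.inl rfl
        | (refine Or.inr ⟨rfl, ?_, rfl⟩
           rw [MulAction.Quotient.smul_coe, QuotientGroup.eq, smul_eq_mul, mul_one, mul_one]
           exact inv_mem (Subgroup.subset_closure ⟨_, by simp, rfl⟩)))
  have h := closeOK_sound hctx hs closerSwap_ok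
  rw [actW_eq, MulAction.Quotient.smul_coe, QuotientGroup.eq, smul_eq_mul, mul_one, mul_one, inv_mem_iff] at h
  exact six_faithful h (phi_word_eq_one swap_fixes)

/-- All sequences used by the propagation hold. -/
theorem seq_holds {w : List ℕ} (hw : w ∈ baseSeqs ++ extraSeqs) : (w.reverse.map lgen).prod = 1 := by
  rcases List.mem_append.1 hw with h | h
  · exact base_one h
  · have hsrc : extraSeqs.all (fun w => (extraSeqs.take 6).contains w || w == closerSwapWord ||
        w.reverse.map ivl == closerSwapWord) = true := by decide +kernel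
    have h' := List.all_eq_true.1 hsrc w h
    simp only [Bool.or_eq_true, List.contains_iff_mem, beq_iff_eq] at h'
    rcases h' with (h' | rfl) | h'
    · exact extra_first w h'
    · exact swap_one
    · have h1 := swap_one
      rw [← h', prod_ivl lgen lgen_inv, inv_eq_one] at h1
      exact h1

end CfsgLib.Recog.ONan
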