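import Cfsg.Agent.Lib.Classical.SLGroup
import Cfsg.Agent.Lib.Recog.ONan.towAData
import Cfsg.Agent.Lib.Recog.ONan.towBData

set_option autoImplicit false
set_option maxRecDepth 100000

/-!
`PSL(3,7)` extended by the inverse-transpose automorphism, with six involutions generating it (owner: helper9).
-/

namespace CfsgLib.Recog.ONan

open Matrix

local instance : Fact (Nat.Prime 7) := ⟨by norm_num⟩

/-- The special linear group of degree three over seven elements. -/
abbrev SL37 : Type := Matrix.SpecialLinearGroup (Fin 3) (ZMod 7)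

/-- Its projective quotient. -/
abbrev PSL37 : Type := Matrix.ProjectiveSpecialLinearGroup (Fin 3) (ZMod 7)

/-- The class of a matrix. -/
def pmk : SL37 →* PSL37 := QuotientGroup.mk' _

theorem invT_aux (A : SL37) : (A⁻¹.transpose)⁻¹.transpose = A := by
  have h : A.transpose * A⁻¹.transpose = 1 := by
    apply Subtype.ext
    rw [Matrix.SpecialLinearGroup.coe_mul, Matrix.SpecialLinearGroup.coe_transpose,
      Matrix.SpecialLinearGroup.coe_transpose, ← Matrix.transpose_mul, ← Matrix.SpecialLinearGroup.coe_mul,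
      inv_mul_cancel, Matrix.SpecialLinearGroup.coe_one, Matrix.transpose_one]
  rw [inv_eq_of_mul_eq_one_left h]
  exact Subtype.ext (Matrix.transpose_transpose _)

/-- The inverse transpose. -/
noncomputable def invT : SL37 ≃* SL37 where
  toFun A := A⁻¹.transpose
  invFun A := A⁻¹.transpose
  left_inv A := invT_aux A
  right_inv A := invT_aux A
  map_mul' A B := by
    apply Subtype.ext
    simp [_root_.mul_inv_rev, Matrix.transpose_mul]

theorem invT_center : (Subgroup.center SL37).map (invT : SL37 →* SL37) = Subgroup.center SL37 := by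
  ext x
  rw [Subgroup.mem_map, Subgroup.mem_center_iff]
  constructor
  · rintro ⟨y, hy, rfl⟩ g
    obtain ⟨g, rfl⟩ := invT.surjective g
    show invT g * invT y = invT y * invT g
    rw [← map_mul, ← map_mul, Subgroup.mem_center_iff.1 hy g]
  · intro h
    refine ⟨invT.symm x, Subgroup.mem_center_iff.2 fun g => ?_, invT.apply_symm_apply x⟩
    apply invT.injective
    rw [map_mul, map_mul, MulEquiv.apply_symm_apply]
    exact h _

/-- The outer automorphism. -/
noncomputable def sigma : MulAut PSL37 := QuotientGroup.congr _ _ invT invT_center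

theorem sigma_pmk (A : SL37) : sigma (pmk A) = pmk (invT A) := rfl

theorem sigma_sq : sigma * sigma = 1 := by
  ext x
  obtain ⟨A, rfl⟩ := QuotientGroup.mk'_surjective _ x
  show sigma (sigma (pmk A)) = pmk A
  rw [sigma_pmk, sigma_pmk]
  exact congrArg pmk (invT.left_inv A)

/-- The extension. -/
abbrev Target : Type := PSL37 ⋊[(Subgroup.zpowers sigma).subtype] Subgroup.zpowers sigma

def genMat : Fin 6 → Matrix (Fin 3) (Fin 3) (ZMod 7) := ![
  !![1, 0, 0; 0, 1, 0; 0, 0, 1],
  !![1, 0, 0; 0, 2, 0; 0, 0, 4],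
  !![1, 2, 2; 2, 1, 5; 2, 5, 1],
  !![0, 0, 3; 0, 3, 0; 3, 0, 0],
  !![0, 1, 0; 1, 0, 0; 0, 0, 6],
  !![0, 0, 1; 0, 6, 0; 1, 0, 0]]

def genDual : Fin 6 → Matrix (Fin 3) (Fin 3) (ZMod 7) := ![
  !![1, 0, 0; 0, 1, 0; 0, 0, 1],
  !![1, 0, 0; 0, 4, 0; 0, 0, 2],
  !![4, 1, 1; 1, 4, 6; 1, 6, 4],
  !![0, 0, 5; 0, 5, 0; 5, 0, 0],
  !![0, 1, 0; 1, 0, 0; 0, 0, 6],
  !![0, 0, 1; 0, 6, 0; 1, 0, 0]]

def witMat : Matrix (Fin 3) (Fin 3) (ZMod 7) := !![0, 0, 1; 1, 0, 1; 0, 1, 0]

def witDual : Matrix (Fin 3) (Fin 3) (ZMod 7) := !![6, 0, 1; 1, 0, 0; 0, 1, 0]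

def transWords : List ((Fin 3 × Fin 3) × List ℕ) := [
  ((0, 1), [1, 2, 3, 4, 3, 2, 4, 5, 4, 3, 2, 4, 3, 2, 5, 4, 3, 2, 1, 4, 3, 5, 4, 3, 2, 1]),
  ((0, 2), [2, 1, 3, 5, 4, 3, 2, 6, 5, 4, 3, 2, 4, 3, 2, 4, 5, 4, 3, 2, 4, 3, 5, 4, 3, 2, 6, 5]),
  ((1, 0), [2, 1, 3, 4, 3, 2, 5, 4, 3, 2, 4, 3, 2, 4, 5, 4, 3, 2, 4, 3, 5, 4, 3, 2]),
  ((1, 2), [1, 2, 1, 4, 3, 4, 3, 2, 5, 4, 3, 2, 4, 3, 2, 4, 5, 4, 3, 2, 4, 3, 5, 4, 3, 2, 1, 4]),
  ((2, 0), [1, 2, 1, 5, 4, 3, 4, 3, 2, 5, 4, 3, 2, 4, 3, 2, 4, 5, 4, 3, 2, 4, 3, 5, 4, 3, 2, 1, 4, 5]),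
  ((2, 1), [2, 1, 3, 4, 3, 2, 6, 5, 4, 3, 2, 4, 3, 2, 4, 5, 4, 3, 2, 4, 3, 5, 4, 3, 2, 6])]

theorem gen_det : ∀ i : Fin 6, (genMat i).det = 1 ∧ (genDual i).det = 1 := by decide +kernel

theorem gen_dual : ∀ i : Fin 6, (genDual i)ᵀ * genMat i = 1 := by decide +kernel

theorem wit_det : witMat.det = 1 ∧ witDual.det = 1 := by decide +kernel

theorem wit_dual : witDualᵀ * witMat = 1 ∧ witMat.trace = 0 ∧ witDual.trace ≠ 0 := by decide +kernel

/-- The matrices of the six generators. -/
def genSL (i : Fin 6) : SL37 := ⟨genMat i, (gen_det i).1⟩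

/-- Their inverse transposes. -/
def dualSL (i : Fin 6) : SL37 := ⟨genDual i, (gen_det i).2⟩

theorem invT_eq {A B : SL37} (h : (B : Matrix (Fin 3) (Fin 3) (ZMod 7))ᵀ * A = 1) : invT A = B := by
  have e : B.transpose * A = 1 := Subtype.ext (by simpa using h)
  show A⁻¹.transpose = B
  rw [← eq_inv_of_mul_eq_one_left e]
  exact Subtype.ext (Matrix.transpose_transpose _)

theorem invT_gen (i : Fin 6) : invT (genSL i) = dualSL i := invT_eq (gen_dual i)

/-- An element outside the normal subgroup. -/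
noncomputable def outer (A : SL37) : Target := ⟨pmk A, ⟨sigma, Subgroup.mem_zpowers sigma⟩⟩

/-- The six involutions, numbered from one; other numbers stand for the identity. -/
noncomputable def tgen (x : ℕ) : Target :=
  if h : 1 ≤ x ∧ x ≤ 6 then outer (genSL ⟨x - 1, by omega⟩) else 1

/-- The product of a word, two letters at a time. -/
def evalPairs : List ℕ → Option (Matrix (Fin 3) (Fin 3) (ZMod 7))
  | [] => some 1
  | [_] => none
  | x :: y :: w => if h : (1 ≤ x ∧ x ≤ 6) ∧ (1 ≤ y ∧ y ≤ 6) then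
      (evalPairs w).map (fun P => genMat ⟨x - 1, by omega⟩ * genDual ⟨y - 1, by omega⟩ * P) else none

theorem outer_mul (A B : SL37) : outer A * outer B = ⟨pmk (A * invT B), 1⟩ := by
  apply SemidirectProduct.ext
  · show pmk A * sigma (pmk B) = _
    rw [sigma_pmk, ← map_mul]
  · apply Subtype.ext
    exact sigma_sq

theorem evalPairs_spec : ∀ {w : List ℕ} {P : Matrix (Fin 3) (Fin 3) (ZMod 7)}, evalPairs w = some P →
    ∃ A : SL37, (A : Matrix (Fin 3) (Fin 3) (ZMod 7)) = P ∧ (w.map tgen).prod = ⟨pmk A, 1⟩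
  | [], P, h => by
    refine ⟨1, by simpa [evalPairs] using h, ?_⟩
    rw [map_one]; rfl
  | [_], P, h => by simp [evalPairs] at h
  | x :: y :: w, P, h => by
    rw [evalPairs] at h
    split_ifs at h with hxy
    rw [Option.map_eq_some_iff] at h
    obtain ⟨Q, hQ, rfl⟩ := h
    obtain ⟨A, rfl, hA⟩ := evalPairs_spec hQ
    refine ⟨genSL ⟨x - 1, by omega⟩ * dualSL ⟨y - 1, by omega⟩ * A, rfl, ?_⟩
    rw [List.map_cons, List.map_cons, List.prod_cons, List.prod_cons, ← mul_assoc, hA, tgen, dif_pos hxy.1,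
      tgen, dif_pos hxy.2, outer_mul, invT_gen]
    apply SemidirectProduct.ext
    · show pmk _ * (1 : MulAut PSL37) (pmk A) = _
      rw [MulAut.one_apply, ← map_mul]
    · exact one_mul _

/-- A scalar multiple of the identity, of determinant one. -/
def scalarLike (P : Matrix (Fin 3) (Fin 3) (ZMod 7)) : Bool :=
  decide (P = Matrix.scalar (Fin 3) (P 0 0) ∧ (P 0 0) ^ 3 = 1)

theorem pmk_scalar {A : SL37} (h : scalarLike A = true) : pmk A = 1 := by
  rw [scalarLike, decide_eq_true_eq] at h
  refine (QuotientGroup.eq_one_iff A).2 (Matrix.SpecialLinearGroup.mem_center_iff.2 ⟨_, ?_, h.1.symm⟩)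
  simpa using h.2

/-- A word that is trivial in the extension. -/
def trivWord (w : List ℕ) : Bool := (evalPairs w).elim false scalarLike

theorem trivWord_spec {w : List ℕ} (h : trivWord w = true) : (w.map tgen).prod = 1 := by
  cases he : evalPairs w with
  | none => simp [trivWord, he] at h
  | some P =>
    obtain ⟨A, rfl, hA⟩ := evalPairs_spec he
    rw [hA, pmk_scalar (by simpa [trivWord, he] using h)]
    rfl

theorem tower_words : (towAData.rels ++ towBData.rels).all (fun w => trivWord w.reverse) = true := by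
  decide +kernel

theorem tgen_rel {w : List ℕ} (h : w ∈ towAData.rels ∨ w ∈ towBData.rels) : (w.reverse.map tgen).prod = 1 :=
  trivWord_spec (List.all_eq_true.1 tower_words w (List.mem_append.2 h))

theorem sq_words : (List.range 6).all (fun x => trivWord [x + 1, x + 1]) = true := by decide +kernel

theorem tgen_sq (x : ℕ) : tgen x * tgen x = 1 := by
  by_cases h : 1 ≤ x ∧ x ≤ 6
  · have := trivWord_spec (List.all_eq_true.1 sq_words (x - 1) (List.mem_range.2 (by omega)))
    simpa [Nat.sub_add_cancel h.1] using this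
  · rw [tgen, dif_neg h, one_mul]

theorem tgen_fifteen : tgen 15 = 1 := dif_neg (by omega)

/-- The subgroup generated by the six involutions. -/
noncomputable def span : Subgroup Target := Subgroup.closure {g | ∃ x ∈ [1, 2, 3, 4, 5, 6], g = tgen x}

theorem word_mem_span {w : List ℕ} (h : ∀ x ∈ w, x ∈ [1, 2, 3, 4, 5, 6]) : (w.map tgen).prod ∈ span :=
  Subgroup.list_prod_mem _ fun g hg => by
    obtain ⟨x, hx, rfl⟩ := List.mem_map.1 hg
    exact Subgroup.subset_closure ⟨x, h x hx, rfl⟩

/-- The matrix of a transvection up to a scalar. -/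
def transLike (i j : Fin 3) (P : Matrix (Fin 3) (Fin 3) (ZMod 7)) : Bool :=
  decide (i ≠ j ∧ ∃ c : ZMod 7, c ^ 3 = 1 ∧ P = c • Matrix.transvection i j 1)

theorem trans_words : transWords.all (fun e => e.2.all ([1, 2, 3, 4, 5, 6].contains ·) &&
    (evalPairs e.2).elim false (transLike e.1.1 e.1.2)) = true := by decide +kernel

theorem trans_cover : ∀ i j : Fin 3, i ≠ j → (i, j) ∈ transWords.map Prod.fst := by decide +kernel

theorem inl_mem_span (n : PSL37) : SemidirectProduct.inl n ∈ span := by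
  have key : Subgroup.comap pmk (Subgroup.comap SemidirectProduct.inl span) = ⊤ := by
    refine CfsgLib.Classical.closure_transvection_eq_top _ fun i j hij c => ?_
    have h1 : Matrix.SpecialLinearGroup.transvection hij (1 : ZMod 7) ∈
        Subgroup.comap pmk (Subgroup.comap (SemidirectProduct.inl : PSL37 →* Target) span) := by
      obtain ⟨e, he, hij'⟩ := List.mem_map.1 (trans_cover i j hij)
      have h := List.all_eq_true.1 trans_words e he
      rw [Bool.and_eq_true, List.all_eq_true] at h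
      obtain ⟨hmem, h⟩ := h
      obtain ⟨⟨i', j'⟩, w⟩ := e
      cases hij'
      cases hw : evalPairs w with
      | none => simp [hw] at h
      | some P =>
        obtain ⟨A, rfl, hA⟩ := evalPairs_spec hw
        simp only [hw, Option.elim, transLike, decide_eq_true_eq] at h
        obtain ⟨-, c, hc, hAc⟩ := h
        rw [Subgroup.mem_comap, Subgroup.mem_comap]
        have e2 : pmk A = pmk (Matrix.SpecialLinearGroup.transvection hij (1 : ZMod 7)) := by
          refine (QuotientGroup.eq.2 ?_).symm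
          rw [Matrix.SpecialLinearGroup.mem_center_iff]
          refine ⟨c, by simpa using hc, ?_⟩
          have e4 : ((Matrix.SpecialLinearGroup.transvection hij (1 : ZMod 7))⁻¹ *
              Matrix.SpecialLinearGroup.transvection hij (1 : ZMod 7) : SL37).1 = 1 :=
            congrArg Subtype.val (inv_mul_cancel (Matrix.SpecialLinearGroup.transvection hij (1 : ZMod 7) : SL37))
          rw [Matrix.SpecialLinearGroup.coe_mul, Matrix.SpecialLinearGroup.transvection_coe] at e4
          rw [Matrix.SpecialLinearGroup.coe_mul, hAc, Matrix.mul_smul, Matrix.scalar_apply]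
          simp only [Matrix.transvection] at e4 ⊢
          rw [e4, Matrix.smul_one_eq_diagonal]
        have e3 : (SemidirectProduct.inl (pmk A) : Target) = ⟨pmk A, 1⟩ := rfl
        rw [← e2, e3, ← hA]
        exact word_mem_span fun x hx => List.contains_iff_mem.1 (hmem x hx)
    have hp : ∀ m : ℕ, Matrix.SpecialLinearGroup.transvection hij (m : ZMod 7) ∈
        Subgroup.comap pmk (Subgroup.comap (SemidirectProduct.inl : PSL37 →* Target) span) := by
      intro m
      induction m with
      | zero =>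
        have : Matrix.SpecialLinearGroup.transvection hij ((0 : ℕ) : ZMod 7) = 1 :=
          Subtype.ext (by simp [Matrix.SpecialLinearGroup.transvection_coe, Matrix.transvection])
        rw [this]; exact one_mem _
      | succ m ih =>
        have : Matrix.SpecialLinearGroup.transvection hij ((m + 1 : ℕ) : ZMod 7) =
            Matrix.SpecialLinearGroup.transvection hij (m : ZMod 7) * Matrix.SpecialLinearGroup.transvection hij 1 :=
          Subtype.ext (by
            rw [Matrix.SpecialLinearGroup.coe_mul, Matrix.SpecialLinearGroup.transvection_coe,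
              Matrix.SpecialLinearGroup.transvection_coe, Matrix.SpecialLinearGroup.transvection_coe]
            simpa [Matrix.transvection] using (Matrix.transvection_mul_transvection_same i j hij (m : ZMod 7) 1).symm)
        rw [this]; exact mul_mem ih h1
    simpa [ZMod.natCast_zmod_val] using hp c.val
  obtain ⟨A, rfl⟩ := QuotientGroup.mk'_surjective _ n
  have : A ∈ Subgroup.comap pmk (Subgroup.comap (SemidirectProduct.inl : PSL37 →* Target) span) := by
    rw [key]; trivial
  exact this

theorem span_eq_top : span = ⊤ := by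
  refine eq_top_iff.2 fun g _ => ?_
  rw [← SemidirectProduct.inl_left_mul_inr_right g]
  refine mul_mem (inl_mem_span _) ?_
  have hs : (SemidirectProduct.inr (⟨sigma, Subgroup.mem_zpowers sigma⟩ : Subgroup.zpowers sigma) : Target) ∈ span := by
    have h1 : outer (genSL 0) ∈ span := Subgroup.subset_closure ⟨1, by simp, by rw [tgen, dif_pos (by omega)]; rfl⟩
    have e : outer (genSL 0) = SemidirectProduct.inl (pmk (genSL 0)) *
        SemidirectProduct.inr (⟨sigma, Subgroup.mem_zpowers sigma⟩ : Subgroup.zpowers sigma) :=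
      SemidirectProduct.mk_eq_inl_mul_inr _ _
    rw [e] at h1
    exact (Subgroup.mul_mem_cancel_left _ (inl_mem_span _)).1 h1
  obtain ⟨k, hk⟩ := g.right.2
  have : g.right = (⟨sigma, Subgroup.mem_zpowers sigma⟩ : Subgroup.zpowers sigma) ^ k := Subtype.ext hk.symm
  rw [this, map_zpow]
  exact zpow_mem hs k

theorem card_PSL37 : Nat.card PSL37 = 1876896 := by
  have h1 := CfsgLib.Classical.card_SL (F := ZMod 7) 3 (by omega)
  rw [CfsgLib.Classical.card_SL_eq_gcd_mul_card_PSL] at h1
  rw [ZMod.card, Fintype.card_fin, Fin.prod_univ_three] at h1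
  revert h1
  generalize Nat.card (Matrix.ProjectiveSpecialLinearGroup (Fin 3) (ZMod 7)) = k
  intro h1
  norm_num [show Nat.gcd 3 6 = 3 from rfl] at h1
  omega

/-- The witness matrix. -/
def witSL : SL37 := ⟨witMat, wit_det.1⟩

/-- Its inverse transpose. -/
def witDualSL : SL37 := ⟨witDual, wit_det.2⟩

theorem trace_zero_of_pmk_eq {A B : SL37} (h : pmk A = pmk B)
    (hA : (A : Matrix (Fin 3) (Fin 3) (ZMod 7)).trace = 0) : (B : Matrix (Fin 3) (Fin 3) (ZMod 7)).trace = 0 := by
  have h' := QuotientGroup.eq.1 h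
  obtain ⟨c, -, hc⟩ := Matrix.SpecialLinearGroup.mem_center_iff.1 h'
  have : (B : Matrix (Fin 3) (Fin 3) (ZMod 7)) = c • (A : Matrix (Fin 3) (Fin 3) (ZMod 7)) := by
    have e : A * (A⁻¹ * B) = B := by group
    conv_lhs => rw [← e, Matrix.SpecialLinearGroup.coe_mul, ← hc]
    rw [Matrix.scalar_apply, ← Matrix.smul_one_eq_diagonal, Matrix.mul_smul, Matrix.mul_one]
  rw [this, Matrix.trace_smul, hA, smul_zero]

theorem sigma_not_inner (m : PSL37) : ∃ n : PSL37, m * sigma n * m⁻¹ ≠ n := by
  refine ⟨pmk witSL, fun h => ?_⟩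
  obtain ⟨M, rfl⟩ := QuotientGroup.mk'_surjective _ m
  rw [sigma_pmk, invT_eq (A := witSL) (B := witDualSL) wit_dual.1] at h
  change pmk M * pmk _ * (pmk M)⁻¹ = _ at h
  rw [← map_inv, ← map_mul, ← map_mul] at h
  have := trace_zero_of_pmk_eq h.symm wit_dual.2.1
  rw [Matrix.SpecialLinearGroup.coe_mul, Matrix.SpecialLinearGroup.coe_mul, Matrix.trace_mul_cycle,
    ← Matrix.SpecialLinearGroup.coe_mul, inv_mul_cancel, Matrix.SpecialLinearGroup.coe_one, Matrix.one_mul] at this
  exact wit_dual.2.2 this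

theorem sigma_ne_one : sigma ≠ 1 := fun h => by
  obtain ⟨n, hn⟩ := sigma_not_inner 1
  exact hn (by simp [h])

theorem card_zpowers_sigma : Nat.card (Subgroup.zpowers sigma) = 2 := by
  rw [Nat.card_zpowers, orderOf_eq_prime (p := 2) (by rw [pow_two]; exact sigma_sq) sigma_ne_one]

theorem card_target : Nat.card Target = 3753792 := by
  rw [SemidirectProduct.card, card_PSL37, card_zpowers_sigma]

theorem zpowers_cases (s : Subgroup.zpowers sigma) : (s : MulAut PSL37) = 1 ∨ (s : MulAut PSL37) = sigma := by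
  obtain ⟨k, hk⟩ := s.2
  dsimp only at hk
  rcases Int.even_or_odd' k with ⟨j, rfl | rfl⟩
  · left; rw [← hk, _root_.zpow_mul, zpow_two, sigma_sq, _root_.one_zpow]
  · right; rw [← hk, _root_.zpow_add_one, _root_.zpow_mul, zpow_two, sigma_sq, _root_.one_zpow, one_mul]

/-- A homomorphism on the extension is injective once it separates the first two involutions. -/
theorem target_hom_injective {H : Type*} [Group H] (f : Target →* H)
    (h : f (tgen 1 * tgen 2) ≠ 1) : Function.Injective f := by
  rw [← MonoidHom.ker_eq_bot_iff, Subgroup.eq_bot_iff_forall]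
  intro k hk
  by_contra hk1
  have : IsSimpleGroup PSL37 := CfsgLib.Classical.isSimpleGroup_PSL le_rfl
  set J : Subgroup PSL37 := f.ker.comap SemidirectProduct.inl with hJ
  have hne : J ≠ ⊤ := by
    intro htop
    apply h
    rw [tgen, dif_pos (by omega), tgen, dif_pos (by omega), outer_mul]
    have : pmk (genSL ⟨1 - 1, by omega⟩ * invT (genSL ⟨2 - 1, by omega⟩)) ∈ J := by rw [htop]; trivial
    exact this
  have hbot : J = ⊥ := (IsSimpleGroup.eq_bot_or_eq_top_of_normal J (f.normal_ker.comap _)).resolve_right hne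
  have hcomm : ∀ n : PSL37, k.left * (k.right : MulAut PSL37) n * k.left⁻¹ = n := by
    intro n
    have hc : k * SemidirectProduct.inl n * k⁻¹ * (SemidirectProduct.inl n)⁻¹ ∈ f.ker := by
      rw [show k * SemidirectProduct.inl n * k⁻¹ * (SemidirectProduct.inl n)⁻¹ =
        k * (SemidirectProduct.inl n * k⁻¹ * (SemidirectProduct.inl n)⁻¹) by group]
      exact mul_mem hk (f.normal_ker.conj_mem _ (inv_mem hk) _)
    have e : k * SemidirectProduct.inl n * k⁻¹ = SemidirectProduct.inl (k.left * (k.right : MulAut PSL37) n * k.left⁻¹) := by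
      apply SemidirectProduct.ext <;> simp [mul_assoc]
    rw [e, ← map_inv, ← map_mul] at hc
    have : k.left * (k.right : MulAut PSL37) n * k.left⁻¹ * n⁻¹ ∈ (⊥ : Subgroup PSL37) := hbot ▸ hc
    exact mul_inv_eq_one.1 (Subgroup.mem_bot.1 this)
  rcases zpowers_cases k.right with hs | hs
  · have hr : k.right = 1 := Subtype.ext hs
    have hk' : k = SemidirectProduct.inl k.left := by
      apply SemidirectProduct.ext <;> simp [hr]
    have : k.left ∈ (⊥ : Subgroup PSL37) := hbot ▸ (show k.left ∈ J by rw [hJ, Subgroup.mem_comap, ← hk']; exact hk)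
    exact hk1 (by rw [hk', Subgroup.mem_bot.1 this, map_one])
  · obtain ⟨n, hn⟩ := sigma_not_inner k.left
    exact hn (by have := hcomm n; rwa [hs] at this)

end CfsgLib.Recog.ONan
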