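import Cfsg.Agent.Lib.Recog.ONan.Mask
import Cfsg.Agent.Lib.ThreeTrans.CosetIndex.Core

set_option autoImplicit false

/-!
Bit-parallel propagation of coset actions along relators, with short local enumerations (owner: helper9).

A state is a list of masks: entry `x < 8` marks the points `p` at which the generator `x` is known to take the
coset of `p` to the coset of its image; entry `8` marks the points whose coset is named.
-/

namespace CfsgLib.Recog.ONan

open CfsgLib.ThreeTrans.CosetIndex (Tr fact fsrc fdst flet fld forallFrom forallFrom_elim actW actW_append)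

/-- The permutations of the points, with inverse letters and relators. -/
structure Data where
  L : ℕ
  nets : List (List (ℕ × ℕ))
  iv : List ℕ
  rels : List (List ℕ)

/-- The network of a letter. -/
def Data.net (D : Data) (x : ℕ) : List (ℕ × ℕ) := D.nets.getD x []

/-- The inverse letter. -/
def Data.inv (D : Data) (x : ℕ) : ℕ := D.iv.getD x x

/-- An entry of a state. -/
noncomputable def ent (s : List ℕ) (i : ℕ) : ℕ :=
  List.rec (motive := fun _ => ℕ → ℕ) (fun _ => 0)
    (fun v _ ih i => cond (Nat.beq i 0) v (ih (Nat.sub i 1))) s i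

/-- Adding points to an entry. -/
noncomputable def addAt (s : List ℕ) (i m : ℕ) : List ℕ :=
  List.rec (motive := fun _ => ℕ → List ℕ) (fun _ => [])
    (fun v l ih i => cond (Nat.beq i 0) (Nat.lor v m :: l) (v :: ih (Nat.sub i 1))) s i

/-- One edge and its inverse, on a set of points. -/
noncomputable def addEdges (D : Data) (s : List ℕ) (x S : ℕ) : List ℕ :=
  addAt (addAt s x S) (D.inv x) (pull (D.net (D.inv x)) S)

/-- The named points that a letter takes out of the named points. -/
noncomputable def newPts (D : Data) (s : List ℕ) (x S0 : ℕ) : ℕ :=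
  Nat.land S0 (Nat.xor (ent s 8) (Nat.land (ent s 8) (pull (D.net x) (ent s 8))))

/-- Naming new cosets. -/
noncomputable def growWith (D : Data) (s : List ℕ) (x S0 : ℕ) : List ℕ :=
  cond (Nat.blt x 8 && Nat.blt (D.inv x) 8)
    (addAt (addEdges D s x (newPts D s x S0)) 8 (pull (D.net (D.inv x)) (newPts D s x S0))) s

/-- The points at which all edges of a word are known. -/
noncomputable def chain (D : Data) (s : List ℕ) (w : List ℕ) : ℕ :=
  List.rec 0 (fun y rest ih => cond (List.isEmpty rest) (ent s y) (Nat.land (ent s y) (pull (D.net y) ih))) w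

/-- A rotated relator. -/
def rot (D : Data) (r sh : ℕ) : List ℕ := (D.rels.getD r []).drop sh ++ (D.rels.getD r []).take sh

/-- Closing one relator. -/
noncomputable def ruleWith (D : Data) (s : List ℕ) (w : List ℕ) : List ℕ :=
  List.rec s (fun x rest _ => cond (Nat.blt x 8 && Nat.blt (D.inv x) 8 && !List.isEmpty rest &&
    rest.all (fun y => Nat.blt y 8)) (addEdges D s x (pull (D.net x) (chain D s rest))) s) w

/-- The inverse word. -/
def invW (D : Data) (w : List ℕ) : List ℕ := w.reverse.map D.inv

/-- Following one item: `0` is a known edge, `j + 1` is fact `j`. -/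
noncomputable def walk1 (D : Data) (s : List ℕ) (t : Tr) (lim ref : ℕ) (st : ℕ × List ℕ) :
    Option (ℕ × List ℕ) :=
  match ref with
  | 0 => match st.2 with
    | [] => none
    | y :: ys => cond (Nat.blt y 8 && (ent s y).testBit st.1) (some (netK (D.net y) st.1, ys)) none
  | j + 1 => cond (Nat.blt j lim)
    (cond (Nat.beq (flet (fact t j)) 15)
      (cond (Nat.beq (fsrc (fact t j)) st.1) (some (fdst (fact t j), st.2))
        (cond (Nat.beq (fdst (fact t j)) st.1) (some (fsrc (fact t j), st.2)) none))
      (match st.2 with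
      | [] => none
      | y :: ys => cond (Nat.beq (fsrc (fact t j)) st.1 && Nat.beq y (flet (fact t j)))
          (some (fdst (fact t j), ys))
          (cond (Nat.beq (fdst (fact t j)) st.1 && Nat.beq y (D.inv (flet (fact t j))))
            (some (fsrc (fact t j), ys)) none))) none

/-- Following `k` items from position `off` of a packed record. -/
noncomputable def walk (D : Data) (s : List ℕ) (t : Tr) (lim p off : ℕ) (k : ℕ) (st : ℕ × List ℕ) :
    Option (ℕ × List ℕ) :=
  Nat.rec (motive := fun _ => Option (ℕ × List ℕ)) (some st)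
    (fun j ih => Option.rec none (fun st' => walk1 D s t lim (fld p (off + j)) st') ih) k

/-- A derived fact: relator, rotation, base, and the two chains. -/
noncomputable def deriveOK (D : Data) (s : List ℕ) (t : Tr) (i p : ℕ) : Bool :=
  Nat.blt (fld p 0) D.rels.length &&
  Option.rec false (fun f => Option.rec false (fun b =>
      match b.2 with
      | [] => Nat.beq (flet (fact t i)) 15 &&
          (Nat.beq (fsrc (fact t i)) f.1 && Nat.beq (fdst (fact t i)) b.1)
      | [x] => Nat.beq (flet (fact t i)) (D.inv x) &&
          (Nat.beq (fsrc (fact t i)) f.1 && Nat.beq (fdst (fact t i)) b.1)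
      | _ => false)
      (walk D s t i p (5 + fld p 3) (fld p 4) (fld p 2, invW D f.2)))
    (walk D s t i p 5 (fld p 3) (fld p 2, rot D (fld p 0) (fld p 1)))

/-- Checking consecutive derived facts. -/
noncomputable def derivesOK (D : Data) (s : List ℕ) (t : Tr) (recs : List ℕ) (start : ℕ) : Bool :=
  List.rec (motive := fun _ => ℕ → Bool) (fun _ => true) (fun p _ ih i => deriveOK D s t i p && ih (i + 1))
    recs start

/-- A local enumeration: `nd` definitions, the derived facts, and a target edge. -/
structure Burst where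
  facts : Tr
  nd : ℕ
  recs : List ℕ
  pt : ℕ
  lett : ℕ
  path : ℕ
  len : ℕ

/-- The definitions name fresh nodes in order. -/
noncomputable def defsOK (D : Data) (B : Burst) : Bool :=
  forallFrom (fun i => Nat.beq (fdst (fact B.facts i)) (2 ^ D.L + i) &&
    Nat.blt (fsrc (fact B.facts i)) (2 ^ D.L + i)) 0 B.nd

/-- All facts of an enumeration hold. -/
noncomputable def factsOK (D : Data) (s : List ℕ) (B : Burst) : Bool :=
  defsOK D B && derivesOK D s B.facts B.recs B.nd

/-- The target edge of an enumeration. -/
noncomputable def burstOK (D : Data) (s : List ℕ) (B : Burst) : Bool :=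
  factsOK D s B && (Nat.blt B.lett 8 && Nat.blt (D.inv B.lett) 8) &&
    ((ent s 8).testBit B.pt && (ent s 8).testBit (netK (D.net B.lett) B.pt)) &&
    Option.rec false (fun f => Nat.beq f.1 (netK (D.net B.lett) B.pt) && List.isEmpty f.2)
      (walk D s B.facts (B.nd + B.recs.length) B.path 0 B.len (B.pt, [B.lett]))

/-- A word closes at the base. -/
noncomputable def closeOK (D : Data) (s : List ℕ) (B : Burst) (w : List ℕ) : Bool :=
  factsOK D s B && Option.rec false (fun f => Nat.beq f.1 0 && List.isEmpty f.2)
      (walk D s B.facts (B.nd + B.recs.length) B.path 0 B.len (0, w))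

/-- The operations. -/
inductive Op
  | grow (x : ℕ)
  | step (x p : ℕ)
  | rule (r sh : ℕ)
  | burst (B : Burst)

/-- One operation. -/
noncomputable def Op.apply (D : Data) (s : List ℕ) : Op → List ℕ
  | .grow x => growWith D s x (allPts D.L)
  | .step x p => growWith D s x (Nat.shiftLeft 1 p)
  | .rule r sh => cond (Nat.blt r D.rels.length) (ruleWith D s (rot D r sh)) s
  | .burst B => cond (burstOK D s B)
      (addAt (addAt s B.lett (Nat.shiftLeft 1 B.pt)) (D.inv B.lett)
        (Nat.shiftLeft 1 (netK (D.net B.lett) B.pt))) s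

/-- A sequence of operations. -/
noncomputable def run (D : Data) (s : List ℕ) (ops : List Op) : List ℕ :=
  List.rec (motive := fun _ => List ℕ → List ℕ) (fun s => s) (fun o _ ih s => ih (o.apply D s)) ops s

/-- Equality of states, decided by the kernel. -/
noncomputable def sameState (s t : List ℕ) : Bool :=
  List.rec (motive := fun _ => List ℕ → Bool) (fun t => List.isEmpty t)
    (fun v _ ih t => List.rec false (fun w t' _ => Nat.beq v w && ih t') t) s t

theorem sameState_elim : ∀ {s t : List ℕ}, sameState s t = true → s = t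
  | [], [], _ => rfl
  | [], _ :: _, h => by simp [sameState] at h
  | v :: s, [], h => by simp [sameState] at h
  | v :: s, w :: t, h => by
    have h' : (Nat.beq v w && sameState s t) = true := h
    rw [Bool.and_eq_true] at h'
    rw [Nat.eq_of_beq_eq_true h'.1, sameState_elim h'.2]

theorem ent_addAt : ∀ (s : List ℕ) (i m j : ℕ) (p : ℕ), (ent (addAt s i m) j).testBit p = true →
    (ent s j).testBit p = true ∨ (j = i ∧ m.testBit p = true)
  | [], i, m, j, p, h => by simp [addAt, ent] at h
  | v :: s, i, m, j, p, h => by
    cases i with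
    | zero =>
      have h' : (ent ((v ||| m) :: s) j).testBit p = true := h
      cases j with
      | zero =>
        have h'' : (v ||| m).testBit p = true := h'
        rw [Nat.testBit_or, Bool.or_eq_true] at h''
        exact h''.imp id fun h => ⟨rfl, h⟩
      | succ j => exact Or.inl h'
    | succ i =>
      cases j with
      | zero => exact Or.inl h
      | succ j =>
        exact (ent_addAt s i m j p h).imp id fun h => ⟨by rw [h.1], h.2⟩

theorem ent_addAt_mono : ∀ (s : List ℕ) (i m j : ℕ) (p : ℕ), (ent s j).testBit p = true →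
    (ent (addAt s i m) j).testBit p = true
  | [], i, m, j, p, h => h
  | v :: s, i, m, j, p, h => by
    cases i with
    | zero =>
      cases j with
      | zero =>
        show (v ||| m).testBit p = true
        rw [Nat.testBit_or, show v.testBit p = true from h]; rfl
      | succ j => exact h
    | succ i =>
      cases j with
      | zero => exact h
      | succ j => exact ent_addAt_mono s i m j p h

section Semantics

variable {G X : Type*} [Group G] [MulAction G X] (a : ℕ → G) (q0 : X)

/-- What the letters and relators must satisfy. -/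
structure Ctx (D : Data) : Prop where
  ok : ∀ x, netOK D.L (D.net x) = true
  inv_inv : ∀ x, D.inv (D.inv x) = x
  a_inv : ∀ x, a (D.inv x) * a x = 1
  a_eq : a 15 = 1
  net_inv : ∀ x p, netAt (D.net (D.inv x)) (netAt (D.net x) p) = p
  rel : ∀ w ∈ D.rels, ∀ q : X, actW a w q = q
  perm : ∀ w ∈ D.rels, ∀ p < 2 ^ D.L, wordAt (w.map D.net) p = p

/-- The meaning of a state. -/
def Sound (D : Data) (s : List ℕ) : Prop :=
  ∃ v : ℕ → X, v 0 = q0 ∧ (∀ p, (ent s 8).testBit p = true → p < 2 ^ D.L) ∧
    (∀ x < 8, ∀ p, (ent s x).testBit p = true → (ent s 8).testBit p = true ∧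
      (ent s 8).testBit (netAt (D.net x) p) = true ∧ a x • v p = v (netAt (D.net x) p)) ∧
    ∀ π : X → ℕ, (∀ x q, π (a x • q) = netAt (D.net x) (π q)) → π q0 = 0 →
      ∀ p, (ent s 8).testBit p = true → π (v p) = p

variable {a q0} {D : Data} (hD : Ctx (X := X) a D)
include hD

theorem sound_addAt_pair {s : List ℕ} {v : ℕ → X} {x : ℕ} (hx : x < 8) (hxi : D.inv x < 8) {S T : ℕ}
    (hS : ∀ p, S.testBit p = true → (ent s 8).testBit p = true ∧
      (ent s 8).testBit (netAt (D.net x) p) = true ∧ a x • v p = v (netAt (D.net x) p))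
    (hT : ∀ q, T.testBit q = true → ∃ p, S.testBit p = true ∧ q = netAt (D.net x) p)
    (hv : v 0 = q0 ∧ (∀ p, (ent s 8).testBit p = true → p < 2 ^ D.L) ∧
    (∀ x < 8, ∀ p, (ent s x).testBit p = true → (ent s 8).testBit p = true ∧
      (ent s 8).testBit (netAt (D.net x) p) = true ∧ a x • v p = v (netAt (D.net x) p)) ∧
    ∀ π : X → ℕ, (∀ x q, π (a x • q) = netAt (D.net x) (π q)) → π q0 = 0 →
      ∀ p, (ent s 8).testBit p = true → π (v p) = p) :
    Sound a q0 D (addAt (addAt s x S) (D.inv x) T) := by
  obtain ⟨h0, hb, hg, hpi⟩ := hv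
  have h8 : ∀ p, (ent (addAt (addAt s x S) (D.inv x) T) 8).testBit p = true → (ent s 8).testBit p = true := by
    intro p hp
    rcases ent_addAt _ _ _ _ _ hp with hp | ⟨h, _⟩
    · rcases ent_addAt _ _ _ _ _ hp with hp | ⟨h, _⟩
      · exact hp
      · omega
    · omega
  have h8' : ∀ p, (ent s 8).testBit p = true → (ent (addAt (addAt s x S) (D.inv x) T) 8).testBit p = true :=
    fun p hp => ent_addAt_mono _ _ _ _ _ (ent_addAt_mono _ _ _ _ _ hp)
  refine ⟨v, h0, fun p hp => hb p (h8 p hp), fun y hy p hp => ?_, fun π h1 h2 p hp => hpi π h1 h2 p (h8 p hp)⟩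
  rcases ent_addAt _ _ _ _ _ hp with hp | ⟨rfl, hq⟩
  · rcases ent_addAt _ _ _ _ _ hp with hp | ⟨rfl, hq⟩
    · exact ⟨h8' _ (hg y hy p hp).1, h8' _ (hg y hy p hp).2.1, (hg y hy p hp).2.2⟩
    · exact ⟨h8' _ (hS p hq).1, h8' _ (hS p hq).2.1, (hS p hq).2.2⟩
  · obtain ⟨q, hSq, rfl⟩ := hT p hq
    rw [hD.net_inv]
    refine ⟨h8' _ (hS q hSq).2.1, h8' _ (hS q hSq).1, ?_⟩
    rw [← (hS q hSq).2.2, smul_smul, hD.a_inv, one_smul]

theorem sound_growWith {s : List ℕ} (h : Sound a q0 D s) (h0R : (ent s 8).testBit 0 = true) (x S0 : ℕ) :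
    Sound a q0 D (growWith D s x S0) := by
  unfold growWith
  cases hc : (Nat.blt x 8 && Nat.blt (D.inv x) 8) with
  | false => exact h
  | true =>
    rw [Bool.and_eq_true, Nat.blt_eq, Nat.blt_eq] at hc
    obtain ⟨v, h0, hb, hg, hpi⟩ := h
    set R := ent s 8 with hR
    set S := newPts D s x S0 with hS
    have hSp : ∀ p, S.testBit p = true → R.testBit p = true ∧ R.testBit (netAt (D.net x) p) = false := by
      intro p hp
      have e : S.testBit p = (S0.testBit p && (R.testBit p ^^ (R.testBit p && (pull (D.net x) R).testBit p))) := by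
        rw [hS, newPts]; simp [← hR]
      rw [e, pull_testBit (hD.ok x)] at hp
      revert hp
      cases S0.testBit p <;> cases R.testBit p <;> cases R.testBit (netAt (D.net x) p) <;> simp
    set T := pull (D.net (D.inv x)) S with hT
    have hTp : ∀ q, T.testBit q = S.testBit (netAt (D.net (D.inv x)) q) := fun q => pull_testBit (hD.ok _) _ _
    have hback : ∀ q, netAt (D.net x) (netAt (D.net (D.inv x)) q) = q := by
      intro q; have := hD.net_inv (D.inv x) q; rwa [hD.inv_inv] at this
    let v' : ℕ → X := fun q => if R.testBit q = true then v q else a x • v (netAt (D.net (D.inv x)) q)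
    have hv' : ∀ q, R.testBit q = true → v' q = v q := fun q hq => if_pos hq
    set s' := cond true (addAt (addEdges D s x S) 8 T) s with hs'
    have h8 : ∀ p, (ent s' 8).testBit p = true → R.testBit p = true ∨ T.testBit p = true := by
      intro p hp
      rcases ent_addAt _ _ _ _ _ hp with hp | ⟨_, hp⟩
      · rcases ent_addAt _ _ _ _ _ hp with hp | ⟨h, _⟩
        · rcases ent_addAt _ _ _ _ _ hp with hp | ⟨h, _⟩
          · exact Or.inl hp
          · omega
        · omega
      · exact Or.inr hp
    have hold : ∀ i p, (ent s i).testBit p = true → (ent s' i).testBit p = true :=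
      fun i p hp => ent_addAt_mono _ _ _ _ _ (ent_addAt_mono _ _ _ _ _ (ent_addAt_mono _ _ _ _ _ hp))
    have hlen : ∀ (t : List ℕ) (i m p : ℕ), i < t.length → m.testBit p = true →
        (ent (addAt t i m) i).testBit p = true := by
      intro t
      induction t with
      | nil => intro i m p hi; simp at hi
      | cons w t ih =>
        intro i m p hi hm
        cases i with
        | zero => show (w ||| m).testBit p = true; simp [hm]
        | succ i => exact ih i m p (by simpa using hi) hm
    have hlen8 : ∀ t : List ℕ, (ent t 8).testBit 0 = true → 8 < t.length := by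
      intro t ht
      by_contra hle
      have : ∀ (t : List ℕ) (i : ℕ), t.length ≤ i → ent t i = 0 := by
        intro t
        induction t with
        | nil => intro i _; rfl
        | cons w t ih =>
          intro i hi
          cases i with
          | zero => simp at hi
          | succ i => exact ih i (by simpa using hi)
      rw [this t 8 (Nat.not_lt.1 hle)] at ht; simp at ht
    have hnew : ∀ p, T.testBit p = true → (ent s' 8).testBit p = true := fun p hp =>
      hlen _ _ _ _ (hlen8 _ (ent_addAt_mono _ _ _ _ _ (ent_addAt_mono _ _ _ _ _ h0R))) hp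
    have himg : ∀ p, S.testBit p = true → T.testBit (netAt (D.net x) p) = true := fun p hp => by
      rw [hTp, hD.net_inv]; exact hp
    have hedge : ∀ p, S.testBit p = true → a x • v' p = v' (netAt (D.net x) p) := by
      intro p hp
      have e1 := hv' p (hSp p hp).1
      have e2 : v' (netAt (D.net x) p) = a x • v p := by
        simp only [v', (hSp p hp).2, Bool.false_eq_true, if_false, hD.net_inv]
      rw [e1, e2]
    refine ⟨v', (hv' 0 h0R).trans h0, fun p hp => ?_, fun y hy p hp => ?_, fun π h1 h2 p hp => ?_⟩
    · rcases h8 p hp with hp | hp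
      · exact hb p hp
      · rw [hTp] at hp
        rw [← hback p]
        exact netAt_lt (hD.ok x) (hb _ (hSp _ hp).1)
    · rcases ent_addAt _ _ _ _ _ hp with hp | ⟨rfl, _⟩
      · rcases ent_addAt _ _ _ _ _ hp with hp | ⟨rfl, hq⟩
        · rcases ent_addAt _ _ _ _ _ hp with hp | ⟨rfl, hq⟩
          · refine ⟨hold _ _ (hg y hy p hp).1, hold _ _ (hg y hy p hp).2.1, ?_⟩
            rw [hv' _ (hg y hy p hp).1, hv' _ (hg y hy p hp).2.1]
            exact (hg y hy p hp).2.2
          · exact ⟨hold _ _ (hSp p hq).1, hnew _ (himg p hq), hedge p hq⟩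
        · rw [hTp] at hq
          refine ⟨hnew _ (by rw [hTp]; exact hq), hold _ _ (hSp _ hq).1, ?_⟩
          have e := hedge _ hq
          rw [hback] at e
          rw [← e, smul_smul, hD.a_inv, one_smul]
      · omega
    · rcases h8 p hp with hp | hp
      · rw [hv' p hp]; exact hpi π h1 h2 p hp
      · rw [hTp] at hp
        have e := hedge _ hp
        rw [hback] at e
        rw [← e, h1, hv' _ (hSp _ hp).1, hpi π h1 h2 _ (hSp _ hp).1, hback]

theorem chain_sound {s : List ℕ} {v : ℕ → X}
    (hg : ∀ x < 8, ∀ p, (ent s x).testBit p = true → (ent s 8).testBit p = true ∧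
      (ent s 8).testBit (netAt (D.net x) p) = true ∧ a x • v p = v (netAt (D.net x) p)) :
    ∀ {w : List ℕ}, w ≠ [] → (∀ y ∈ w, y < 8) → ∀ p, (chain D s w).testBit p = true →
      actW a w (v p) = v (wordAt (w.map D.net) p) ∧ (ent s 8).testBit p = true ∧
        (ent s 8).testBit (wordAt (w.map D.net) p) = true
  | [y], _, hy, p, hp => by
    have h := hg y (hy y List.mem_cons_self) p hp
    exact ⟨h.2.2, h.1, h.2.1⟩
  | y :: z :: w, _, hy, p, hp => by
    have hp' : (Nat.land (ent s y) (pull (D.net y) (chain D s (z :: w)))).testBit p = true := hp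
    rw [show Nat.land (ent s y) (pull (D.net y) (chain D s (z :: w))) =
      ent s y &&& pull (D.net y) (chain D s (z :: w)) from rfl, Nat.testBit_and, Bool.and_eq_true,
      pull_testBit (hD.ok y)] at hp'
    have h := hg y (hy y List.mem_cons_self) p hp'.1
    obtain ⟨h1, h2, h3⟩ := chain_sound hg (List.cons_ne_nil z w)
      (fun u hu => hy u (List.mem_cons_of_mem _ hu)) _ hp'.2
    refine ⟨?_, h.1, h3⟩
    show actW a (z :: w) (a y • v p) = _
    rw [h.2.2]; exact h1

theorem rot_closes {r sh : ℕ} (hr : r < D.rels.length) :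
    (∀ q : X, actW a (rot D r sh) q = q) ∧ ∀ p < 2 ^ D.L, wordAt ((rot D r sh).map D.net) p = p := by
  set w := D.rels.getD r [] with hw
  have hmem : w ∈ D.rels := by
    rw [hw, List.getD_eq_getElem _ _ hr]; exact List.getElem_mem hr
  constructor
  · intro q
    have h := hD.rel w hmem
    rw [rot, ← hw, actW_append]
    have hsur : ∃ q', actW a (w.take sh) q' = q :=
      ⟨((w.take sh).reverse.map a).prod⁻¹ • q, by rw [CfsgLib.ThreeTrans.CosetIndex.actW_eq, smul_inv_smul]⟩
    obtain ⟨q', rfl⟩ := hsur
    have h' := h q'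
    rw [← List.take_append_drop sh w, actW_append] at h'
    rw [h']
  · intro p hp
    have h := hD.perm w hmem
    have happ : ∀ (u v : List ℕ) (p : ℕ), wordAt ((u ++ v).map D.net) p = wordAt (v.map D.net) (wordAt (u.map D.net) p) := by
      intro u v
      induction u with
      | nil => intro p; rfl
      | cons y u ih => intro p; exact ih _
    have hinv : ∀ (u : List ℕ) (p : ℕ), wordAt (u.map D.net) (wordAt ((invW D u).map D.net) p) = p := by
      intro u
      induction u with
      | nil => intro p; rfl
      | cons y u ih =>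
        intro p
        have e : invW D (y :: u) = invW D u ++ [D.inv y] := by simp [invW]
        rw [e, happ]
        show wordAt (u.map D.net) (netAt (D.net y) (netAt (D.net (D.inv y)) _)) = p
        have := hD.net_inv (D.inv y) (wordAt ((invW D u).map D.net) p)
        rw [hD.inv_inv] at this
        rw [this, ih]
    have hok : ∀ u : List ℕ, (u.map D.net).all (netOK D.L) = true := fun u => by
      simp [List.all_eq_true, hD.ok]
    obtain ⟨p', hp', rfl⟩ : ∃ p' < 2 ^ D.L, wordAt ((w.take sh).map D.net) p' = p :=
      ⟨wordAt ((invW D (w.take sh)).map D.net) p, wordAt_lt (hok _) hp, hinv _ _⟩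
    have h' := h p' hp'
    rw [← List.take_append_drop sh w, happ] at h'
    rw [rot, ← hw, happ, h']

theorem sound_ruleWith {s : List ℕ} (h : Sound a q0 D s) {r sh : ℕ} (hr : r < D.rels.length) :
    Sound a q0 D (ruleWith D s (rot D r sh)) := by
  obtain ⟨hw, hp0⟩ := rot_closes hD (sh := sh) hr
  revert hw hp0
  generalize rot D r sh = w
  intro hw hp0
  cases w with
  | nil => exact h
  | cons x rest =>
    show Sound a q0 D (cond _ _ s)
    cases hc : (Nat.blt x 8 && Nat.blt (D.inv x) 8 && !List.isEmpty rest &&
      rest.all (fun y => Nat.blt y 8)) with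
    | false => exact h
    | true =>
      simp only [Bool.and_eq_true, Nat.blt_eq, Bool.not_eq_true', List.isEmpty_eq_false_iff,
        List.all_eq_true] at hc
      obtain ⟨⟨⟨hx, hxi⟩, hne⟩, hall⟩ := hc
      obtain ⟨v, h0, hb, hg, hpi⟩ := h
      show Sound a q0 D (addEdges D s x (pull (D.net x) (chain D s rest)))
      refine sound_addAt_pair hD hx hxi (v := v) (fun p hp => ?_) (fun q hq => ?_) ⟨h0, hb, hg, hpi⟩
      · rw [pull_testBit (hD.ok x)] at hp
        obtain ⟨h1, h2, h3⟩ := chain_sound hD hg hne hall _ hp
        have hlt : netAt (D.net x) p < 2 ^ D.L := hb _ h2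
        have hplt : p < 2 ^ D.L := by
          have := netAt_lt (hD.ok (D.inv x)) hlt
          rwa [hD.net_inv] at this
        have hclose : wordAt (rest.map D.net) (netAt (D.net x) p) = p := hp0 p hplt
        rw [hclose] at h1 h3
        refine ⟨h3, h2, ?_⟩
        have e : actW a rest (a x • v p) = v p := hw (v p)
        have hinj : Function.Injective (actW (X := X) a rest) := fun q q' hq => by
          simpa [CfsgLib.ThreeTrans.CosetIndex.actW_eq] using hq
        exact hinj (e.trans h1.symm)
      · rw [pull_testBit (hD.ok _)] at hq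
        refine ⟨_, hq, ?_⟩
        have := hD.net_inv (D.inv x) q
        rw [hD.inv_inv] at this
        exact this.symm

omit hD in
theorem actW_invW (hD : Ctx (X := X) a D) (w : List ℕ) (q : X) : actW a (invW D w) (actW a w q) = q := by
  induction w generalizing q with
  | nil => rfl
  | cons y w ih =>
    rw [show invW D (y :: w) = invW D w ++ [D.inv y] by simp [invW], actW_append]
    show a (D.inv y) • actW a (invW D w) (actW a w (a y • q)) = q
    rw [ih, smul_smul, hD.a_inv, one_smul]

omit hD in
theorem invW_invW (hD : Ctx (X := X) a D) (w : List ℕ) : invW D (invW D w) = w := by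
  simp [invW, List.map_reverse, List.map_map, Function.comp_def, hD.inv_inv]

/-- The meaning of a fact. -/
def FactHolds (a : ℕ → G) (w : ℕ → X) (f : ℕ) : Prop := a (flet f) • w (fsrc f) = w (fdst f)

theorem walk1_sound {s : List ℕ} {v : ℕ → X}
    (hg : ∀ x < 8, ∀ p, (ent s x).testBit p = true → a x • v p = v (netAt (D.net x) p))
    {t : Tr} {lim ref : ℕ} (hf : ∀ i < lim, FactHolds a v (fact t i)) {st st' : ℕ × List ℕ}
    (h : walk1 D s t lim ref st = some st') :
    ∃ u, st.2 = u ++ st'.2 ∧ actW a u (v st.1) = v st'.1 := by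
  obtain ⟨c, w⟩ := st
  cases ref with
  | zero =>
    cases w with
    | nil => simp [walk1] at h
    | cons y ys =>
      simp only [walk1, netK_eq] at h
      cases hc : (Nat.blt y 8 && (ent s y).testBit c) with
      | false => rw [hc] at h; simp at h
      | true =>
        rw [hc, cond_true, Option.some.injEq] at h
        rw [Bool.and_eq_true, Nat.blt_eq] at hc
        subst h
        exact ⟨[y], rfl, hg y hc.1 c hc.2⟩
  | succ j =>
    simp only [walk1] at h
    cases hj : Nat.blt j lim with
    | false => rw [hj] at h; simp at h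
    | true =>
      rw [hj, cond_true] at h
      rw [Nat.blt_eq] at hj
      have hfj : a (flet (fact t j)) • v (fsrc (fact t j)) = v (fdst (fact t j)) := hf j hj
      have hback : a (D.inv (flet (fact t j))) • v (fdst (fact t j)) = v (fsrc (fact t j)) := by
        rw [← hfj, smul_smul, hD.a_inv, one_smul]
      cases he : Nat.beq (flet (fact t j)) 15 with
      | true =>
        rw [he, cond_true] at h
        rw [Nat.eq_of_beq_eq_true he, hD.a_eq, one_smul] at hfj
        cases hs : Nat.beq (fsrc (fact t j)) c with
        | true =>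
          rw [hs, cond_true, Option.some.injEq] at h
          subst h
          exact ⟨[], rfl, by rw [← Nat.eq_of_beq_eq_true hs]; exact hfj⟩
        | false =>
          rw [hs, cond_false] at h
          cases hd : Nat.beq (fdst (fact t j)) c with
          | false => rw [hd] at h; simp at h
          | true =>
            rw [hd, cond_true, Option.some.injEq] at h
            subst h
            exact ⟨[], rfl, by rw [← Nat.eq_of_beq_eq_true hd]; exact hfj.symm⟩
      | false =>
        rw [he, cond_false] at h
        cases w with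
        | nil => simp at h
        | cons y ys =>
          dsimp only at h
          cases hs : (Nat.beq (fsrc (fact t j)) c && Nat.beq y (flet (fact t j))) with
          | true =>
            rw [hs, cond_true, Option.some.injEq] at h
            rw [Bool.and_eq_true] at hs
            subst h
            refine ⟨[y], rfl, ?_⟩
            show a y • v c = _
            rw [Nat.eq_of_beq_eq_true hs.2, ← Nat.eq_of_beq_eq_true hs.1]; exact hfj
          | false =>
            rw [hs, cond_false] at h
            cases hd : (Nat.beq (fdst (fact t j)) c && Nat.beq y (D.inv (flet (fact t j)))) with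
            | false => rw [hd] at h; simp at h
            | true =>
              rw [hd, cond_true, Option.some.injEq] at h
              rw [Bool.and_eq_true] at hd
              subst h
              refine ⟨[y], rfl, ?_⟩
              show a y • v c = _
              rw [Nat.eq_of_beq_eq_true hd.2, ← Nat.eq_of_beq_eq_true hd.1]; exact hback

theorem walk_sound {s : List ℕ} {v : ℕ → X}
    (hg : ∀ x < 8, ∀ p, (ent s x).testBit p = true → a x • v p = v (netAt (D.net x) p))
    {t : Tr} {lim p off : ℕ} (hf : ∀ i < lim, FactHolds a v (fact t i)) : ∀ {k : ℕ} {st st' : ℕ × List ℕ},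
      walk D s t lim p off k st = some st' → ∃ u, st.2 = u ++ st'.2 ∧ actW a u (v st.1) = v st'.1
  | 0, st, st', h => by
    have : st = st' := Option.some.inj h
    subst this
    exact ⟨[], rfl, rfl⟩
  | k + 1, st, st', h => by
    have h' : Option.rec none (fun st'' => walk1 D s t lim (fld p (off + k)) st'')
        (walk D s t lim p off k st) = some st' := h
    cases hw : walk D s t lim p off k st with
    | none => rw [hw] at h'; simp at h'
    | some m =>
      rw [hw] at h'
      obtain ⟨u, hu, hu'⟩ := walk_sound hg hf hw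
      obtain ⟨u', hu1, hu2⟩ := walk1_sound hD hg hf h'
      refine ⟨u ++ u', by rw [hu, hu1, List.append_assoc], ?_⟩
      rw [actW_append, hu', hu2]

theorem deriveOK_sound {s : List ℕ} {v : ℕ → X}
    (hg : ∀ x < 8, ∀ p, (ent s x).testBit p = true → a x • v p = v (netAt (D.net x) p))
    {t : Tr} {i p : ℕ} (hf : ∀ j < i, FactHolds a v (fact t j)) (h : deriveOK D s t i p = true) :
    FactHolds a v (fact t i) := by
  simp only [deriveOK, Bool.and_eq_true, Nat.blt_eq] at h
  obtain ⟨hr, h⟩ := h
  obtain ⟨hclose, -⟩ := rot_closes hD (sh := fld p 1) hr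
  revert h hclose
  generalize rot D (fld p 0) (fld p 1) = w
  generalize fld p 2 = base
  intro h hclose
  cases hF : walk D s t i p 5 (fld p 3) (base, w) with
  | none => rw [hF] at h; simp at h
  | some f =>
    rw [hF] at h
    dsimp only at h
    cases hB : walk D s t i p (5 + fld p 3) (fld p 4) (base, invW D f.2) with
    | none => rw [hB] at h; simp at h
    | some b =>
      rw [hB] at h
      dsimp only at h
      obtain ⟨u, hu, hu'⟩ := walk_sound hD hg hf hF
      obtain ⟨z, hz, hz'⟩ := walk_sound hD hg hf hB
      dsimp only at hu hu' hz hz'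
      have h1 : actW a f.2 (v f.1) = v base := by
        rw [← hu', ← actW_append, ← hu]; exact hclose _
      have hf2 : f.2 = invW D b.2 ++ invW D z := by
        conv_lhs => rw [← invW_invW hD f.2, hz]
        simp [invW, List.map_append]
      have hkey : actW a (invW D b.2) (v f.1) = v b.1 := by
        rw [hf2, actW_append] at h1
        have h2 := congrArg (actW a z) h1
        have e := actW_invW hD (invW D z) (actW a (invW D b.2) (v f.1))
        rw [invW_invW hD] at e
        rw [e, hz'] at h2
        exact h2
      unfold FactHolds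
      match hb2 : b.2 with
      | [] =>
        simp only [hb2, Bool.and_eq_true, Nat.beq_eq] at h
        rw [hb2] at hkey
        rw [h.1, h.2.1, h.2.2, hD.a_eq, one_smul]
        exact hkey
      | [x] =>
        simp only [hb2, Bool.and_eq_true, Nat.beq_eq] at h
        rw [hb2] at hkey
        rw [h.1, h.2.1, h.2.2]
        exact hkey
      | _ :: _ :: _ => simp [hb2] at h

omit hD in
theorem exists_defs (v : ℕ → X) (M nd : ℕ) (t : Tr) :
    ∃ w : ℕ → X, (∀ p < M, w p = v p) ∧ ∀ i < nd, fdst (fact t i) = M + i → fsrc (fact t i) < M + i →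
      a (flet (fact t i)) • w (fsrc (fact t i)) = w (fdst (fact t i)) := by
  induction nd with
  | zero => exact ⟨v, fun _ _ => rfl, fun i hi => absurd hi (by omega)⟩
  | succ n ih =>
    obtain ⟨w, hw1, hw2⟩ := ih
    refine ⟨Function.update w (M + n) (a (flet (fact t n)) • w (fsrc (fact t n))), fun p hp => ?_,
      fun i hi h1 h2 => ?_⟩
    · rw [Function.update_of_ne (by omega), hw1 p hp]
    · rcases Nat.lt_succ_iff_lt_or_eq.1 hi with h | rfl
      · rw [h1, Function.update_of_ne (show M + i ≠ M + n by omega),
          Function.update_of_ne (show fsrc (fact t i) ≠ M + n by omega)]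
        have := hw2 i h h1 h2
        rwa [h1] at this
      · rw [h1, Function.update_self, Function.update_of_ne (show fsrc (fact t i) ≠ M + i by omega)]

omit hD in
theorem derivesOK_elim {s : List ℕ} {t : Tr} : ∀ {L : List ℕ} {start : ℕ}, derivesOK D s t L start = true →
    ∀ i, start ≤ i → i < start + L.length → ∃ p, deriveOK D s t i p = true
  | [], start, _, i, h1, h2 => absurd h2 (by simp only [List.length_nil]; omega)
  | p :: L, start, h, i, h1, h2 => by
    have h' : (deriveOK D s t start p && derivesOK D s t L (start + 1)) = true := h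
    rw [Bool.and_eq_true] at h'
    rcases eq_or_ne i start with rfl | hne
    · exact ⟨p, h'.1⟩
    · simp only [List.length_cons] at h2
      exact derivesOK_elim h'.2 i (by omega) (by omega)

theorem factsOK_sound {s : List ℕ} {v : ℕ → X} (hb : ∀ p, (ent s 8).testBit p = true → p < 2 ^ D.L)
    (hg : ∀ x < 8, ∀ p, (ent s x).testBit p = true → (ent s 8).testBit p = true ∧
      (ent s 8).testBit (netAt (D.net x) p) = true ∧ a x • v p = v (netAt (D.net x) p))
    {B : Burst} (h : factsOK D s B = true) :
    ∃ w : ℕ → X, (∀ p < 2 ^ D.L, w p = v p) ∧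
      (∀ x < 8, ∀ p, (ent s x).testBit p = true → a x • w p = w (netAt (D.net x) p)) ∧
      ∀ i < B.nd + B.recs.length, FactHolds a w (fact B.facts i) := by
  rw [factsOK, Bool.and_eq_true, defsOK] at h
  obtain ⟨w, hw1, hw2⟩ := exists_defs (a := a) v (2 ^ D.L) B.nd B.facts
  have hg' : ∀ x < 8, ∀ p, (ent s x).testBit p = true → a x • w p = w (netAt (D.net x) p) := fun x hx p hp => by
    rw [hw1 _ (hb _ (hg x hx p hp).1), hw1 _ (hb _ (hg x hx p hp).2.1)]; exact (hg x hx p hp).2.2
  refine ⟨w, hw1, hg', fun i => ?_⟩
  induction i using Nat.strong_induction_on with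
  | _ i ih =>
    intro hi
    rcases lt_or_ge i B.nd with hd | hd
    · have := forallFrom_elim h.1 (Nat.zero_le i) (by simpa using hd)
      rw [Bool.and_eq_true, Nat.beq_eq, Nat.blt_eq] at this
      exact hw2 i hd this.1 this.2
    · obtain ⟨p, hp⟩ := derivesOK_elim h.2 i hd hi
      exact deriveOK_sound hD hg' (fun j hj => ih j hj (by omega)) hp

/-- A closing word fixes the base. -/
theorem closeOK_sound {s : List ℕ} (hs : Sound a q0 D s) {B : Burst} {w : List ℕ}
    (h : closeOK D s B w = true) : actW a w q0 = q0 := by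
  obtain ⟨v, h0, hb, hg, -⟩ := hs
  rw [closeOK, Bool.and_eq_true] at h
  obtain ⟨u, hu, hg', hf⟩ := factsOK_sound hD hb hg h.1
  cases hW : walk D s B.facts (B.nd + B.recs.length) B.path 0 B.len (0, w) with
  | none => rw [hW] at h; simp at h
  | some f =>
    rw [hW] at h
    obtain ⟨z, hz, hz'⟩ := walk_sound hD hg' hf hW
    simp only [Bool.and_eq_true, Nat.beq_eq, List.isEmpty_iff] at h
    dsimp only at hz hz'
    rw [h.2.2, List.append_nil] at hz
    rw [h.2.1, hu 0 (pow_pos (by omega) _), h0, ← hz] at hz'
    exact hz'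

theorem ent_eight_growWith {s : List ℕ} {x S0 p : ℕ} (hp : (ent s 8).testBit p = true) :
    (ent (growWith D s x S0) 8).testBit p = true := by
  unfold growWith
  cases Nat.blt x 8 && Nat.blt (D.inv x) 8 with
  | false => exact hp
  | true => exact ent_addAt_mono _ _ _ _ _ (ent_addAt_mono _ _ _ _ _ (ent_addAt_mono _ _ _ _ _ hp))

theorem sound_apply {s : List ℕ} (h : Sound a q0 D s) (h0R : (ent s 8).testBit 0 = true) :
    ∀ o : Op, Sound a q0 D (o.apply D s) ∧ (ent (o.apply D s) 8).testBit 0 = true
  | .grow x => ⟨sound_growWith hD h h0R _ _, ent_eight_growWith hD h0R⟩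
  | .step x p => ⟨sound_growWith hD h h0R _ _, ent_eight_growWith hD h0R⟩
  | .rule r sh => by
    show Sound a q0 D (cond (Nat.blt r D.rels.length) _ s) ∧ _
    cases hr : Nat.blt r D.rels.length with
    | false => exact ⟨h, by simpa [Op.apply, hr] using h0R⟩
    | true =>
      refine ⟨sound_ruleWith hD h (by simpa using hr), ?_⟩
      simp only [Op.apply, hr, cond_true]
      cases rot D r sh with
      | nil => exact h0R
      | cons y rest =>
        show (ent (cond _ _ s) 8).testBit 0 = true
        cases (Nat.blt y 8 && Nat.blt (D.inv y) 8 && !List.isEmpty rest && rest.all (fun y => Nat.blt y 8)) with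
        | false => exact h0R
        | true => exact ent_addAt_mono _ _ _ _ _ (ent_addAt_mono _ _ _ _ _ h0R)
  | .burst B => by
    show Sound a q0 D (cond (burstOK D s B) _ s) ∧ (ent (cond (burstOK D s B) _ s) 8).testBit 0 = true
    cases hc : burstOK D s B with
    | false => exact ⟨h, h0R⟩
    | true =>
      refine ⟨?_, ent_addAt_mono _ _ _ _ _ (ent_addAt_mono _ _ _ _ _ h0R)⟩
      rw [cond_true, netK_eq]
      simp only [burstOK, netK_eq, Bool.and_eq_true, Nat.blt_eq] at hc
      obtain ⟨⟨⟨hfacts, hx, hxi⟩, hp, hq⟩, hwalk⟩ := hc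
      obtain ⟨v, h0, hb, hg, hpi⟩ := h
      obtain ⟨u, hu, hg', hf⟩ := factsOK_sound hD hb hg hfacts
      cases hW : walk D s B.facts (B.nd + B.recs.length) B.path 0 B.len (B.pt, [B.lett]) with
      | none => rw [hW] at hwalk; simp at hwalk
      | some f =>
        rw [hW] at hwalk
        obtain ⟨z, hz, hz'⟩ := walk_sound hD hg' hf hW
        simp only [Bool.and_eq_true, Nat.beq_eq, List.isEmpty_iff] at hwalk
        dsimp only at hz hz'
        rw [hwalk.2, List.append_nil] at hz
        have hbit : ∀ (n m : ℕ), (Nat.shiftLeft 1 n).testBit m = true → m = n := fun n m hm => by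
          have hm' : (2 ^ n).testBit m = true := by rwa [← Nat.one_shiftLeft]
          rw [Nat.testBit_two_pow, decide_eq_true_eq] at hm'
          exact hm'.symm
        refine sound_addAt_pair hD hx hxi (v := v) (fun p' hp' => ?_) (fun q hq' => ?_) ⟨h0, hb, hg, hpi⟩
        · rw [hbit _ _ hp']
          refine ⟨hp, hq, ?_⟩
          rw [← hu _ (hb _ hp), ← hu _ (hb _ hq)]
          rw [← hz, hwalk.1] at hz'
          exact hz'
        · refine ⟨B.pt, ?_, hbit _ _ hq'⟩
          show (1 <<< B.pt).testBit B.pt = true
          rw [Nat.one_shiftLeft, Nat.testBit_two_pow_self]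

theorem sound_run : ∀ (ops : List Op) {s : List ℕ}, Sound a q0 D s → (ent s 8).testBit 0 = true →
    Sound a q0 D (run D s ops) ∧ (ent (run D s ops) 8).testBit 0 = true
  | [], s, h, h0R => ⟨h, h0R⟩
  | o :: ops, s, h, h0R => sound_run ops (sound_apply hD h h0R o).1 (sound_apply hD h h0R o).2

omit hD in
/-- The starting state. -/
theorem sound_start {s : List ℕ} (h8 : ent s 8 = 1)
    (hs : ∀ x < 8, ent s x = 0 ∨ (ent s x = 1 ∧ a x • q0 = q0 ∧ netAt (D.net x) 0 = 0)) :
    Sound a q0 D s ∧ (ent s 8).testBit 0 = true := by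
  have hbit : ∀ p, (1 : ℕ).testBit p = true → p = 0 := fun p hp => by
    simpa using Nat.testBit_one_eq_true_iff_self_eq_zero.1 hp
  refine ⟨⟨fun _ => q0, rfl, fun p hp => ?_, fun x hx p hp => ?_, fun π _ h p hp => ?_⟩, by simp [h8]⟩
  · rw [h8] at hp; rw [hbit p hp]; exact pow_pos (by omega) _
  · rcases hs x hx with e | ⟨e, e1, e2⟩
    · rw [e] at hp; simp at hp
    · rw [e] at hp
      rw [hbit p hp, e2, h8]
      exact ⟨by simp, by simp, e1⟩
  · rw [h8] at hp; rw [hbit p hp]; exact h

/-- With all edges known, the letters permute the named cosets. -/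
theorem covers {s : List ℕ} (h : Sound a q0 D s) (h0R : (ent s 8).testBit 0 = true) {kl : List ℕ}
    (hfull : ∀ x ∈ kl, x < 8 ∧ D.inv x ∈ kl ∧ ent s x = ent s 8) :
    ∃ v : ℕ → X, (∀ g ∈ Subgroup.closure {g | ∃ x ∈ kl, g = a x}, ∃ p, (ent s 8).testBit p = true ∧
        g • q0 = v p) ∧
      ∀ π : X → ℕ, (∀ x q, π (a x • q) = netAt (D.net x) (π q)) → π q0 = 0 →
        ∀ p, (ent s 8).testBit p = true → π (v p) = p := by
  obtain ⟨v, h0, hb, hg, hpi⟩ := h
  refine ⟨v, fun g hg' => ?_, hpi⟩
  induction hg' using Subgroup.closure_induction_left with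
  | one => exact ⟨0, h0R, by rw [one_smul, h0]⟩
  | mul_left g hgS k hk ih =>
    obtain ⟨x, hx, rfl⟩ := hgS
    obtain ⟨p, hp, e⟩ := ih
    obtain ⟨h1, -, h2⟩ := hfull x hx
    have := hg x h1 p (by rw [h2]; exact hp)
    exact ⟨_, this.2.1, by rw [mul_smul, e, this.2.2]⟩
  | inv_mul_cancel g hgS k hk ih =>
    obtain ⟨x, hx, rfl⟩ := hgS
    obtain ⟨p, hp, e⟩ := ih
    obtain ⟨-, hxi, -⟩ := hfull x hx
    obtain ⟨h1, -, h2⟩ := hfull _ hxi
    have := hg _ h1 p (by rw [h2]; exact hp)
    rw [inv_eq_of_mul_eq_one_left (hD.a_inv x)]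
    exact ⟨_, this.2.1, by rw [mul_smul, e, this.2.2]⟩

end Semantics

end CfsgLib.Recog.ONan
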