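import Mathlib

set_option autoImplicit false
set_option maxRecDepth 100000

/-! The relators as sequences of letters g, a, b, c, d, e, f, g⁻¹ (owner: helper9). -/

namespace CfsgLib.Recog.ONan

/-- Sequences of presentation relators. -/
def baseSeqs : List (List ℕ) := [
  [7, 0],
  [0, 7],
  [1, 1],
  [2, 2],
  [3, 3],
  [4, 4],
  [5, 5],
  [6, 6],
  [2, 1, 2, 1, 2, 1],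
  [1, 2, 1, 2, 1, 2],
  [3, 1, 3, 1],
  [1, 3, 1, 3],
  [4, 1, 4, 1],
  [1, 4, 1, 4],
  [5, 1, 5, 1],
  [1, 5, 1, 5],
  [6, 1, 6, 1],
  [1, 6, 1, 6],
  [3, 2, 3, 2, 3, 2],
  [2, 3, 2, 3, 2, 3],
  [4, 2, 4, 2],
  [2, 4, 2, 4],
  [5, 2, 5, 2],
  [2, 5, 2, 5],
  [6, 2, 6, 2],
  [2, 6, 2, 6],
  [4, 3, 4, 3, 4, 3, 4, 3, 4, 3, 4, 3, 4, 3, 4, 3],
  [3, 4, 3, 4, 3, 4, 3, 4, 3, 4, 3, 4, 3, 4, 3, 4],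
  [5, 3, 5, 3],
  [3, 5, 3, 5],
  [6, 3, 6, 3],
  [3, 6, 3, 6],
  [5, 4, 5, 4, 5, 4],
  [4, 5, 4, 5, 4, 5],
  [6, 4, 6, 4],
  [4, 6, 4, 6],
  [6, 5, 6, 5, 6, 5],
  [5, 6, 5, 6, 5, 6],
  [7, 7, 6, 1],
  [1, 6, 0, 0],
  [3, 4, 3, 4, 3, 4, 3, 4, 6, 1],
  [1, 6, 4, 3, 4, 3, 4, 3, 4, 3],
  [0, 4, 0, 4, 3, 4, 7, 4, 7, 3],
  [3, 0, 4, 0, 4, 3, 4, 7, 4, 7],
  [0, 3, 0, 3, 4, 3, 7, 3, 7, 4],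
  [4, 0, 3, 0, 3, 4, 3, 7, 3, 7],
  [0, 4, 3, 2, 0, 4, 3, 2, 0, 4, 3, 2, 0, 4, 3, 2, 0, 4, 3, 2],
  [2, 3, 4, 7, 2, 3, 4, 7, 2, 3, 4, 7, 2, 3, 4, 7, 2, 3, 4, 7],
  [3, 0, 3, 2, 0, 2, 3, 0, 3, 2, 0],
  [7, 2, 3, 7, 3, 2, 7, 2, 3, 7, 3],
  [4, 0, 4, 5, 0, 5, 4, 0, 4, 5, 0],
  [7, 5, 4, 7, 4, 5, 7, 5, 4, 7, 4]]

/-- Sequences of derived relations. -/
def extraSeqs : List (List ℕ) := [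
  [7, 1, 0, 1],
  [1, 7, 1, 0],
  [7, 6, 0, 6],
  [6, 7, 6, 0],
  [7, 3, 4, 3, 4, 0, 4, 3, 4, 3],
  [3, 4, 3, 4, 7, 4, 3, 4, 3, 0],
  [1, 2, 3, 5, 4, 3, 2, 4, 3, 5, 4, 3, 2, 6, 5, 4, 3, 4, 3, 5, 4, 3, 2, 4, 3, 4, 3, 2, 5, 4, 3, 2, 4, 0, 2, 3, 4, 3, 4, 2, 3, 4, 5, 4, 3, 4, 1, 2, 3, 4, 5, 4, 3, 4, 1, 2, 3, 4, 3, 2, 7],
  [0, 2, 3, 4, 3, 2, 1, 4, 3, 4, 5, 4, 3, 2, 1, 4, 3, 4, 5, 4, 3, 2, 4, 3, 4, 3, 2, 7, 4, 2, 3, 4, 5, 2, 3, 4, 3, 4, 2, 3, 4, 5, 3, 4, 3, 4, 5, 6, 2, 3, 4, 5, 3, 4, 2, 3, 4, 5, 3, 2, 1]]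

end CfsgLib.Recog.ONan
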