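import Cfsg.Agent.Lib.Recog.ONan.NetG
import Cfsg.Agent.Lib.Recog.ONan.NetA
import Cfsg.Agent.Lib.Recog.ONan.NetB
import Cfsg.Agent.Lib.Recog.ONan.NetC
import Cfsg.Agent.Lib.Recog.ONan.NetD
import Cfsg.Agent.Lib.Recog.ONan.NetE
import Cfsg.Agent.Lib.Recog.ONan.NetF
import Cfsg.Agent.Lib.Recog.ONan.Prop
import Cfsg.Agent.Lib.Recog.ONan.Words

set_option autoImplicit false
set_option maxRecDepth 100000

/-! The action on 122760 cosets, on 2^17 points (owner: helper9). -/

namespace CfsgLib.Recog.ONan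

def mainData : Data where
  L := 17
  nets := [netG, netA, netB, netC, netD, netE, netF, netG.reverse]
  iv := [7, 1, 2, 3, 4, 5, 6, 0]
  rels := baseSeqs ++ extraSeqs

end CfsgLib.Recog.ONan
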