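import Cfsg.Agent.Lib.Recog.ONan.Prop
import Cfsg.Agent.Lib.Recog.ONan.towBData
import Cfsg.Agent.Lib.Recog.ONan.towBState0
import Cfsg.Agent.Lib.Recog.ONan.towBState1

set_option autoImplicit false
set_option maxRecDepth 100000

/-! One stretch of a propagation certificate (owner: helper9). -/

namespace CfsgLib.Recog.ONan

def towBOps0_0 : List Op := [.grow 5,
  .grow 6,
  .grow 4,
  .grow 5,
  .grow 3,
  .grow 4,
  .grow 5,
  .grow 6,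
  .grow 2,
  .grow 3,
  .grow 4,
  .grow 5,
  .grow 6,
  .grow 1,
  .grow 2,
  .grow 3,
  .grow 4,
  .grow 5,
  .grow 6,
  .grow 1,
  .grow 2,
  .grow 3,
  .grow 4,
  .grow 5,
  .grow 6,
  .grow 1,
  .grow 2,
  .grow 3,
  .grow 4,
  .grow 5,
  .grow 6,
  .grow 1,
  .grow 2,
  .grow 3,
  .grow 4,
  .grow 5,
  .grow 6,
  .grow 1,
  .grow 2,
  .grow 3,
  .grow 4,
  .grow 2,
  .grow 3,
  .grow 4,
  .grow 1,
  .grow 2,
  .rule 8 0,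
  .rule 8 1,
  .rule 10 0,
  .rule 10 1]

def towBOps0_1 : List Op := [.rule 12 0,
  .rule 12 1,
  .rule 14 0,
  .rule 14 1,
  .rule 18 0,
  .rule 20 0,
  .rule 20 1,
  .rule 22 0,
  .rule 22 1,
  .rule 26 0,
  .rule 26 1,
  .rule 28 0,
  .rule 28 1,
  .rule 32 0,
  .rule 6 0,
  .rule 16 0,
  .rule 30 0,
  .rule 30 1,
  .rule 34 0,
  .rule 34 1,
  .rule 36 4,
  .rule 36 8,
  .rule 36 9,
  .rule 8 0,
  .rule 8 1,
  .rule 10 0,
  .rule 10 1,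
  .rule 12 0,
  .rule 12 1,
  .rule 14 0,
  .rule 14 1,
  .rule 18 0,
  .rule 18 1,
  .rule 20 0,
  .rule 20 1,
  .rule 22 0,
  .rule 26 0,
  .rule 26 1,
  .rule 28 0,
  .rule 28 1,
  .rule 32 0,
  .rule 32 1,
  .rule 6 0,
  .rule 16 0,
  .rule 16 1,
  .rule 30 1,
  .rule 34 1,
  .rule 36 0,
  .rule 36 1,
  .rule 36 3]

def towBOps0_2 : List Op := [.rule 36 5,
  .rule 36 7,
  .rule 36 8,
  .rule 36 9,
  .rule 8 0,
  .rule 10 0,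
  .rule 10 1,
  .rule 12 0,
  .rule 12 1,
  .rule 14 0,
  .rule 18 0,
  .rule 18 1,
  .rule 20 0,
  .rule 20 1,
  .rule 22 0,
  .rule 22 1,
  .rule 26 0,
  .rule 26 1,
  .rule 28 0,
  .rule 28 1,
  .rule 32 0,
  .rule 32 1,
  .rule 6 0,
  .rule 6 1,
  .rule 16 0,
  .rule 16 1,
  .rule 30 0,
  .rule 30 1,
  .rule 34 0,
  .rule 34 1,
  .rule 36 0,
  .rule 36 1,
  .rule 36 2,
  .rule 36 3,
  .rule 36 7,
  .rule 36 8,
  .rule 36 9,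
  .rule 24 0,
  .rule 8 0,
  .rule 8 1,
  .rule 10 0,
  .rule 10 1,
  .rule 12 0,
  .rule 12 1,
  .rule 14 0,
  .rule 14 1,
  .rule 18 0,
  .rule 18 1,
  .rule 20 0,
  .rule 20 1]

def towBOps0_3 : List Op := [.rule 22 0,
  .rule 22 1,
  .rule 26 0,
  .rule 26 1,
  .rule 28 0,
  .rule 28 1,
  .rule 32 0,
  .rule 32 1,
  .rule 6 0,
  .rule 16 0,
  .rule 16 1,
  .rule 30 0,
  .rule 30 1,
  .rule 34 0,
  .rule 34 1,
  .rule 36 0,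
  .rule 36 1,
  .rule 36 2,
  .rule 36 3,
  .rule 36 7,
  .rule 36 8,
  .rule 36 9,
  .rule 8 1,
  .rule 10 0,
  .rule 12 0,
  .rule 12 1,
  .rule 14 1,
  .rule 18 0,
  .rule 18 1,
  .rule 20 1,
  .rule 22 0,
  .rule 22 1,
  .rule 26 0,
  .rule 26 1,
  .rule 28 0,
  .rule 28 1,
  .rule 32 0,
  .rule 32 1,
  .rule 6 0,
  .rule 6 1,
  .rule 16 0,
  .rule 16 1,
  .rule 30 0,
  .rule 30 1,
  .rule 34 0,
  .rule 34 1,
  .rule 36 0,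
  .rule 36 1,
  .rule 36 2,
  .rule 36 3]

def towBOps0_4 : List Op := [.rule 36 6,
  .rule 36 7,
  .rule 36 9,
  .rule 37 3,
  .rule 8 0,
  .rule 10 0,
  .rule 12 0,
  .rule 12 1,
  .rule 14 0,
  .rule 14 1,
  .rule 18 0,
  .rule 18 1,
  .rule 20 1,
  .rule 22 1,
  .rule 26 0,
  .rule 26 1,
  .rule 28 0,
  .rule 28 1,
  .rule 32 0,
  .rule 6 0,
  .rule 6 1,
  .rule 16 0,
  .rule 16 1,
  .rule 30 1,
  .rule 34 1,
  .rule 36 0,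
  .rule 36 1,
  .rule 36 2,
  .rule 36 3,
  .rule 36 4,
  .rule 36 5,
  .rule 36 6,
  .rule 36 7,
  .rule 36 9,
  .rule 8 1,
  .rule 10 0,
  .rule 10 1,
  .rule 12 1,
  .rule 14 1,
  .rule 18 0,
  .rule 18 1,
  .rule 20 0,
  .rule 20 1,
  .rule 22 0,
  .rule 22 1,
  .rule 26 1,
  .rule 28 1,
  .rule 32 1,
  .rule 6 0,
  .rule 6 1]

def towBOps0_5 : List Op := [.rule 16 0,
  .rule 16 1,
  .rule 30 0,
  .rule 30 1,
  .rule 34 0,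
  .rule 36 0,
  .rule 36 1,
  .rule 36 2,
  .rule 36 3,
  .rule 36 6,
  .rule 36 8,
  .rule 36 9,
  .rule 37 3,
  .rule 8 1,
  .rule 10 1,
  .rule 12 0,
  .rule 12 1,
  .rule 14 0,
  .rule 14 1,
  .rule 18 0,
  .rule 18 1,
  .rule 20 0,
  .rule 20 1,
  .rule 22 0,
  .rule 22 1,
  .rule 26 0,
  .rule 26 1,
  .rule 28 0,
  .rule 28 1,
  .rule 32 0,
  .rule 32 1,
  .rule 6 0,
  .rule 6 1,
  .rule 16 0,
  .rule 16 1,
  .rule 30 0,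
  .rule 30 1,
  .rule 34 1,
  .rule 36 0,
  .rule 36 1,
  .rule 36 2,
  .rule 36 4,
  .rule 36 5,
  .rule 36 8,
  .rule 36 9,
  .rule 37 4,
  .rule 37 5,
  .rule 37 7,
  .rule 37 8,
  .rule 37 9]

def towBOps0_6 : List Op := [.rule 24 0,
  .rule 8 1,
  .rule 10 1,
  .rule 12 0,
  .rule 12 1,
  .rule 14 0,
  .rule 14 1,
  .rule 18 0,
  .rule 18 1,
  .rule 20 0,
  .rule 20 1,
  .rule 22 0,
  .rule 22 1,
  .rule 26 0,
  .rule 26 1,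
  .rule 28 1,
  .rule 6 0,
  .rule 6 1,
  .rule 16 0,
  .rule 16 1,
  .rule 30 1,
  .rule 36 0,
  .rule 36 1,
  .rule 36 2,
  .rule 36 3,
  .rule 36 5,
  .rule 36 6,
  .rule 36 7,
  .rule 36 9,
  .rule 8 0,
  .rule 8 1,
  .rule 10 0,
  .rule 10 1,
  .rule 12 0,
  .rule 12 1,
  .rule 14 0,
  .rule 14 1,
  .rule 18 0,
  .rule 18 1,
  .rule 20 0,
  .rule 20 1,
  .rule 22 0,
  .rule 22 1,
  .rule 26 1,
  .rule 28 1,
  .rule 32 0,
  .rule 6 0,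
  .rule 6 1,
  .rule 16 0,
  .rule 30 0]

def towBOps0_7 : List Op := [.rule 30 1,
  .rule 34 0,
  .rule 36 0,
  .rule 36 1,
  .rule 36 2,
  .rule 36 9,
  .rule 8 1,
  .rule 10 1,
  .rule 12 1,
  .rule 18 0,
  .rule 20 1,
  .rule 26 0,
  .rule 26 1,
  .rule 28 0,
  .rule 32 0,
  .rule 16 1,
  .rule 30 0,
  .rule 34 0,
  .rule 36 1,
  .rule 36 2,
  .rule 36 3,
  .rule 36 8,
  .rule 36 9,
  .rule 8 0,
  .rule 10 0,
  .rule 12 0,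
  .rule 18 0,
  .rule 18 1,
  .rule 20 0,
  .rule 26 0,
  .rule 28 0,
  .rule 16 0,
  .rule 16 1,
  .rule 20 0,
  .rule 22 0,
  .rule 6 1]

def towBOps0 : List Op :=
  List.flatten [towBOps0_0, towBOps0_1, towBOps0_2, towBOps0_3, towBOps0_4, towBOps0_5, towBOps0_6, towBOps0_7]

theorem towBStep0_ok :
    sameState (run towBData towBSt0 towBOps0) towBSt1 = true := by decide +kernel

end CfsgLib.Recog.ONan
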