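import Cfsg.Agent.Lib.Recog.ONan.towAStep0
import Cfsg.Agent.Lib.Recog.ONan.towBStep0

set_option autoImplicit false

/-!
A group generated by six involutions with the relations of `L₃(7):2` has order at most 3753792
(owner: helper9).
-/

namespace CfsgLib.Recog.ONan

open CfsgLib.ThreeTrans.CosetIndex (actW actW_eq)

theorem checkA : (List.range 8).all (fun x => netOK towAData.L (towAData.net x)) = true := by decide +kernel

theorem checkB : (List.range 8).all (fun x => netOK towBData.L (towBData.net x)) = true := by decide +kernel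

theorem netsA_length : towAData.nets.length = 8 := by decide +kernel

theorem netsB_length : towBData.nets.length = 8 := by decide +kernel

theorem invA : (List.range 8).all (fun x => fixesAll towAData.L [towAData.net x, towAData.net x]) = true := by
  decide +kernel

theorem invB : (List.range 8).all (fun x => fixesAll towBData.L [towBData.net x, towBData.net x]) = true := by
  decide +kernel

theorem relA : towAData.rels.all (fun w => fixesAll towAData.L (w.map towAData.net)) = true := by decide +kernel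

theorem relB : towBData.rels.all (fun w => fixesAll towBData.L (w.map towBData.net)) = true := by decide +kernel

theorem endA : [1, 2, 3, 4, 6].all (fun x => Nat.beq (ent towASt1 x) (ent towASt1 8)) = true ∧
    ent towASt1 8 = Nat.sub (Nat.shiftLeft 1 672) 1 := by decide +kernel

theorem endB : [1, 2, 3, 4, 5, 6].all (fun x => Nat.beq (ent towBSt1 x) (ent towBSt1 8)) = true ∧
    ent towBSt1 8 = Nat.sub (Nat.shiftLeft 1 5586) 1 := by decide +kernel

theorem startA : ent towASt0 8 = 1 ∧ (List.range 8).all (fun x => Nat.beq (ent towASt0 x) 0) = true := by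
  decide +kernel

theorem startB : ent towBSt0 8 = 1 ∧ (List.range 8).all (fun x => cond ([1, 2, 3, 4].contains x)
    (Nat.beq (ent towBSt0 x) 1 && Nat.beq (netAt (towBData.net x) 0) 0) (Nat.beq (ent towBSt0 x) 0)) = true := by
  decide +kernel

theorem netAt_ge {n : ℕ} : ∀ {l : List (ℕ × ℕ)}, netOK n l = true → ∀ {p : ℕ}, 2 ^ n ≤ p → netAt l p = p
  | [], _, p, _ => rfl
  | (k, m) :: l, h, p, hp => by
    have hl : netOK n l = true :=
      List.all_eq_true.2 fun a ha => List.all_eq_true.1 h a (List.mem_cons_of_mem _ ha)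
    obtain ⟨hk, hm⟩ := netOK_layer h List.mem_cons_self
    have e : swapAt k m p = p := by
      unfold swapAt
      refine if_neg fun h2 => ?_
      have h3 := (hm _ h2).2
      split_ifs at h3 with h1
      · have h4 : p = (p ^^^ 2 ^ k) ^^^ 2 ^ k := by rw [Nat.xor_assoc, Nat.xor_self, Nat.xor_zero]
        have h5 : (p ^^^ 2 ^ k) ^^^ 2 ^ k < 2 ^ n :=
          Nat.xor_lt_two_pow h3 (Nat.pow_lt_pow_right (show 1 < 2 by omega) hk)
        omega
      · omega
    show netAt l (swapAt k m p) = p
    rw [e, netAt_ge hl hp]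

/-- The context of a table of involutions. -/
theorem ctx_of_involutions {G X : Type*} [Group G] [MulAction G X] {D : Data} {a : ℕ → G}
    (hiv : D.iv = []) (hlen : D.nets.length = 8)
    (hok : (List.range 8).all (fun x => netOK D.L (D.net x)) = true)
    (hinv : (List.range 8).all (fun x => fixesAll D.L [D.net x, D.net x]) = true)
    (hperm : D.rels.all (fun w => fixesAll D.L (w.map D.net)) = true)
    (ha : ∀ x, a x * a x = 1) (h15 : a 15 = 1) (hrel : ∀ w ∈ D.rels, (w.reverse.map a).prod = 1) :
    Ctx (X := X) a D := by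
  have hi : ∀ x, D.inv x = x := fun x => by simp [Data.inv, hiv]
  have hnil : ∀ x, 8 ≤ x → D.net x = [] := fun x hx => by
    rw [Data.net, List.getD_eq_default _ _ (by omega)]
  have hok' : ∀ x, netOK D.L (D.net x) = true := fun x => by
    rcases lt_or_ge x 8 with h | h
    · exact List.all_eq_true.1 hok x (List.mem_range.2 h)
    · rw [hnil x h]; rfl
  refine ⟨hok', fun x => by rw [hi, hi], fun x => by rw [hi]; exact ha x, h15, fun x p => ?_, fun w hw q => ?_,
    fun w hw p hp => fixesAll_elim (by simp [List.all_eq_true, hok']) (List.all_eq_true.1 hperm w hw) hp⟩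
  · rw [hi]
    rcases lt_or_ge x 8 with h | h
    · rcases lt_or_ge p (2 ^ D.L) with hp | hp
      · exact fixesAll_elim (ns := [D.net x, D.net x]) (by simp [hok']) (List.all_eq_true.1 hinv x (List.mem_range.2 h)) hp
      · rw [netAt_ge (hok' x) hp, netAt_ge (hok' x) hp]
    · rw [hnil x h]; rfl
  · rw [actW_eq, hrel w hw, one_smul]

theorem testBit_lt_of_ones {s m p : ℕ} (h : s = Nat.sub (Nat.shiftLeft 1 m) 1) (hp : s.testBit p = true) :
    p < m := by
  rw [h, testBit_ones] at hp
  simpa using hp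

variable {G : Type*} [Group G]

/-- The bound for a subgroup generated by six elements with these relations. -/
theorem six_generated_bound (a : ℕ → G) (ha : ∀ x, a x * a x = 1) (h15 : a 15 = 1)
    (hA : ∀ w ∈ towAData.rels, (w.reverse.map a).prod = 1)
    (hB : ∀ w ∈ towBData.rels, (w.reverse.map a).prod = 1) :
    Finite (Subgroup.closure {g | ∃ x ∈ [1, 2, 3, 4, 5, 6], g = a x}) ∧
      Nat.card (Subgroup.closure {g | ∃ x ∈ [1, 2, 3, 4, 5, 6], g = a x}) ≤ 3753792 := by
  classical
  set H := Subgroup.closure {g | ∃ x ∈ [1, 2, 3, 4, 6], g = a x} with hH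
  set K := Subgroup.closure {g | ∃ x ∈ [1, 2, 3, 4, 5, 6], g = a x} with hK
  -- the inner storey
  have cA : Ctx (X := G) a towAData := ctx_of_involutions rfl netsA_length checkA invA relA ha h15 hA
  obtain ⟨sA, s0A⟩ := sound_start (a := a) (D := towAData) (q0 := (1 : G)) startA.1
    (fun x hx => Or.inl (Nat.eq_of_beq_eq_true (List.all_eq_true.1 startA.2 x (List.mem_range.2 hx))))
  obtain ⟨rA, r0A⟩ := sound_run cA towAOps0 sA s0A
  rw [sameState_elim towAStep0_ok] at rA r0A
  obtain ⟨vA, hvA, -⟩ := covers cA rA r0A (kl := [1, 2, 3, 4, 6]) (fun x hx =>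
    ⟨(show ∀ y ∈ [1, 2, 3, 4, 6], y < 8 by decide) x hx, (show towAData.inv x = x by simp [Data.inv, towAData]).symm ▸ hx, Nat.eq_of_beq_eq_true (List.all_eq_true.1 endA.1 x hx)⟩)
  have hHsub : (H : Set G) ⊆ vA '' Set.Iio 672 := fun g hg => by
    obtain ⟨p, hp, e⟩ := hvA g hg
    exact ⟨p, testBit_lt_of_ones endA.2 hp, by rw [← e, smul_eq_mul, mul_one]⟩
  have hHfin : (H : Set G).Finite := ((Set.finite_Iio 672).image vA).subset hHsub
  have hHcard : (H : Set G).ncard ≤ 672 :=
    (Set.ncard_le_ncard hHsub ((Set.finite_Iio 672).image vA)).trans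
      ((Set.ncard_image_le (Set.finite_Iio 672)).trans (by
        rw [← Finset.coe_Iio, Set.ncard_coe_finset, Nat.card_Iio]))
  -- the outer storey
  have cB : Ctx (X := G ⧸ H) a towBData := ctx_of_involutions rfl netsB_length checkB invB relB ha h15 hB
  obtain ⟨sB, s0B⟩ := sound_start (a := a) (D := towBData) (q0 := ((1 : G) : G ⧸ H)) startB.1 (fun x hx => by
    have h := List.all_eq_true.1 startB.2 x (List.mem_range.2 hx)
    cases hc : [1, 2, 3, 4].contains x with
    | false => rw [hc, cond_false] at h; exact Or.inl (Nat.eq_of_beq_eq_true h)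
    | true =>
      rw [hc, cond_true, Bool.and_eq_true] at h
      refine Or.inr ⟨Nat.eq_of_beq_eq_true h.1, ?_, Nat.eq_of_beq_eq_true h.2⟩
      rw [MulAction.Quotient.smul_coe, QuotientGroup.eq]
      simp only [smul_eq_mul, mul_one]
      exact H.inv_mem (Subgroup.subset_closure ⟨x, (show ∀ y ∈ [1, 2, 3, 4], y ∈ [1, 2, 3, 4, 6] by decide) x
        (List.contains_iff_mem.1 hc), rfl⟩))
  obtain ⟨rB, r0B⟩ := sound_run cB towBOps0 sB s0B
  rw [sameState_elim towBStep0_ok] at rB r0B
  obtain ⟨vB, hvB, -⟩ := covers cB rB r0B (kl := [1, 2, 3, 4, 5, 6]) (fun x hx =>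
    ⟨(show ∀ y ∈ [1, 2, 3, 4, 5, 6], y < 8 by decide) x hx, (show towBData.inv x = x by simp [Data.inv, towBData]).symm ▸ hx, Nat.eq_of_beq_eq_true (List.all_eq_true.1 endB.1 x hx)⟩)
  let rep : ℕ → G := fun p => (vB p).out
  have hKsub : (K : Set G) ⊆ (fun z : ℕ × G => rep z.1 * z.2) '' (Set.Iio 5586 ×ˢ (H : Set G)) := fun g hg => by
    obtain ⟨p, hp, e⟩ := hvB g hg
    refine ⟨(p, (rep p)⁻¹ * g), ⟨testBit_lt_of_ones endB.2 hp, ?_⟩, by simp⟩
    rw [SetLike.mem_coe, ← QuotientGroup.eq]
    show ((vB p).out : G ⧸ H) = (g : G ⧸ H)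
    rw [QuotientGroup.out_eq', ← e, MulAction.Quotient.smul_coe, smul_eq_mul, mul_one]
  have hfin := ((Set.finite_Iio 5586).prod hHfin).image (fun z : ℕ × G => rep z.1 * z.2)
  refine ⟨Set.finite_coe_iff.2 (hfin.subset hKsub), ?_⟩
  rw [← SetLike.coe_sort_coe, Nat.card_coe_set_eq]
  refine (Set.ncard_le_ncard hKsub hfin).trans ((Set.ncard_image_le ((Set.finite_Iio 5586).prod hHfin)).trans ?_)
  rw [Set.ncard_prod, ← Finset.coe_Iio, Set.ncard_coe_finset, Nat.card_Iio]
  calc 5586 * (H : Set G).ncard ≤ 5586 * 672 := Nat.mul_le_mul_left _ hHcard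
    _ = 3753792 := by norm_num

end CfsgLib.Recog.ONan
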