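import Cfsg.Prelude.Def_Spor_ON
import Cfsg.Agent.Lib.Recog.ONan.Tower
import Cfsg.Agent.Lib.Recog.ONan.LinearModel
import Cfsg.Agent.Lib.Recog.ONan.MainData
import Cfsg.Agent.Lib.Recog.ONan.Closers

set_option autoImplicit false
set_option Elab.async false
set_option maxRecDepth 100000

/-!
The presented O'Nan group: its permutation image, the subgroup of the six involutions, and derived relations
(owner: helper9).
-/

namespace CfsgLib.Recog.ONan

open Cfsg
open CfsgLib.ThreeTrans.CosetIndex (actW actW_eq)

/-- The presented group. -/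
abbrev GON : Type := Spor.ON

/-- The inverse letter. -/
def ivl (x : ℕ) : ℕ := if x = 0 then 7 else if x = 7 then 0 else x

theorem mainData_inv (x : ℕ) : mainData.inv x = ivl x := by
  rcases lt_or_ge x 8 with h | h
  · interval_cases x <;> rfl
  · show mainData.iv.getD x x = _
    rw [List.getD_eq_default _ _ (show mainData.iv.length ≤ x by simpa [mainData] using h), ivl, if_neg (by omega),
      if_neg (by omega)]

/-- The number of a generator. -/
def gidx : Spor.ON.Gen → ℕ
  | .g => 0
  | .a => 1
  | .b => 2
  | .c => 3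
  | .d => 4
  | .e => 5
  | .f => 6

/-- The letters of a reduced word. -/
def lettersOf (w : List (Spor.ON.Gen × Bool)) : List ℕ := w.map fun p => cond p.2 (gidx p.1) (ivl (gidx p.1))

/-- The sequence of a relator. -/
def seqOf (r : FreeGroup Spor.ON.Gen) : List ℕ := (lettersOf r.toWord).reverse

theorem lift_eq_prod {H : Type*} [Group H] (f : Spor.ON.Gen → H) (b : ℕ → H) (hb : ∀ y, b (gidx y) = f y)
    (hinv : ∀ x, b (ivl x) * b x = 1) (r : FreeGroup Spor.ON.Gen) :
    FreeGroup.lift f r = ((seqOf r).reverse.map b).prod := by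
  rw [seqOf, List.reverse_reverse]
  conv_lhs => rw [← FreeGroup.mk_toWord (x := r)]
  rw [FreeGroup.lift_mk, lettersOf, List.map_map]
  congr 1
  refine List.map_congr_left fun p _ => ?_
  obtain ⟨y, _ | _⟩ := p
  · simp only [Function.comp_apply, cond_false, ← hb]
    exact (eq_inv_of_mul_eq_one_left (hinv _)).symm
  · simp [Function.comp_apply, hb]

/-- All relators of the presentation. -/
def relList : List (FreeGroup Spor.ON.Gen) :=
  ((Spor.coxNodes Spor.ON.edges).flatMap fun x => (Spor.coxNodes Spor.ON.edges).map fun y =>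
    (FreeGroup.of x * FreeGroup.of y) ^ Spor.coxLabel Spor.ON.edges x y) ++ Spor.ON.extra

theorem mem_relList {r : FreeGroup Spor.ON.Gen}
    (h : r ∈ Spor.coxRelators Spor.ON.edges ∪ {r | r ∈ Spor.ON.extra}) : r ∈ relList := by
  rcases h with ⟨x, hx, y, hy, rfl⟩ | h
  · exact List.mem_append_left _ (List.mem_flatMap.2 ⟨x, hx, List.mem_map.2 ⟨y, hy, rfl⟩⟩)
  · exact List.mem_append_right _ h

theorem relList_mem {r : FreeGroup Spor.ON.Gen} (h : r ∈ relList) :
    r ∈ Spor.coxRelators Spor.ON.edges ∪ {r | r ∈ Spor.ON.extra} := by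
  rw [relList, List.mem_append] at h
  rcases h with h | h
  · obtain ⟨x, hx, h⟩ := List.mem_flatMap.1 h
    obtain ⟨y, hy, rfl⟩ := List.mem_map.1 h
    exact Or.inl ⟨x, hx, y, hy, rfl⟩
  · exact Or.inr h

theorem relList_seqs : (relList.map seqOf).all (baseSeqs.contains ·) = true := by decide +kernel

theorem baseSeqs_source : baseSeqs.all (fun w => (relList.map seqOf).contains w ||
    (relList.map seqOf).contains (w.reverse.map ivl) || [[0, 7], [7, 0]].contains w) = true := by decide +kernel

/-! The permutations. -/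

theorem mainData_len : mainData.nets.length = 8 := by decide +kernel

theorem netG_ok : netOK 17 netG = true := by decide +kernel

theorem netG_rev_ok : netOK 17 netG.reverse = true := by
  have h := netG_ok
  rw [netOK, List.all_eq_true] at h ⊢
  exact fun a ha => h a (List.mem_reverse.1 ha)

theorem invol_ok : [netA, netB, netC, netD, netE, netF].all (fun n => netOK 17 n && fixesAll 17 [n, n]) = true := by
  decide +kernel

theorem net_ok (x : ℕ) : netOK 17 (mainData.net x) = true := by
  have h := invol_ok
  simp only [List.all_cons, List.all_nil, Bool.and_eq_true] at h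
  rcases lt_or_ge x 8 with hx | hx
  · interval_cases x
    · exact netG_ok
    · exact h.1.1
    · exact h.2.1.1
    · exact h.2.2.1.1
    · exact h.2.2.2.1.1
    · exact h.2.2.2.2.1.1
    · exact h.2.2.2.2.2.1.1
    · exact netG_rev_ok
  · rw [Data.net, List.getD_eq_default _ _ (by rw [mainData_len]; exact hx)]; rfl

theorem net_inv (x p : ℕ) : netAt (mainData.net (ivl x)) (netAt (mainData.net x) p) = p := by
  rcases lt_or_ge x 8 with hx | hx
  · rcases lt_or_ge p (2 ^ 17) with hp | hp
    · have h := invol_ok
      simp only [List.all_cons, List.all_nil, Bool.and_eq_true] at h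
      have two : ∀ n, netOK 17 n = true → fixesAll 17 [n, n] = true → netAt n (netAt n p) = p :=
        fun n h1 h2 => fixesAll_elim (ns := [n, n]) (by simp [h1]) h2 hp
      interval_cases x
      · exact netAt_reverse netG p
      · exact two _ h.1.1 h.1.2
      · exact two _ h.2.1.1 h.2.1.2
      · exact two _ h.2.2.1.1 h.2.2.1.2
      · exact two _ h.2.2.2.1.1 h.2.2.2.1.2
      · exact two _ h.2.2.2.2.1.1 h.2.2.2.2.1.2
      · exact two _ h.2.2.2.2.2.1.1 h.2.2.2.2.2.1.2
      · have := netAt_reverse netG.reverse p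
        rwa [List.reverse_reverse] at this
    · rw [netAt_ge (net_ok x) hp, netAt_ge (net_ok _) hp]
  · have e : ivl x = x := by rw [ivl, if_neg (by omega), if_neg (by omega)]
    rw [e, Data.net, List.getD_eq_default _ _ (by rw [mainData_len]; exact hx)]
    rfl

theorem ivl_ivl (x : ℕ) : ivl (ivl x) = x := by
  rcases eq_or_ne x 0 with rfl | h
  · rfl
  rcases eq_or_ne x 7 with rfl | h'
  · rfl
  simp [ivl, h, h']

theorem net_inv' (x p : ℕ) : netAt (mainData.net x) (netAt (mainData.net (ivl x)) p) = p := by
  have := net_inv (ivl x) p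
  rwa [ivl_ivl] at this

/-- The permutation of a letter. -/
def letterPerm (x : ℕ) : Equiv.Perm (Fin (2 ^ 17)) where
  toFun p := ⟨netAt (mainData.net x) p, netAt_lt (net_ok x) p.2⟩
  invFun p := ⟨netAt (mainData.net (ivl x)) p, netAt_lt (net_ok _) p.2⟩
  left_inv p := Fin.ext (net_inv x p)
  right_inv p := Fin.ext (net_inv' x p)

theorem letterPerm_val (x : ℕ) (p : Fin (2 ^ 17)) : ((letterPerm x) p : ℕ) = netAt (mainData.net x) p := rfl

theorem letterPerm_inv (x : ℕ) : letterPerm (ivl x) * letterPerm x = 1 :=
  Equiv.ext fun p => Fin.ext (net_inv x p)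

theorem actW_letterPerm : ∀ (w : List ℕ) (p : Fin (2 ^ 17)),
    ((actW letterPerm w p : Fin (2 ^ 17)) : ℕ) = wordAt (w.map mainData.net) p
  | [], _ => rfl
  | x :: w, p => actW_letterPerm w _

/-- The check of one sequence. -/
noncomputable def seqFix (w : List ℕ) : Bool := fixesAll 17 (w.map mainData.net)

theorem base_fixes0 : ((baseSeqs.drop 0).take 7).all seqFix = true := by decide +kernel

theorem base_fixes1 : ((baseSeqs.drop 7).take 7).all seqFix = true := by decide +kernel

theorem base_fixes2 : ((baseSeqs.drop 14).take 7).all seqFix = true := by decide +kernel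

theorem base_fixes3 : ((baseSeqs.drop 21).take 7).all seqFix = true := by decide +kernel

theorem base_fixes4 : ((baseSeqs.drop 28).take 7).all seqFix = true := by decide +kernel

theorem base_fixes5 : ((baseSeqs.drop 35).take 7).all seqFix = true := by decide +kernel

theorem base_fixes6 : ((baseSeqs.drop 42).take 7).all seqFix = true := by decide +kernel

theorem base_fixes7 : ((baseSeqs.drop 49).take 7).all seqFix = true := by decide +kernel

theorem base_fixes : baseSeqs.all (fun w => fixesAll 17 (w.map mainData.net)) = true := by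
  show baseSeqs.all seqFix = true
  rw [show baseSeqs = (baseSeqs.drop 0).take 7 ++ (baseSeqs.drop 7).take 7 ++ (baseSeqs.drop 14).take 7 ++ (baseSeqs.drop 21).take 7 ++ (baseSeqs.drop 28).take 7 ++ (baseSeqs.drop 35).take 7 ++ (baseSeqs.drop 42).take 7 ++ (baseSeqs.drop 49).take 7 from rfl]
  simp only [List.all_append, base_fixes0, base_fixes1, base_fixes2, base_fixes3, base_fixes4, base_fixes5,
    base_fixes6, base_fixes7, Bool.and_true]

theorem perm_rel {r : FreeGroup Spor.ON.Gen}
    (h : r ∈ Spor.coxRelators Spor.ON.edges ∪ {r | r ∈ Spor.ON.extra}) :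
    FreeGroup.lift (fun y => letterPerm (gidx y)) r = 1 := by
  rw [lift_eq_prod _ letterPerm (fun _ => rfl) letterPerm_inv]
  refine Equiv.ext fun p => Fin.ext ?_
  have hs : seqOf r ∈ baseSeqs :=
    List.contains_iff_mem.1 (List.all_eq_true.1 relList_seqs _ (List.mem_map.2 ⟨r, mem_relList h, rfl⟩))
  rw [← Equiv.Perm.smul_def, ← actW_eq, actW_letterPerm]
  exact fixesAll_elim (by simp [List.all_eq_true, net_ok]) (List.all_eq_true.1 base_fixes _ hs) p.2

/-- The permutation representation. -/
noncomputable def phi : GON →* Equiv.Perm (Fin (2 ^ 17)) := PresentedGroup.toGroup fun _ h => perm_rel h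

/-- The group element of a letter. -/
noncomputable def lgen : ℕ → GON
  | 0 => PresentedGroup.of .g
  | 1 => PresentedGroup.of .a
  | 2 => PresentedGroup.of .b
  | 3 => PresentedGroup.of .c
  | 4 => PresentedGroup.of .d
  | 5 => PresentedGroup.of .e
  | 6 => PresentedGroup.of .f
  | 7 => (PresentedGroup.of .g)⁻¹
  | _ => 1

theorem mk_eq_lift (r : FreeGroup Spor.ON.Gen) :
    PresentedGroup.mk (Spor.coxRelators Spor.ON.edges ∪ {r | r ∈ Spor.ON.extra}) r =
      FreeGroup.lift (fun y => (PresentedGroup.of y : GON)) r := by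
  rw [show FreeGroup.lift (fun y => (PresentedGroup.of y : GON)) =
    (PresentedGroup.mk (Spor.coxRelators Spor.ON.edges ∪ {r | r ∈ Spor.ON.extra}) : FreeGroup Spor.ON.Gen →* GON)
    from FreeGroup.ext_hom _ _ fun y => by simp [PresentedGroup.of]]

theorem lgen_gidx (y : Spor.ON.Gen) : lgen (gidx y) = PresentedGroup.of y := by cases y <;> rfl

theorem node_sq {y : Spor.ON.Gen} (hy : y ≠ .g) :
    (PresentedGroup.of y : GON) * PresentedGroup.of y = 1 := by
  have hn : y ∈ Spor.coxNodes Spor.ON.edges := by cases y <;> first | exact absurd rfl hy | decide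
  have h := PresentedGroup.one_of_mem (rels := Spor.coxRelators Spor.ON.edges ∪ {r | r ∈ Spor.ON.extra})
    (show (FreeGroup.of y * FreeGroup.of y) ^ Spor.coxLabel Spor.ON.edges y y ∈ _ from
      Or.inl ⟨y, hn, y, hn, rfl⟩)
  rw [Spor.coxLabel, if_pos rfl, pow_one, map_mul] at h
  exact h

theorem lgen_inv : ∀ x, lgen (ivl x) * lgen x = 1
  | 0 => inv_mul_cancel (PresentedGroup.of Spor.ON.Gen.g : GON)
  | 1 => node_sq (by decide)
  | 2 => node_sq (by decide)
  | 3 => node_sq (by decide)
  | 4 => node_sq (by decide)
  | 5 => node_sq (by decide)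
  | 6 => node_sq (by decide)
  | 7 => mul_inv_cancel (PresentedGroup.of Spor.ON.Gen.g : GON)
  | (n + 8) => by
    rw [ivl, if_neg (by omega), if_neg (by omega)]
    exact one_mul 1

theorem lgen_sq {x : ℕ} (h : x ≠ 0) (h' : x ≠ 7) : lgen x * lgen x = 1 := by
  have := lgen_inv x
  rwa [ivl, if_neg h, if_neg h'] at this

theorem phi_lgen : ∀ x, x < 8 → phi (lgen x) = letterPerm x := by
  have key : ∀ y, phi (PresentedGroup.of y) = letterPerm (gidx y) := fun y => PresentedGroup.toGroup.of _
  intro x hx
  interval_cases x <;> first | exact key _ | skip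
  show phi (PresentedGroup.of Spor.ON.Gen.g)⁻¹ = _
  rw [map_inv, key]
  exact (eq_inv_of_mul_eq_one_left (letterPerm_inv 0)).symm

theorem seq_one {r : FreeGroup Spor.ON.Gen} (h : r ∈ relList) : ((seqOf r).reverse.map lgen).prod = 1 := by
  rw [← lift_eq_prod _ lgen lgen_gidx lgen_inv, ← mk_eq_lift]
  exact PresentedGroup.one_of_mem (relList_mem h)

theorem prod_ivl {G : Type*} [Group G] (b : ℕ → G) (hb : ∀ x, b (ivl x) * b x = 1) (w : List ℕ) :
    ((w.map ivl).reverse.map b).prod = ((w.map b).prod)⁻¹ := by
  induction w with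
  | nil => simp
  | cons x w ih =>
    rw [List.map_cons, List.reverse_cons, List.map_append, List.prod_append, ih, List.map_singleton, List.prod_singleton,
      List.map_cons, List.prod_cons, _root_.mul_inv_rev, eq_inv_of_mul_eq_one_left (hb x)]

/-- The presentation relators hold in sequence form. -/
theorem base_one {w : List ℕ} (hw : w ∈ baseSeqs) : (w.reverse.map lgen).prod = 1 := by
  have h := List.all_eq_true.1 baseSeqs_source w hw
  simp only [Bool.or_eq_true, List.contains_iff_mem, List.mem_map] at h
  rcases h with (⟨r, hr, rfl⟩ | ⟨r, hr, hrw⟩) | h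
  · exact seq_one hr
  · have h1 := seq_one hr
    rw [hrw, prod_ivl lgen lgen_inv, inv_eq_one] at h1
    exact h1
  · simp only [List.mem_cons, List.not_mem_nil, or_false] at h
    rcases h with rfl | rfl
    · simpa [ivl] using lgen_inv 0
    · simpa [ivl] using lgen_inv 7

/-! The subgroup of the six involutions. -/

/-- The images of `a, …, f`. -/
noncomputable def sixSub : Subgroup GON := Subgroup.closure {g | ∃ x ∈ [1, 2, 3, 4, 5, 6], g = lgen x}

theorem tower_in_base : (towAData.rels ++ towBData.rels).all (baseSeqs.contains ·) = true := by decide +kernel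

/-- The six involutions, as a function of the letter. -/
noncomputable def agen (x : ℕ) : GON := if 1 ≤ x ∧ x ≤ 6 then lgen x else 1

theorem tower_letters : (towAData.rels ++ towBData.rels).all
    (fun w => w.all (fun x => Nat.ble 1 x && Nat.ble x 6)) = true := by decide +kernel

theorem agen_rel {w : List ℕ} (h : w ∈ towAData.rels ++ towBData.rels) : (w.reverse.map agen).prod = 1 := by
  rw [← base_one (List.contains_iff_mem.1 (List.all_eq_true.1 tower_in_base w h))]
  refine congrArg List.prod (List.map_congr_left fun x hx => ?_)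
  have := List.all_eq_true.1 (List.all_eq_true.1 tower_letters w h) x (List.mem_reverse.1 hx)
  rw [Bool.and_eq_true, Nat.ble_eq, Nat.ble_eq] at this
  rw [agen, if_pos this]

/-- Pairs of corresponding elements of the group and of the extension. -/
noncomputable def pgen (x : ℕ) : GON × Target := (agen x, tgen x)

theorem pgen_sq (x : ℕ) : pgen x * pgen x = 1 := by
  refine Prod.ext ?_ (tgen_sq x)
  show agen x * agen x = 1
  unfold agen
  split_ifs with h
  · exact lgen_sq (by omega) (by omega)
  · exact one_mul 1

theorem pgen_rel {w : List ℕ} (h : w ∈ towAData.rels ∨ w ∈ towBData.rels) : (w.reverse.map pgen).prod = 1 := by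
  have e : ∀ l : List ℕ, (l.map pgen).prod = ((l.map agen).prod, (l.map tgen).prod) := by
    intro l
    induction l with
    | nil => rfl
    | cons x l ih => simp [ih, pgen]
  rw [e, agen_rel (List.mem_append.2 h), tgen_rel h]
  rfl

/-- The graph of the correspondence. -/
noncomputable def graph : Subgroup (GON × Target) :=
  Subgroup.closure {g | ∃ x ∈ [1, 2, 3, 4, 5, 6], g = pgen x}

theorem graph_bound : Finite graph ∧ Nat.card graph ≤ 3753792 :=
  six_generated_bound pgen pgen_sq (Prod.ext (show agen 15 = 1 from if_neg (by omega)) tgen_fifteen)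
    (fun _ hw => pgen_rel (Or.inl hw)) (fun _ hw => pgen_rel (Or.inr hw))

theorem graph_snd_bijective : Function.Bijective ((MonoidHom.snd GON Target).comp graph.subtype) := by
  have := graph_bound.1
  have hsurj : Function.Surjective ((MonoidHom.snd GON Target).comp graph.subtype) := by
    rw [← MonoidHom.range_eq_top, eq_top_iff, ← span_eq_top, span, Subgroup.closure_le]
    rintro _ ⟨x, hx, rfl⟩
    exact ⟨⟨pgen x, Subgroup.subset_closure ⟨x, hx, rfl⟩⟩, rfl⟩
  have : Finite Target := Finite.of_surjective _ hsurj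
  have h1 := Nat.card_le_card_of_surjective _ hsurj
  have h2 := graph_bound.2
  rw [card_target] at h1
  exact hsurj.bijective_of_nat_card_le (by rw [card_target]; omega)

/-- The correspondence from the extension. -/
noncomputable def rho : Target →* GON :=
  ((MonoidHom.fst GON Target).comp graph.subtype).comp
    (MulEquiv.ofBijective _ graph_snd_bijective).symm.toMonoidHom

theorem rho_tgen {x : ℕ} (h1 : 1 ≤ x) (h6 : x ≤ 6) : rho (tgen x) = lgen x := by
  have hx : x ∈ [1, 2, 3, 4, 5, 6] := by simp; omega
  have e : (MulEquiv.ofBijective _ graph_snd_bijective).symm (tgen x) =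
      ⟨pgen x, Subgroup.subset_closure ⟨x, hx, rfl⟩⟩ :=
    (MulEquiv.symm_apply_eq _).2 rfl
  show ((MulEquiv.ofBijective _ graph_snd_bijective).symm (tgen x)).1.1 = _
  rw [e]
  exact if_pos ⟨h1, h6⟩

theorem rho_range : rho.range = sixSub := by
  have h : ∀ x ∈ [1, 2, 3, 4, 5, 6], rho (tgen x) = lgen x := fun x hx => by
    simp at hx; exact rho_tgen (by omega) (by omega)
  rw [MonoidHom.range_eq_map, ← span_eq_top, span, MonoidHom.map_closure, sixSub]
  congr 1
  ext g
  constructor
  · rintro ⟨_, ⟨x, hx, rfl⟩, rfl⟩; exact ⟨x, hx, h x hx⟩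
  · rintro ⟨x, hx, rfl⟩; exact ⟨_, ⟨x, hx, rfl⟩, h x hx⟩

theorem phi_ab : netAt (mainData.net 1) (netAt (mainData.net 2) 5) ≠ 5 ∨
    netAt (mainData.net 1) (netAt (mainData.net 2) 1) ≠ 1 := by decide +kernel

theorem phi_rho_injective : Function.Injective (phi.comp rho) := by
  refine target_hom_injective _ fun h => ?_
  rw [MonoidHom.comp_apply, map_mul, rho_tgen le_rfl (by omega), rho_tgen (by omega) (by omega), map_mul,
    phi_lgen 1 (by omega), phi_lgen 2 (by omega)] at h
  rcases phi_ab with h' | h'
  · have := congrArg (fun e : Equiv.Perm (Fin (2 ^ 17)) => ((e ⟨5, by norm_num⟩ : Fin (2 ^ 17)) : ℕ)) h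
    rw [Equiv.Perm.mul_apply, letterPerm_val, letterPerm_val, Equiv.Perm.one_apply] at this
    exact h' this
  · have := congrArg (fun e : Equiv.Perm (Fin (2 ^ 17)) => ((e ⟨1, by norm_num⟩ : Fin (2 ^ 17)) : ℕ)) h
    rw [Equiv.Perm.mul_apply, letterPerm_val, letterPerm_val, Equiv.Perm.one_apply] at this
    exact h' this

theorem rho_injective : Function.Injective rho := fun x y h => phi_rho_injective (by simp [h])

theorem six_faithful {k : GON} (hk : k ∈ sixSub) (h : phi k = 1) : k = 1 := by
  obtain ⟨t, rfl⟩ := rho_range ▸ hk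
  have : t = 1 := phi_rho_injective (by simp [h])
  simp [this]

theorem card_sixSub : Nat.card sixSub = 3753792 := by
  rw [← rho_range, ← card_target]
  exact (Nat.card_congr (MonoidHom.ofInjective rho_injective).toEquiv).symm

end CfsgLib.Recog.ONan
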