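import Mathlib

set_option autoImplicit false
set_option maxRecDepth 100000

/-! An intermediate state of a propagation certificate (owner: helper9). -/

namespace CfsgLib.Recog.ONan

def mainSt0 : List ℕ := [0x0, 0x1, 0x1, 0x1, 0x1, 0x1, 0x1, 0x0, 0x1]

end CfsgLib.Recog.ONan
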