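import Cfsg.Agent.Lib.Recog.ONan.Prop
import Cfsg.Agent.Lib.Recog.ONan.MainData
import Cfsg.Agent.Lib.Recog.ONan.mainState0
import Cfsg.Agent.Lib.Recog.ONan.mainState1

set_option autoImplicit false
set_option maxRecDepth 100000

/-! One stretch of a propagation certificate (owner: helper9). -/

namespace CfsgLib.Recog.ONan

def mainOps0_0 : List Op := [.step 0 0,
  .grow 2,
  .grow 3,
  .grow 4,
  .grow 5,
  .grow 6,
  .grow 1,
  .grow 2,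
  .grow 3,
  .grow 4,
  .grow 5,
  .grow 6,
  .grow 1,
  .grow 2,
  .grow 3,
  .grow 4,
  .grow 5,
  .grow 6,
  .grow 1,
  .grow 2,
  .grow 3,
  .grow 4,
  .grow 5,
  .grow 6,
  .grow 1,
  .grow 2,
  .grow 3,
  .grow 4,
  .grow 5,
  .grow 6,
  .grow 1,
  .grow 2,
  .grow 3,
  .grow 4,
  .grow 5,
  .grow 6,
  .grow 1,
  .grow 2,
  .grow 3,
  .grow 4,
  .grow 5,
  .grow 2,
  .step 0 2,
  .grow 1,
  .grow 3,
  .grow 4,
  .grow 5,
  .grow 6,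
  .grow 2,
  .grow 3]

def mainOps0_1 : List Op := [.grow 4,
  .grow 5,
  .grow 6,
  .grow 1,
  .grow 2,
  .grow 3,
  .grow 4,
  .grow 5,
  .grow 6,
  .grow 1,
  .grow 2,
  .grow 3,
  .grow 4,
  .grow 5,
  .grow 6,
  .grow 1,
  .grow 2,
  .grow 3,
  .grow 4,
  .grow 5,
  .grow 6,
  .grow 1,
  .grow 2,
  .grow 3,
  .grow 4,
  .grow 5,
  .grow 6,
  .grow 1,
  .grow 2,
  .grow 3,
  .grow 4,
  .grow 5,
  .grow 6,
  .grow 1,
  .grow 2,
  .grow 3,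
  .grow 4,
  .grow 5,
  .grow 6,
  .grow 1,
  .grow 2,
  .grow 3,
  .grow 4,
  .step 0 3,
  .grow 2,
  .grow 3,
  .grow 4,
  .grow 5,
  .grow 6,
  .grow 1]

def mainOps0_2 : List Op := [.grow 2,
  .grow 3,
  .grow 4,
  .grow 5,
  .grow 6,
  .grow 2,
  .grow 3,
  .grow 4,
  .grow 5,
  .grow 6,
  .grow 1,
  .grow 2,
  .grow 3,
  .grow 4,
  .grow 5,
  .grow 6,
  .grow 1,
  .grow 2,
  .grow 3,
  .grow 4,
  .grow 5,
  .grow 6,
  .grow 1,
  .grow 2,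
  .grow 3,
  .grow 4,
  .grow 5,
  .grow 6,
  .grow 1,
  .grow 2,
  .grow 3,
  .grow 4,
  .grow 5,
  .grow 6,
  .grow 1,
  .grow 2,
  .grow 3,
  .grow 4,
  .grow 5,
  .step 0 9,
  .grow 1,
  .grow 3,
  .grow 4,
  .grow 5,
  .grow 6,
  .grow 2,
  .grow 3,
  .grow 4,
  .grow 5,
  .grow 6]

def mainOps0_3 : List Op := [.grow 1,
  .grow 2,
  .grow 3,
  .grow 4,
  .grow 5,
  .grow 6,
  .grow 1,
  .grow 2,
  .grow 3,
  .grow 4,
  .grow 5,
  .grow 6,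
  .grow 1,
  .grow 2,
  .grow 3,
  .grow 4,
  .grow 5,
  .grow 6,
  .grow 1,
  .grow 2,
  .grow 3,
  .grow 4,
  .grow 5,
  .grow 6,
  .grow 1,
  .grow 2,
  .rule 20 0,
  .rule 12 0,
  .rule 14 0,
  .rule 22 0,
  .rule 28 0,
  .rule 16 0,
  .rule 24 0,
  .rule 30 0,
  .rule 34 0,
  .rule 24 0,
  .rule 16 0,
  .rule 10 1,
  .rule 14 0,
  .rule 22 0,
  .rule 32 1,
  .rule 34 1,
  .rule 20 0,
  .rule 30 0,
  .rule 36 1,
  .rule 10 0,
  .rule 24 0,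
  .rule 18 0,
  .rule 12 1,
  .rule 8 0]

def mainOps0_4 : List Op := [.rule 22 0,
  .rule 12 0,
  .rule 14 0,
  .rule 32 1,
  .rule 34 0,
  .rule 16 0,
  .rule 36 1,
  .rule 30 0,
  .rule 28 0,
  .rule 32 1,
  .rule 34 0,
  .rule 24 0,
  .rule 36 1,
  .rule 32 1,
  .rule 14 1,
  .rule 10 0,
  .rule 30 0,
  .rule 40 3,
  .rule 32 0,
  .rule 20 0,
  .rule 36 0,
  .rule 22 0,
  .rule 28 0,
  .rule 14 0]

def mainOps0 : List Op :=
  List.flatten [mainOps0_0, mainOps0_1, mainOps0_2, mainOps0_3, mainOps0_4]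

theorem mainStep0_ok :
    sameState (run mainData mainSt0 mainOps0) mainSt1 = true := by decide +kernel

end CfsgLib.Recog.ONan
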