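import Cfsg.Agent.Lib.Recog.ONan.Prop
import Cfsg.Agent.Lib.Recog.ONan.MainData
import Cfsg.Agent.Lib.Recog.ONan.mainState1
import Cfsg.Agent.Lib.Recog.ONan.mainState2

set_option autoImplicit false
set_option maxRecDepth 100000

/-! One stretch of a propagation certificate (owner: helper9). -/

namespace CfsgLib.Recog.ONan

def mainOps1_0 : List Op := [.rule 36 0,
  .rule 34 0,
  .rule 32 1,
  .rule 34 1,
  .rule 36 1,
  .rule 18 0,
  .rule 40 0,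
  .rule 28 1,
  .rule 30 1,
  .rule 18 1,
  .rule 20 1,
  .rule 22 1,
  .rule 24 1,
  .rule 40 4,
  .rule 28 1,
  .rule 30 1,
  .rule 18 1,
  .rule 20 1,
  .rule 22 1,
  .rule 8 1,
  .rule 10 1,
  .rule 24 1,
  .rule 12 1,
  .rule 18 0,
  .rule 24 0,
  .rule 22 0,
  .rule 14 1,
  .rule 16 1,
  .rule 20 0,
  .rule 10 1,
  .rule 10 0,
  .rule 30 0,
  .rule 40 4,
  .rule 28 1,
  .rule 30 1,
  .rule 18 1,
  .rule 20 1,
  .rule 22 1,
  .rule 28 0,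
  .rule 24 1,
  .rule 40 1,
  .rule 20 0,
  .rule 14 1,
  .rule 40 6,
  .rule 28 1,
  .rule 10 1,
  .rule 12 1,
  .rule 30 1,
  .rule 16 1,
  .rule 8 1]

def mainOps1_1 : List Op := [.rule 14 1,
  .rule 10 1,
  .rule 18 0,
  .rule 10 0,
  .rule 18 1,
  .rule 20 1,
  .rule 22 1,
  .rule 32 1,
  .rule 12 0,
  .rule 32 0,
  .rule 36 0,
  .rule 40 6,
  .rule 28 1,
  .rule 30 1,
  .rule 18 1,
  .rule 20 1,
  .rule 24 0,
  .rule 34 0,
  .rule 36 1,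
  .rule 32 1,
  .rule 16 0,
  .rule 24 1,
  .rule 22 1,
  .rule 12 1,
  .rule 14 0,
  .rule 14 1,
  .rule 16 1,
  .rule 10 1,
  .rule 8 1,
  .rule 12 0,
  .rule 40 3,
  .rule 8 0,
  .rule 10 0,
  .rule 28 0,
  .rule 30 0,
  .rule 32 1,
  .rule 18 0,
  .rule 40 4,
  .rule 28 1,
  .rule 30 1,
  .rule 34 0,
  .rule 24 1,
  .rule 34 1,
  .rule 32 0,
  .rule 18 1,
  .rule 20 1,
  .rule 12 1,
  .rule 14 1,
  .rule 16 1,
  .rule 10 0]

def mainOps1_2 : List Op := [.rule 40 4,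
  .rule 28 1,
  .rule 30 1,
  .rule 22 1,
  .rule 36 0,
  .rule 16 0,
  .rule 24 1,
  .rule 18 1,
  .rule 40 9,
  .rule 14 1,
  .rule 12 1,
  .rule 16 1,
  .rule 14 1,
  .rule 10 0,
  .rule 22 0,
  .rule 20 0,
  .rule 40 4,
  .rule 28 1,
  .rule 30 1,
  .rule 18 1,
  .rule 14 0,
  .rule 20 1,
  .rule 24 0,
  .rule 22 0,
  .rule 52 0,
  .rule 38 0,
  .rule 52 1,
  .rule 10 1,
  .rule 12 1,
  .rule 14 1,
  .rule 8 0,
  .rule 18 0,
  .rule 12 1,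
  .rule 16 1]

def mainOps1 : List Op :=
  List.flatten [mainOps1_0, mainOps1_1, mainOps1_2]

theorem mainStep1_ok :
    sameState (run mainData mainSt1 mainOps1) mainSt2 = true := by decide +kernel

end CfsgLib.Recog.ONan
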