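import Cfsg.Agent.Lib.Recog.ONan.Prop
import Cfsg.Agent.Lib.Recog.ONan.MainData
import Cfsg.Agent.Lib.Recog.ONan.mainState15
import Cfsg.Agent.Lib.Recog.ONan.mainState16

set_option autoImplicit false
set_option maxRecDepth 100000

/-! One stretch of a propagation certificate (owner: helper9). -/

namespace CfsgLib.Recog.ONan

def mainOps15_0 : List Op := [.rule 58 33,
  .rule 50 7,
  .rule 38 0,
  .rule 54 0,
  .rule 56 0,
  .rule 58 33,
  .rule 38 0,
  .rule 52 0,
  .rule 58 33,
  .rule 48 1,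
  .rule 38 0,
  .rule 52 0,
  .rule 56 0,
  .rule 58 33,
  .rule 38 0,
  .rule 52 0,
  .rule 58 33,
  .rule 48 1,
  .rule 38 0,
  .rule 52 0,
  .rule 56 0,
  .rule 58 33,
  .rule 38 0,
  .rule 52 0,
  .rule 58 33,
  .rule 50 10,
  .rule 38 0,
  .rule 54 0,
  .rule 56 5,
  .rule 50 7,
  .rule 38 0,
  .rule 54 0,
  .rule 56 0,
  .rule 58 33,
  .rule 38 0,
  .rule 52 0,
  .rule 58 33,
  .rule 42 0,
  .rule 38 0,
  .rule 50 4,
  .rule 54 0]

def mainOps15 : List Op :=
  List.flatten [mainOps15_0]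

theorem mainStep15_ok :
    sameState (run mainData mainSt15 mainOps15) mainSt16 = true := by decide +kernel

end CfsgLib.Recog.ONan
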