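import Cfsg.Agent.Lib.Recog.ONan.Prop
import Cfsg.Agent.Lib.Recog.ONan.MainData
import Cfsg.Agent.Lib.Recog.ONan.mainState16
import Cfsg.Agent.Lib.Recog.ONan.mainState17

set_option autoImplicit false
set_option maxRecDepth 100000

/-! One stretch of a propagation certificate (owner: helper9). -/

namespace CfsgLib.Recog.ONan

def mainOps16_0 : List Op := [.rule 38 0,
  .rule 56 0,
  .rule 58 33,
  .rule 52 0,
  .rule 38 0,
  .rule 58 33,
  .rule 48 7,
  .rule 38 0,
  .rule 52 0,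
  .rule 56 0,
  .rule 58 33,
  .rule 38 0,
  .rule 52 0,
  .rule 58 33,
  .rule 50 7,
  .rule 54 0,
  .rule 38 0,
  .rule 56 0,
  .rule 58 33,
  .rule 38 0,
  .rule 52 0,
  .rule 58 33,
  .rule 50 4,
  .rule 54 0,
  .rule 38 0,
  .rule 56 0,
  .rule 50 1,
  .rule 38 0,
  .rule 54 0,
  .rule 56 0,
  .rule 58 33,
  .rule 52 0,
  .rule 38 0,
  .rule 58 33,
  .rule 50 7,
  .rule 54 0,
  .rule 38 0,
  .rule 56 0,
  .rule 50 10,
  .rule 38 0,
  .rule 54 0,
  .rule 56 5,
  .rule 50 4,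
  .rule 54 0,
  .rule 38 0,
  .rule 56 5,
  .rule 48 4,
  .rule 52 0]

def mainOps16 : List Op :=
  List.flatten [mainOps16_0]

theorem mainStep16_ok :
    sameState (run mainData mainSt16 mainOps16) mainSt17 = true := by decide +kernel

end CfsgLib.Recog.ONan
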