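import Cfsg.Agent.Lib.Recog.ONan.Prop
import Cfsg.Agent.Lib.Recog.ONan.MainData
import Cfsg.Agent.Lib.Recog.ONan.mainState17
import Cfsg.Agent.Lib.Recog.ONan.mainState18

set_option autoImplicit false
set_option maxRecDepth 100000

/-! One stretch of a propagation certificate (owner: helper9). -/

namespace CfsgLib.Recog.ONan

def mainOps17_0 : List Op := [.rule 38 0,
  .rule 56 0,
  .rule 42 2,
  .rule 38 1,
  .rule 48 7,
  .rule 52 0,
  .rule 38 1,
  .rule 56 5,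
  .rule 50 4,
  .rule 54 0,
  .rule 38 0,
  .rule 42 2,
  .rule 38 1,
  .rule 52 3,
  .rule 48 4,
  .rule 50 4,
  .rule 54 0,
  .rule 42 9,
  .rule 52 1,
  .rule 48 3,
  .rule 38 1,
  .rule 42 2,
  .rule 38 0,
  .rule 52 1,
  .rule 48 7,
  .rule 50 4,
  .rule 38 3,
  .rule 54 0,
  .rule 10 0,
  .rule 12 1,
  .rule 52 0,
  .rule 14 1,
  .rule 8 0,
  .rule 10 0,
  .rule 18 0,
  .rule 52 0,
  .rule 44 9,
  .rule 16 1,
  .rule 10 0,
  .rule 38 1,
  .rule 32 0,
  .rule 50 7,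
  .rule 48 0,
  .rule 18 1,
  .rule 20 1,
  .rule 8 1,
  .rule 48 4,
  .rule 52 3,
  .rule 22 1,
  .rule 52 0]

def mainOps17_1 : List Op := [.rule 54 0,
  .rule 14 1,
  .rule 10 0,
  .rule 24 1,
  .rule 18 0,
  .rule 48 4,
  .rule 44 9,
  .rule 52 0,
  .rule 32 0,
  .rule 42 2,
  .rule 38 3,
  .rule 10 0,
  .rule 28 1,
  .rule 30 1,
  .rule 10 1,
  .rule 52 0,
  .rule 12 0,
  .rule 20 0,
  .rule 32 0,
  .rule 42 4,
  .rule 48 4,
  .rule 10 1]

def mainOps17 : List Op :=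
  List.flatten [mainOps17_0, mainOps17_1]

theorem mainStep17_ok :
    sameState (run mainData mainSt17 mainOps17) mainSt18 = true := by decide +kernel

end CfsgLib.Recog.ONan
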