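import Cfsg.Agent.Lib.Recog.ONan.Prop
import Cfsg.Agent.Lib.Recog.ONan.MainData
import Cfsg.Agent.Lib.Recog.ONan.mainState2
import Cfsg.Agent.Lib.Recog.ONan.mainState3

set_option autoImplicit false
set_option maxRecDepth 100000

/-! One stretch of a propagation certificate (owner: helper9). -/

namespace CfsgLib.Recog.ONan

def mainOps2_0 : List Op := [.rule 8 0,
  .rule 10 1,
  .rule 12 1,
  .rule 14 1,
  .rule 8 0,
  .rule 18 0,
  .rule 40 0,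
  .rule 28 1,
  .rule 30 1,
  .rule 18 1,
  .rule 20 1,
  .rule 8 1,
  .rule 18 0,
  .rule 40 2,
  .rule 28 1,
  .rule 30 1,
  .rule 18 1,
  .rule 20 1,
  .rule 22 1,
  .rule 24 1,
  .rule 8 1,
  .rule 10 1,
  .rule 12 1,
  .rule 14 1,
  .rule 16 1,
  .rule 40 2,
  .rule 28 1,
  .rule 30 1,
  .rule 18 1,
  .rule 20 1,
  .rule 22 1,
  .rule 24 1,
  .rule 40 1,
  .rule 10 0,
  .rule 8 0,
  .rule 20 0,
  .rule 40 9,
  .rule 14 1,
  .rule 12 1,
  .rule 16 1,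
  .rule 10 0,
  .rule 8 1,
  .rule 10 0,
  .rule 14 1,
  .rule 10 0,
  .rule 40 2,
  .rule 28 1,
  .rule 30 1,
  .rule 10 1,
  .rule 28 1]

def mainOps2_1 : List Op := [.rule 40 3,
  .rule 18 0,
  .rule 20 0,
  .rule 38 2,
  .rule 24 0,
  .rule 30 0,
  .rule 34 0,
  .rule 36 1,
  .rule 32 1,
  .rule 12 0,
  .rule 20 0,
  .rule 40 1,
  .rule 20 0,
  .rule 12 0,
  .rule 32 1,
  .rule 34 1,
  .rule 40 2,
  .rule 28 1,
  .rule 10 1,
  .rule 30 1,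
  .rule 10 1,
  .rule 12 1,
  .rule 14 1,
  .rule 10 1,
  .rule 18 0,
  .rule 40 3,
  .rule 32 1,
  .rule 8 0,
  .rule 34 1,
  .rule 20 0,
  .rule 18 1,
  .rule 20 1,
  .rule 22 1,
  .rule 8 1,
  .rule 24 1,
  .rule 18 0,
  .rule 10 1,
  .rule 12 1,
  .rule 14 1,
  .rule 16 1,
  .rule 10 1,
  .rule 12 1,
  .rule 8 1,
  .rule 14 1,
  .rule 10 0,
  .rule 16 1,
  .rule 32 1,
  .rule 40 4,
  .rule 28 1,
  .rule 10 1]

def mainOps2_2 : List Op := [.rule 12 1,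
  .rule 30 1,
  .rule 18 1,
  .rule 20 1,
  .rule 8 1,
  .rule 14 1,
  .rule 16 1,
  .rule 8 0,
  .rule 10 0,
  .rule 22 1,
  .rule 24 1,
  .rule 18 0,
  .rule 10 1,
  .rule 12 1,
  .rule 14 1,
  .rule 16 1,
  .rule 10 0,
  .rule 40 3,
  .rule 20 0,
  .rule 32 0,
  .rule 36 0,
  .rule 12 0,
  .rule 14 0,
  .rule 16 0,
  .rule 40 0,
  .rule 28 1,
  .rule 30 1,
  .rule 18 1,
  .rule 20 1,
  .rule 22 1,
  .rule 24 1,
  .rule 28 0]

def mainOps2 : List Op :=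
  List.flatten [mainOps2_0, mainOps2_1, mainOps2_2]

theorem mainStep2_ok :
    sameState (run mainData mainSt2 mainOps2) mainSt3 = true := by decide +kernel

end CfsgLib.Recog.ONan
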