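import Cfsg.Agent.Lib.Recog.ONan.Prop
import Cfsg.Agent.Lib.Recog.ONan.MainData
import Cfsg.Agent.Lib.Recog.ONan.mainState3
import Cfsg.Agent.Lib.Recog.ONan.mainState4

set_option autoImplicit false
set_option maxRecDepth 100000

/-! One stretch of a propagation certificate (owner: helper9). -/

namespace CfsgLib.Recog.ONan

def mainOps3_0 : List Op := [.rule 30 0,
  .rule 34 0,
  .rule 32 1,
  .rule 34 1,
  .rule 40 2,
  .rule 28 1,
  .rule 30 1,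
  .rule 18 1,
  .rule 20 1,
  .rule 22 1,
  .rule 24 1,
  .rule 32 0,
  .rule 40 9,
  .rule 14 1,
  .rule 12 1,
  .rule 16 1,
  .rule 10 0,
  .rule 14 1,
  .rule 10 0,
  .rule 40 2,
  .rule 28 1,
  .rule 30 1,
  .rule 18 0,
  .rule 38 0,
  .rule 54 1,
  .rule 30 0,
  .rule 36 1,
  .rule 32 1,
  .rule 24 0,
  .rule 34 0,
  .rule 16 0,
  .rule 30 0,
  .rule 36 1,
  .rule 32 1,
  .rule 24 0,
  .rule 34 0,
  .rule 36 1,
  .rule 14 0,
  .rule 32 1,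
  .rule 16 0,
  .rule 28 0,
  .rule 30 0,
  .rule 34 0,
  .rule 40 1,
  .rule 20 0,
  .rule 12 0,
  .rule 32 0,
  .rule 36 0,
  .rule 28 0,
  .rule 32 1]

def mainOps3_1 : List Op := [.rule 34 1,
  .rule 40 2,
  .rule 28 1,
  .rule 10 1,
  .rule 30 1,
  .rule 18 1,
  .rule 20 1,
  .rule 40 3,
  .rule 20 0,
  .rule 12 1,
  .rule 10 1,
  .rule 14 1,
  .rule 12 1,
  .rule 16 1,
  .rule 14 1,
  .rule 8 0,
  .rule 18 1,
  .rule 32 0,
  .rule 32 1,
  .rule 28 0,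
  .rule 36 0,
  .rule 16 1,
  .rule 10 1,
  .rule 20 1,
  .rule 22 1,
  .rule 24 1,
  .rule 18 0,
  .rule 18 1,
  .rule 20 1,
  .rule 10 0,
  .rule 34 1,
  .rule 40 2,
  .rule 12 1,
  .rule 14 1,
  .rule 16 1,
  .rule 12 0,
  .rule 32 0,
  .rule 28 1,
  .rule 22 1,
  .rule 40 1,
  .rule 40 4,
  .rule 28 0,
  .rule 28 1,
  .rule 30 0,
  .rule 30 1,
  .rule 32 0,
  .rule 34 0,
  .rule 40 9,
  .rule 14 1,
  .rule 12 1]

def mainOps3_2 : List Op := [.rule 16 1,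
  .rule 10 0,
  .rule 14 1,
  .rule 10 1,
  .rule 12 0,
  .rule 10 0,
  .rule 20 0,
  .rule 40 6,
  .rule 28 1,
  .rule 10 1,
  .rule 12 1,
  .rule 16 1,
  .rule 10 0,
  .rule 14 1,
  .rule 12 0,
  .rule 16 0,
  .rule 38 3,
  .rule 40 1,
  .rule 20 1,
  .rule 22 1,
  .rule 24 1,
  .rule 20 1,
  .rule 22 1,
  .rule 8 0,
  .rule 18 0,
  .rule 32 1,
  .rule 34 1,
  .rule 32 0,
  .rule 44 9,
  .rule 20 0,
  .rule 12 0,
  .rule 40 1]

def mainOps3 : List Op :=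
  List.flatten [mainOps3_0, mainOps3_1, mainOps3_2]

theorem mainStep3_ok :
    sameState (run mainData mainSt3 mainOps3) mainSt4 = true := by decide +kernel

end CfsgLib.Recog.ONan
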