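import Cfsg.Agent.Lib.Recog.ONan.Prop
import Cfsg.Agent.Lib.Recog.ONan.MainData
import Cfsg.Agent.Lib.Recog.ONan.mainState4
import Cfsg.Agent.Lib.Recog.ONan.mainState5

set_option autoImplicit false
set_option maxRecDepth 100000

/-! One stretch of a propagation certificate (owner: helper9). -/

namespace CfsgLib.Recog.ONan

def mainOps4_0 : List Op := [.rule 20 0,
  .rule 32 0,
  .rule 28 0,
  .rule 36 0,
  .rule 14 0,
  .rule 22 0,
  .rule 32 1,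
  .rule 34 1,
  .rule 12 0,
  .rule 32 0,
  .rule 36 0,
  .rule 28 0,
  .rule 30 0,
  .rule 22 0,
  .rule 24 0,
  .rule 34 0,
  .rule 16 0,
  .rule 36 1,
  .rule 32 1,
  .rule 40 1,
  .rule 20 0,
  .rule 32 0,
  .rule 28 0,
  .rule 36 0,
  .rule 34 0,
  .rule 24 1,
  .rule 22 1,
  .rule 18 0,
  .rule 20 1,
  .rule 40 0,
  .rule 28 1,
  .rule 18 1,
  .rule 20 1,
  .rule 22 1,
  .rule 24 1,
  .rule 8 1,
  .rule 20 0,
  .rule 22 1,
  .rule 30 1,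
  .rule 36 1,
  .rule 32 1,
  .rule 12 0,
  .rule 42 4,
  .rule 28 1,
  .rule 18 1,
  .rule 20 1,
  .rule 8 1,
  .rule 10 1,
  .rule 14 1,
  .rule 16 1]

def mainOps4_1 : List Op := [.rule 8 0,
  .rule 18 0,
  .rule 40 2,
  .rule 28 1,
  .rule 30 1,
  .rule 18 1,
  .rule 20 1,
  .rule 8 1,
  .rule 10 1,
  .rule 14 1,
  .rule 12 1,
  .rule 16 1,
  .rule 14 1,
  .rule 16 1,
  .rule 10 0,
  .rule 8 0,
  .rule 18 0,
  .rule 8 1,
  .rule 10 1,
  .rule 10 0,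
  .rule 40 4,
  .rule 28 1,
  .rule 30 1,
  .rule 18 1,
  .rule 20 1,
  .rule 22 1,
  .rule 24 1,
  .rule 8 1,
  .rule 10 1,
  .rule 12 1,
  .rule 10 0,
  .rule 14 1,
  .rule 18 0,
  .rule 40 5,
  .rule 20 0,
  .rule 8 1,
  .rule 16 1,
  .rule 10 0,
  .rule 40 2,
  .rule 28 1,
  .rule 30 1,
  .rule 10 1,
  .rule 12 1,
  .rule 14 1,
  .rule 8 0,
  .rule 10 0,
  .rule 10 1,
  .rule 18 1,
  .rule 40 1,
  .rule 32 1]

def mainOps4_2 : List Op := [.rule 20 0,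
  .rule 20 1,
  .rule 32 0,
  .rule 36 0,
  .rule 40 0,
  .rule 28 1,
  .rule 10 1,
  .rule 12 1,
  .rule 8 1,
  .rule 10 1,
  .rule 14 1,
  .rule 16 1,
  .rule 12 1,
  .rule 28 0,
  .rule 22 1,
  .rule 30 0,
  .rule 24 1,
  .rule 20 1,
  .rule 8 1,
  .rule 16 0,
  .rule 34 0,
  .rule 18 0,
  .rule 36 1,
  .rule 32 1,
  .rule 10 0,
  .rule 22 1,
  .rule 30 0,
  .rule 40 1,
  .rule 14 1,
  .rule 10 1,
  .rule 12 1,
  .rule 14 1]

def mainOps4 : List Op :=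
  List.flatten [mainOps4_0, mainOps4_1, mainOps4_2]

theorem mainStep4_ok :
    sameState (run mainData mainSt4 mainOps4) mainSt5 = true := by decide +kernel

end CfsgLib.Recog.ONan
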