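import Cfsg.Agent.Lib.Recog.ONan.Prop
import Cfsg.Agent.Lib.Recog.ONan.MainData
import Cfsg.Agent.Lib.Recog.ONan.mainState5
import Cfsg.Agent.Lib.Recog.ONan.mainState6

set_option autoImplicit false
set_option maxRecDepth 100000

/-! One stretch of a propagation certificate (owner: helper9). -/

namespace CfsgLib.Recog.ONan

def mainOps5_0 : List Op := [.rule 8 0,
  .rule 24 1,
  .rule 16 1,
  .rule 18 1,
  .rule 12 0,
  .rule 34 1,
  .rule 40 4,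
  .rule 28 1,
  .rule 10 1,
  .rule 14 0,
  .rule 16 0,
  .rule 20 1,
  .rule 30 1,
  .rule 40 9,
  .rule 14 1,
  .rule 12 1,
  .rule 16 1,
  .rule 10 0,
  .rule 14 1,
  .rule 10 0,
  .rule 10 1,
  .rule 22 1,
  .rule 40 2,
  .rule 28 1,
  .rule 30 1,
  .rule 18 1,
  .rule 40 1,
  .rule 20 0,
  .rule 48 7,
  .rule 38 0,
  .rule 52 0,
  .rule 56 0,
  .rule 42 1,
  .rule 56 0,
  .rule 40 1,
  .rule 20 0,
  .rule 32 0,
  .rule 28 0,
  .rule 36 0,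
  .rule 14 0,
  .rule 22 0,
  .rule 32 1,
  .rule 34 1,
  .rule 12 0,
  .rule 32 0,
  .rule 36 0,
  .rule 28 0,
  .rule 30 0,
  .rule 22 0,
  .rule 32 1]

def mainOps5_1 : List Op := [.rule 34 1,
  .rule 40 1,
  .rule 20 0,
  .rule 12 0,
  .rule 32 0,
  .rule 36 0,
  .rule 28 0,
  .rule 32 1,
  .rule 34 1,
  .rule 20 0,
  .rule 12 0,
  .rule 32 0,
  .rule 36 0,
  .rule 24 1,
  .rule 22 1,
  .rule 20 1,
  .rule 18 1,
  .rule 20 1,
  .rule 18 0,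
  .rule 40 2,
  .rule 28 1,
  .rule 10 1,
  .rule 30 1,
  .rule 18 0,
  .rule 10 1,
  .rule 12 1,
  .rule 10 1,
  .rule 14 1,
  .rule 8 0,
  .rule 16 1,
  .rule 12 0,
  .rule 10 0,
  .rule 8 1,
  .rule 10 1,
  .rule 12 1,
  .rule 10 0,
  .rule 14 1,
  .rule 8 1,
  .rule 10 0,
  .rule 40 4,
  .rule 28 1,
  .rule 30 1,
  .rule 18 1,
  .rule 20 1,
  .rule 22 1,
  .rule 10 1,
  .rule 24 1,
  .rule 8 1,
  .rule 40 1,
  .rule 20 0]

def mainOps5_2 : List Op := [.rule 32 1,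
  .rule 12 1,
  .rule 10 0,
  .rule 28 0,
  .rule 30 0,
  .rule 20 1,
  .rule 14 1,
  .rule 18 1,
  .rule 20 1,
  .rule 22 1,
  .rule 18 0,
  .rule 40 6,
  .rule 28 1,
  .rule 30 1,
  .rule 16 1,
  .rule 22 0,
  .rule 24 1,
  .rule 10 1,
  .rule 16 0,
  .rule 18 1,
  .rule 20 1,
  .rule 22 1,
  .rule 28 0,
  .rule 34 1,
  .rule 12 1,
  .rule 40 0,
  .rule 28 1,
  .rule 30 1,
  .rule 40 9,
  .rule 14 1]

def mainOps5 : List Op :=
  List.flatten [mainOps5_0, mainOps5_1, mainOps5_2]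

theorem mainStep5_ok :
    sameState (run mainData mainSt5 mainOps5) mainSt6 = true := by decide +kernel

end CfsgLib.Recog.ONan
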