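import Cfsg.Agent.Lib.Recog.ONan.Prop
import Cfsg.Agent.Lib.Recog.ONan.MainData
import Cfsg.Agent.Lib.Recog.ONan.mainState6
import Cfsg.Agent.Lib.Recog.ONan.mainState7

set_option autoImplicit false
set_option maxRecDepth 100000

/-! One stretch of a propagation certificate (owner: helper9). -/

namespace CfsgLib.Recog.ONan

def mainBurst6_51 : Burst where
  facts := .leaf 0x25c7011fd2025c720000309006200001099a0200002
  nd := 1
  recs := [0x10000000005200000000000008,
    0x2000000000320000000010000a,
    0x1000030000400001200000000000012]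
  pt := 4605
  lett := 2
  path := 0x4
  len := 1

def mainBurst6_52 : Burst where
  facts := .leaf 0x1d1651a5063162882000130f1402000121630420001111cd72000012000020001411d3d200002
  nd := 2
  recs := [0x10000000005200000000000008,
    0x300002000000000320001000000000c,
    0x1000020000000003200010000000014,
    0x50000000005200010000100012,
    0x4000000000000000000060000500004200010000000028]
  pt := 107782
  lett := 3
  path := 0x7
  len := 1

def mainBurst6_53 : Burst where
  facts := .leaf 0x268001223005542000332000220003200a30200031001fe20002300478200021015d920001120001200034200002000242000020001200a0c200001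
  nd := 4
  recs := [0x1000020000000005200010000000008,
    0x100003000000000320002000000000c,
    0x6000000000320002000010000a,
    0x500004000000000320003000000000c,
    0x300002000040000000003200030000000014,
    0x8000000000320003000010000a,
    0x700009000000000a0000300002200030000000012]
  pt := 290
  lett := 3
  path := 0xb
  len := 1

def mainBurst6_100 : Burst where
  facts := .leaf 0x2b7b058cd202ee2058cd4116c80ae1d408f3620000f0dafd20001f09b9a20002213f1c2000212000020001406123200005086b2200023086b220001206125200002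
  nd := 3
  recs := [0x10000000003200000000100016,
    0x100000000020000000003200010000100014,
    0x3000000000320002000000000a,
    0x60000000005200020000100008,
    0x200003000000000000000000070000200004200020000100012,
    0x8000050000000003200000000000005,
    0x400009000020000408f360000000020,
    0xa00003000060ae1d0000500028,
    0xb0000000003058cd0000000014]
  pt := 11131
  lett := 2
  path := 0xc
  len := 1

def mainOps6_0 : List Op := [.rule 12 1,
  .rule 48 1,
  .rule 38 0,
  .rule 52 0,
  .rule 56 0,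
  .rule 48 4,
  .rule 38 0,
  .rule 52 0,
  .rule 44 2,
  .rule 38 0,
  .rule 48 9,
  .rule 18 0,
  .rule 10 0,
  .rule 28 1,
  .rule 40 0,
  .rule 28 1,
  .rule 18 1,
  .rule 20 1,
  .rule 24 1,
  .rule 22 1,
  .rule 18 0,
  .rule 24 1,
  .rule 30 1,
  .rule 10 0,
  .rule 40 2,
  .rule 28 1,
  .rule 10 1,
  .rule 12 1,
  .rule 16 1,
  .rule 8 1,
  .rule 10 0,
  .rule 14 1,
  .rule 16 1,
  .rule 10 0,
  .rule 10 1,
  .rule 18 1,
  .rule 20 1,
  .rule 8 0,
  .rule 40 2,
  .rule 28 1,
  .rule 18 1,
  .rule 20 1,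
  .rule 22 1,
  .rule 24 1,
  .rule 18 0,
  .rule 8 1,
  .rule 22 1,
  .rule 10 1,
  .rule 20 1,
  .rule 12 1]

def mainOps6_1 : List Op := [.rule 14 1,
  .burst mainBurst6_51,
  .burst mainBurst6_52,
  .burst mainBurst6_53,
  .rule 16 1,
  .rule 10 0,
  .rule 8 0,
  .rule 40 5,
  .rule 18 1,
  .rule 20 1,
  .rule 22 1,
  .rule 24 1,
  .rule 18 0,
  .rule 10 1,
  .rule 12 1,
  .rule 14 1,
  .rule 16 1,
  .rule 10 1,
  .rule 10 0,
  .rule 12 0,
  .rule 20 1,
  .rule 40 4,
  .rule 28 1,
  .rule 18 1,
  .rule 20 1,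
  .rule 22 1,
  .rule 24 1,
  .rule 8 1,
  .rule 10 1,
  .rule 22 1,
  .rule 18 0,
  .rule 18 1,
  .rule 20 1,
  .rule 28 0,
  .rule 20 0,
  .rule 32 1,
  .rule 22 1,
  .rule 14 1,
  .rule 12 1,
  .rule 10 1,
  .rule 30 1,
  .rule 40 6,
  .rule 28 1,
  .rule 30 1,
  .rule 10 1,
  .rule 18 1,
  .rule 12 1,
  .rule 14 1,
  .rule 8 0,
  .rule 20 1]

def mainOps6_2 : List Op := [.burst mainBurst6_100,
  .rule 22 1,
  .rule 24 1,
  .rule 16 1,
  .rule 18 0,
  .rule 12 0,
  .rule 22 0,
  .rule 20 0,
  .rule 12 1,
  .rule 14 1,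
  .rule 32 0,
  .rule 40 1,
  .rule 12 1,
  .rule 16 1,
  .rule 10 0,
  .rule 24 0,
  .rule 20 1,
  .rule 22 1,
  .rule 18 1,
  .rule 20 1,
  .rule 24 1,
  .rule 28 1,
  .rule 32 0,
  .rule 8 1,
  .rule 10 0,
  .rule 14 1,
  .rule 12 0,
  .rule 16 1,
  .rule 14 0,
  .rule 36 0,
  .rule 22 1,
  .rule 32 1,
  .rule 40 2,
  .rule 28 1,
  .rule 30 0]

def mainOps6 : List Op :=
  List.flatten [mainOps6_0, mainOps6_1, mainOps6_2]

theorem mainStep6_ok :
    sameState (run mainData mainSt6 mainOps6) mainSt7 = true := by decide +kernel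

end CfsgLib.Recog.ONan
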