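import Cfsg.Agent.Lib.Recog.ONan.Prop
import Cfsg.Agent.Lib.Recog.ONan.MainData
import Cfsg.Agent.Lib.Recog.ONan.mainState8
import Cfsg.Agent.Lib.Recog.ONan.mainState9

set_option autoImplicit false
set_option maxRecDepth 100000

/-! One stretch of a propagation certificate (owner: helper9). -/

namespace CfsgLib.Recog.ONan

def mainOps8_0 : List Op := [.rule 8 1,
  .rule 40 0,
  .rule 28 1,
  .rule 30 1,
  .rule 10 1,
  .rule 12 1,
  .rule 8 0,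
  .rule 14 1,
  .rule 10 0,
  .rule 22 1,
  .rule 16 1,
  .rule 24 1,
  .rule 10 0,
  .rule 28 0,
  .rule 40 0,
  .rule 28 1,
  .rule 30 1,
  .rule 40 1,
  .rule 32 0,
  .rule 36 0,
  .rule 30 1,
  .rule 28 1,
  .rule 20 1,
  .rule 22 1,
  .rule 18 1,
  .rule 20 1,
  .rule 18 0,
  .rule 22 1,
  .rule 22 0,
  .rule 14 0,
  .rule 28 0,
  .rule 32 1,
  .rule 34 1,
  .rule 20 0,
  .rule 40 1,
  .rule 20 0,
  .rule 12 0,
  .rule 40 2,
  .rule 10 1,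
  .rule 14 1,
  .rule 8 0,
  .rule 10 0,
  .rule 12 1,
  .rule 16 1,
  .rule 8 0,
  .rule 10 1,
  .rule 14 1,
  .rule 18 0,
  .rule 8 0,
  .rule 28 1]

def mainOps8_1 : List Op := [.rule 40 9,
  .rule 14 1,
  .rule 12 1,
  .rule 16 1,
  .rule 10 0,
  .rule 8 1,
  .rule 10 1,
  .rule 14 1,
  .rule 10 0,
  .rule 12 1,
  .rule 40 3,
  .rule 14 1,
  .rule 10 0,
  .rule 16 1,
  .rule 32 0,
  .rule 20 0,
  .rule 32 1,
  .rule 12 0,
  .rule 40 4,
  .rule 28 1,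
  .rule 30 1,
  .rule 10 1,
  .rule 12 1,
  .rule 14 1,
  .rule 8 0,
  .rule 18 0,
  .rule 10 1,
  .rule 12 1,
  .rule 10 0,
  .rule 28 1,
  .rule 30 1,
  .rule 10 1,
  .rule 40 6,
  .rule 28 1,
  .rule 18 1,
  .rule 20 1,
  .rule 24 1,
  .rule 22 1,
  .rule 30 1,
  .rule 24 1,
  .rule 8 1,
  .rule 10 1,
  .rule 12 1,
  .rule 10 0,
  .rule 14 1,
  .rule 8 0,
  .rule 18 1,
  .rule 20 1,
  .rule 18 0,
  .rule 22 1]

def mainOps8_2 : List Op := [.rule 8 1,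
  .rule 10 1,
  .rule 16 1,
  .rule 12 1,
  .rule 8 0,
  .rule 10 0,
  .rule 18 1,
  .rule 8 1,
  .rule 14 1,
  .rule 10 0,
  .rule 20 1,
  .rule 12 0,
  .rule 22 1,
  .rule 18 0,
  .rule 10 1,
  .rule 12 1,
  .rule 16 1,
  .rule 10 0,
  .rule 14 1,
  .rule 24 1,
  .rule 14 0,
  .rule 40 3,
  .rule 20 0,
  .rule 32 0,
  .rule 36 0,
  .rule 28 1,
  .rule 30 1,
  .rule 10 1,
  .rule 12 1,
  .rule 18 1,
  .rule 8 1,
  .rule 20 1,
  .rule 40 4,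
  .rule 28 1]

def mainOps8 : List Op :=
  List.flatten [mainOps8_0, mainOps8_1, mainOps8_2]

theorem mainStep8_ok :
    sameState (run mainData mainSt8 mainOps8) mainSt9 = true := by decide +kernel

end CfsgLib.Recog.ONan
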