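import Cfsg.Agent.Lib.Recog.ONan.Prop
import Cfsg.Agent.Lib.Recog.ONan.MainData
import Cfsg.Agent.Lib.Recog.ONan.mainState9
import Cfsg.Agent.Lib.Recog.ONan.mainState10

set_option autoImplicit false
set_option maxRecDepth 100000

/-! One stretch of a propagation certificate (owner: helper9). -/

namespace CfsgLib.Recog.ONan

def mainOps9_0 : List Op := [.rule 10 1,
  .rule 12 1,
  .rule 16 1,
  .rule 10 0,
  .rule 18 1,
  .rule 14 1,
  .rule 8 1,
  .rule 10 0,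
  .rule 30 1,
  .rule 28 0,
  .rule 22 1,
  .rule 12 0,
  .rule 30 0,
  .rule 40 1,
  .rule 20 0,
  .rule 20 1,
  .rule 24 1,
  .rule 8 1,
  .rule 34 0,
  .rule 40 0,
  .rule 18 0,
  .rule 32 0,
  .rule 10 1,
  .rule 24 0,
  .rule 12 1,
  .rule 14 1,
  .rule 22 1,
  .rule 28 0,
  .rule 30 0,
  .rule 40 0,
  .rule 28 1,
  .rule 46 0,
  .rule 38 0,
  .rule 52 0,
  .rule 56 2,
  .rule 32 0,
  .rule 28 0,
  .rule 36 0,
  .rule 22 0,
  .rule 32 1,
  .rule 34 1,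
  .rule 12 0,
  .rule 32 0,
  .rule 36 0,
  .rule 28 0,
  .rule 30 0,
  .rule 34 0,
  .rule 24 0,
  .rule 36 1,
  .rule 32 1]

def mainOps9_1 : List Op := [.rule 28 0,
  .rule 22 0,
  .rule 32 1,
  .rule 36 0,
  .rule 34 0,
  .rule 34 1,
  .rule 40 3,
  .rule 20 0,
  .rule 12 0,
  .rule 32 0,
  .rule 36 0,
  .rule 28 0,
  .rule 32 1,
  .rule 34 1,
  .rule 40 9,
  .rule 14 1,
  .rule 16 1,
  .rule 8 0,
  .rule 10 0,
  .rule 12 1,
  .rule 12 0,
  .rule 14 1,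
  .rule 14 0,
  .rule 56 0,
  .rule 52 0,
  .rule 30 0,
  .rule 34 0,
  .rule 32 0,
  .rule 48 4,
  .rule 38 0,
  .rule 52 0,
  .rule 42 0,
  .rule 38 0,
  .rule 56 0,
  .rule 48 4,
  .rule 38 0,
  .rule 52 0,
  .rule 56 0,
  .rule 48 7,
  .rule 38 0,
  .rule 56 0,
  .rule 42 0,
  .rule 58 33,
  .rule 38 0,
  .rule 52 0,
  .rule 58 33]

def mainOps9 : List Op :=
  List.flatten [mainOps9_0, mainOps9_1]

theorem mainStep9_ok :
    sameState (run mainData mainSt9 mainOps9) mainSt10 = true := by decide +kernel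

end CfsgLib.Recog.ONan
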