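import Cfsg.Agent.Lib.Recog.ONan.Derived
import Cfsg.Agent.Lib.Recog.ONan.mainStep0
import Cfsg.Agent.Lib.Recog.ONan.mainStep1
import Cfsg.Agent.Lib.Recog.ONan.mainStep2
import Cfsg.Agent.Lib.Recog.ONan.mainStep3
import Cfsg.Agent.Lib.Recog.ONan.mainStep4
import Cfsg.Agent.Lib.Recog.ONan.mainStep5
import Cfsg.Agent.Lib.Recog.ONan.mainStep6
import Cfsg.Agent.Lib.Recog.ONan.mainStep7
import Cfsg.Agent.Lib.Recog.ONan.mainStep8
import Cfsg.Agent.Lib.Recog.ONan.mainStep9
import Cfsg.Agent.Lib.Recog.ONan.mainStep10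
import Cfsg.Agent.Lib.Recog.ONan.mainStep11
import Cfsg.Agent.Lib.Recog.ONan.mainStep12
import Cfsg.Agent.Lib.Recog.ONan.mainStep13
import Cfsg.Agent.Lib.Recog.ONan.mainStep14
import Cfsg.Agent.Lib.Recog.ONan.mainStep15
import Cfsg.Agent.Lib.Recog.ONan.mainStep16
import Cfsg.Agent.Lib.Recog.ONan.mainStep17

set_option autoImplicit false
set_option maxRecDepth 100000

/-!
The subgroup of the six involutions has index 122760 (owner: helper9).
-/

namespace CfsgLib.Recog.ONan

open Cfsg
open CfsgLib.ThreeTrans.CosetIndex (actW actW_eq)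

theorem main_ctx : Ctx (X := GON ⧸ sixSub) lgen mainData := by
  refine ⟨net_ok, fun x => by rw [mainData_inv, mainData_inv, ivl_ivl],
    fun x => by rw [mainData_inv]; exact lgen_inv x, lgen_fifteen, fun x p => by rw [mainData_inv]; exact net_inv x p,
    fun w hw q => by rw [actW_eq, seq_holds hw, one_smul], fun w hw p hp => ?_⟩
  have := phi_word w ⟨p, hp⟩
  rw [seq_holds hw, map_one] at this
  exact this.symm

theorem six_fix_zero : [1, 2, 3, 4, 5, 6].all (fun x => Nat.beq (netAt (mainData.net x) 0) 0) = true := by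
  decide +kernel

theorem start_main : ent mainSt0 8 = 1 ∧ (List.range 8).all (fun x => cond ([1, 2, 3, 4, 5, 6].contains x)
    (Nat.beq (ent mainSt0 x) 1) (Nat.beq (ent mainSt0 x) 0)) = true := by decide +kernel

theorem sound_final :
    Sound lgen ((1 : GON) : GON ⧸ sixSub) mainData mainSt18 ∧ (ent mainSt18 8).testBit 0 = true := by
  have h := sound_start (a := lgen) (D := mainData) (q0 := ((1 : GON) : GON ⧸ sixSub)) start_main.1 (fun x hx => by
    have h := List.all_eq_true.1 start_main.2 x (List.mem_range.2 hx)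
    cases hc : [1, 2, 3, 4, 5, 6].contains x with
    | false => rw [hc, cond_false] at h; exact Or.inl (Nat.eq_of_beq_eq_true h)
    | true =>
      rw [hc, cond_true] at h
      have hm := List.contains_iff_mem.1 hc
      refine Or.inr ⟨Nat.eq_of_beq_eq_true h, ?_, Nat.eq_of_beq_eq_true (List.all_eq_true.1 six_fix_zero x hm)⟩
      rw [MulAction.Quotient.smul_coe, QuotientGroup.eq, smul_eq_mul, mul_one, mul_one]
      exact inv_mem (Subgroup.subset_closure ⟨x, hm, rfl⟩))
  replace h := sound_run main_ctx mainOps0 h.1 h.2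
  rw [sameState_elim mainStep0_ok] at h
  replace h := sound_run main_ctx mainOps1 h.1 h.2
  rw [sameState_elim mainStep1_ok] at h
  replace h := sound_run main_ctx mainOps2 h.1 h.2
  rw [sameState_elim mainStep2_ok] at h
  replace h := sound_run main_ctx mainOps3 h.1 h.2
  rw [sameState_elim mainStep3_ok] at h
  replace h := sound_run main_ctx mainOps4 h.1 h.2
  rw [sameState_elim mainStep4_ok] at h
  replace h := sound_run main_ctx mainOps5 h.1 h.2
  rw [sameState_elim mainStep5_ok] at h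
  replace h := sound_run main_ctx mainOps6 h.1 h.2
  rw [sameState_elim mainStep6_ok] at h
  replace h := sound_run main_ctx mainOps7 h.1 h.2
  rw [sameState_elim mainStep7_ok] at h
  replace h := sound_run main_ctx mainOps8 h.1 h.2
  rw [sameState_elim mainStep8_ok] at h
  replace h := sound_run main_ctx mainOps9 h.1 h.2
  rw [sameState_elim mainStep9_ok] at h
  replace h := sound_run main_ctx mainOps10 h.1 h.2
  rw [sameState_elim mainStep10_ok] at h
  replace h := sound_run main_ctx mainOps11 h.1 h.2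
  rw [sameState_elim mainStep11_ok] at h
  replace h := sound_run main_ctx mainOps12 h.1 h.2
  rw [sameState_elim mainStep12_ok] at h
  replace h := sound_run main_ctx mainOps13 h.1 h.2
  rw [sameState_elim mainStep13_ok] at h
  replace h := sound_run main_ctx mainOps14 h.1 h.2
  rw [sameState_elim mainStep14_ok] at h
  replace h := sound_run main_ctx mainOps15 h.1 h.2
  rw [sameState_elim mainStep15_ok] at h
  replace h := sound_run main_ctx mainOps16 h.1 h.2
  rw [sameState_elim mainStep16_ok] at h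
  replace h := sound_run main_ctx mainOps17 h.1 h.2
  rw [sameState_elim mainStep17_ok] at h
  exact h

theorem end_main : (List.range 8).all (fun x => Nat.beq (ent mainSt18 x) (ent mainSt18 8)) = true ∧
    ent mainSt18 8 = Nat.sub (Nat.shiftLeft 1 122760) 1 := by decide +kernel

theorem gens_top : Subgroup.closure {g | ∃ x ∈ List.range 8, g = lgen x} = (⊤ : Subgroup GON) := by
  rw [eq_top_iff, ← PresentedGroup.closure_range_of, Subgroup.closure_le]
  rintro _ ⟨y, rfl⟩
  exact Subgroup.subset_closure ⟨gidx y, by cases y <;> decide, (lgen_gidx y).symm⟩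

theorem six_fixes {k : GON} (hk : k ∈ sixSub) : ((phi k) ⟨0, by norm_num⟩ : ℕ) = 0 := by
  have hle : sixSub ≤ Subgroup.comap phi (MulAction.stabilizer (Equiv.Perm (Fin (2 ^ 17))) (⟨0, by norm_num⟩ : Fin (2 ^ 17))) := by
    rw [sixSub, Subgroup.closure_le]
    rintro _ ⟨x, hx, rfl⟩
    rw [SetLike.mem_coe, Subgroup.mem_comap, MulAction.mem_stabilizer_iff, Equiv.Perm.smul_def, phi_lgen']
    exact Fin.ext (Nat.eq_of_beq_eq_true (List.all_eq_true.1 six_fix_zero x hx))
  have h2 := hle hk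
  rw [Subgroup.mem_comap, MulAction.mem_stabilizer_iff, Equiv.Perm.smul_def] at h2
  rw [h2]

/-- The point of a coset. -/
noncomputable def cosetPt : GON ⧸ sixSub → Fin (2 ^ 17) :=
  Quotient.lift (fun u => phi u ⟨0, by norm_num⟩) fun u v huv => by
    have h : u⁻¹ * v ∈ sixSub := QuotientGroup.leftRel_apply.1 huv
    have h' : phi (u⁻¹ * v) ⟨0, by norm_num⟩ = ⟨0, by norm_num⟩ := Fin.ext (six_fixes h)
    show phi u ⟨0, _⟩ = phi v ⟨0, _⟩
    conv_rhs => rw [show v = u * (u⁻¹ * v) by group, map_mul, Equiv.Perm.mul_apply, h']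

theorem cosetPt_mk (u : GON) : cosetPt (u : GON ⧸ sixSub) = phi u ⟨0, by norm_num⟩ := rfl

theorem cosetPt_smul (u : GON) (q : GON ⧸ sixSub) : cosetPt (u • q) = phi u (cosetPt q) := by
  obtain ⟨v, rfl⟩ := QuotientGroup.mk_surjective q
  rw [MulAction.Quotient.smul_coe, cosetPt_mk, cosetPt_mk, smul_eq_mul, map_mul, Equiv.Perm.mul_apply]

theorem coset_bijection :
    ∃ v : ℕ → GON ⧸ sixSub, Set.BijOn v (Set.Iio 122760) Set.univ ∧ ∀ p < 122760, (cosetPt (v p) : ℕ) = p := by
  obtain ⟨v, hv, hpi⟩ := covers main_ctx sound_final.1 sound_final.2 (kl := List.range 8) (fun x hx => by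
    have hx' := List.mem_range.1 hx
    refine ⟨hx', ?_, Nat.eq_of_beq_eq_true (List.all_eq_true.1 end_main.1 x hx)⟩
    rw [mainData_inv, List.mem_range]
    interval_cases x <;> decide)
  have hbit : ∀ p, (ent mainSt18 8).testBit p = true ↔ p < 122760 := fun p => by
    rw [end_main.2, testBit_ones, decide_eq_true_eq]
  have hpt : ∀ p < 122760, (cosetPt (v p) : ℕ) = p := fun p hp =>
    hpi (fun q => (cosetPt q : ℕ)) (fun x q => by rw [cosetPt_smul, phi_lgen']; rfl)
      (by rw [cosetPt_mk, map_one]; rfl) p ((hbit p).2 hp)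
  refine ⟨v, ⟨fun p _ => Set.mem_univ _, fun p hp q hq e => ?_, fun c _ => ?_⟩, hpt⟩
  · rw [← hpt p hp, e, hpt q hq]
  · obtain ⟨u, rfl⟩ := QuotientGroup.mk_surjective c
    obtain ⟨p, hp, e⟩ := hv u (by rw [gens_top]; trivial)
    refine ⟨p, (hbit p).1 hp, ?_⟩
    rw [← e, MulAction.Quotient.smul_coe, smul_eq_mul, mul_one]

theorem index_sixSub : sixSub.index = 122760 := by
  obtain ⟨v, hv, -⟩ := coset_bijection
  rw [Subgroup.index_eq_card, ← Nat.card_univ, ← Nat.card_congr hv.equiv]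
  rw [Nat.card_coe_set_eq, ← Finset.coe_Iio, Set.ncard_coe_finset, Nat.card_Iio]

theorem card_GON : Nat.card GON = 460815505920 := by
  rw [← sixSub.card_mul_index, card_sixSub, index_sixSub]

/-- The subgroup as the statements write it. -/
theorem sixSub_eq : (Subgroup.closure ({Cfsg.Spor.ON.a, Cfsg.Spor.ON.b, Cfsg.Spor.ON.c, Cfsg.Spor.ON.d,
    Cfsg.Spor.ON.e, Cfsg.Spor.ON.f} : Set (FreeGroup Cfsg.Spor.ON.Gen))).map
    (PresentedGroup.mk (Cfsg.Spor.coxRelators Cfsg.Spor.ON.edges ∪ {r | r ∈ Cfsg.Spor.ON.extra})) = sixSub := by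
  rw [MonoidHom.map_closure, sixSub]
  congr 1
  ext g
  constructor
  · rintro ⟨w, hw, rfl⟩
    simp only [Set.mem_insert_iff, Set.mem_singleton_iff] at hw
    rcases hw with rfl | rfl | rfl | rfl | rfl | rfl
    · exact ⟨1, by simp, rfl⟩
    · exact ⟨2, by simp, rfl⟩
    · exact ⟨3, by simp, rfl⟩
    · exact ⟨4, by simp, rfl⟩
    · exact ⟨5, by simp, rfl⟩
    · exact ⟨6, by simp, rfl⟩
  · rintro ⟨x, hx, rfl⟩
    simp only [List.mem_cons, List.not_mem_nil, or_false] at hx
    rcases hx with rfl | rfl | rfl | rfl | rfl | rfl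
    · exact ⟨Cfsg.Spor.ON.a, by simp, rfl⟩
    · exact ⟨Cfsg.Spor.ON.b, by simp, rfl⟩
    · exact ⟨Cfsg.Spor.ON.c, by simp, rfl⟩
    · exact ⟨Cfsg.Spor.ON.d, by simp, rfl⟩
    · exact ⟨Cfsg.Spor.ON.e, by simp, rfl⟩
    · exact ⟨Cfsg.Spor.ON.f, by simp, rfl⟩

end CfsgLib.Recog.ONan
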