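import Mathlib

set_option autoImplicit false
set_option maxRecDepth 100000

/-! Literal data for the two simple subgroups (owner: helper9). -/

namespace CfsgLib.Recog.ONan

def jOneSeqs : List (List ℕ) := [
  [2, 1],
  [1, 2],
  [4, 3],
  [3, 4],
  [0, 0],
  [1, 1, 1],
  [1, 0, 1, 0, 1, 0, 1, 0, 1, 0, 1, 0, 1, 0],
  [2, 0, 1, 0, 2, 0, 1, 0, 2, 0, 1, 0, 1, 0, 2, 0, 1, 0, 2, 0, 1, 0, 2, 0, 1, 0, 1, 0, 2, 0, 1, 0, 2, 0, 1, 0, 2, 0, 1, 0, 1, 0, 2, 0, 1, 0, 2, 0, 1, 0, 2, 0, 1, 0, 1, 0, 2, 0, 1, 0, 2, 0, 1, 0, 2, 0, 1, 0, 1, 0],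
  [2, 0, 2, 0, 1, 0, 1, 0, 2, 0, 1, 0, 2, 0, 1, 0, 2, 0, 1, 0, 2, 0, 1, 0, 2, 0, 1, 0, 2, 0, 1, 0, 1, 0, 2, 0, 2, 0, 1, 0, 1, 0, 2, 0, 1, 0, 2, 0, 1, 0, 2, 0, 1, 0, 2, 0, 1, 0, 2, 0, 1, 0, 2, 0, 1, 0, 1, 0],
  [1, 0, 4]]

def mElevenSeqs : List (List ℕ) := [
  [2, 1],
  [1, 2],
  [4, 3],
  [3, 4],
  [0, 0],
  [1, 1, 1, 1],
  [1, 0, 1, 0, 1, 0, 1, 0, 1, 0, 1, 0, 1, 0, 1, 0, 1, 0, 1, 0, 1, 0],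
  [1, 1, 0, 1, 1, 0, 1, 1, 0, 1, 1, 0, 1, 1, 0, 1, 1, 0],
  [2, 0, 2, 0, 1, 0, 2, 0, 1, 1, 0, 1, 0, 2, 0, 1, 0, 1, 0],
  [1, 0, 4]]

def jWordA : List ℕ := [0, 0, 0, 0, 1, 1, 0, 1, 0, 0, 0, 0, 1, 1, 0, 1, 0, 0, 0, 0, 1, 1, 0, 1, 0, 0, 0, 0, 1, 1, 0, 1, 0, 0, 0, 0, 1, 1, 0, 1]

def jWordB : List ℕ := [1, 0, 0, 1, 0, 0, 1, 0, 0, 1, 0, 0, 1, 0, 0, 1, 0, 0, 1, 0, 0, 1, 0, 0, 1, 0, 0, 1, 0, 0, 0, 1, 1, 0, 0, 0, 1, 1, 0, 0]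

def jWordX : List ℕ := [0, 2, 0, 2, 0, 1, 0, 1, 0, 2, 0, 2, 0, 1, 0, 2, 0, 2, 0, 1, 0, 1, 0, 2, 0, 2, 0, 1, 0, 2, 0, 2, 0, 1, 0, 1, 0, 2, 0, 1, 0, 1, 0]

def jWordY : List ℕ := [0, 2, 0, 1, 0, 1, 0, 2, 0, 1, 0, 2, 0, 1, 0, 2, 0, 2, 0, 1, 0, 2, 0, 1, 0, 1, 0, 1]

def mLevels : List (List (List ℕ)) := [
 [
  [],
  [2, 0, 1],
  [2, 2],
  [2],
  [2, 2, 0, 1],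
  [1, 0, 1],
  [0, 2, 2, 0, 1],
  [1],
  [0, 1],
  [0, 2, 0, 1],
  [0, 2]],
 [
  [],
  [1, 0, 1, 0, 2, 0],
  [2, 0, 2, 0, 1, 0, 1, 0],
  [0, 1, 0, 2, 0, 2, 0],
  [2, 2, 0, 2, 2, 0],
  [1, 0, 2, 0, 2, 0],
  [1, 0, 2, 0, 1, 0, 2, 2, 0],
  [2, 2, 0, 2, 0, 2, 0, 2, 0],
  [0],
  [0, 2, 0, 2, 0, 1, 0, 1, 0]],
 [
  [],
  [2, 2, 0, 2, 0, 1, 0, 2],
  [1, 0, 1, 0, 2],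
  [2, 2, 0, 2, 0, 2, 0, 2],
  [1, 0, 2, 2, 0, 2],
  [2, 0, 2, 0, 1, 0, 1],
  [2, 2, 0, 2, 0, 2, 2, 0, 2],
  [1, 0, 2, 0, 2],
  [2, 2, 0, 1, 0, 2, 0, 1, 0, 1]],
 [
  [],
  [2, 2, 0, 2, 2],
  [1, 0, 1, 0, 1, 0, 2, 0, 2, 0, 1, 0, 2, 0, 1, 0, 2],
  [2, 0, 2, 2, 0, 1, 0, 2, 2, 0, 2, 0, 2, 0, 1, 0, 2],
  [2, 0, 2, 0, 2, 0, 1, 0, 2, 2, 0, 1],
  [2, 0, 2, 2, 0, 1, 0, 1, 0, 1, 0, 2, 2, 0, 2, 0, 2],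
  [1, 0, 2, 0, 1, 0, 2, 0, 1, 0, 1, 0, 2, 0, 2, 0, 2],
  [2, 0, 2, 2, 0, 2, 0, 1, 0, 1, 0, 1]]]

def mTabA : Fin 11 → Fin 11 := ![0, 9, 2, 10, 6, 5, 4, 8, 7, 1, 3]

def mTabB : Fin 11 → Fin 11 := ![7, 8, 3, 0, 1, 4, 6, 2, 5, 9, 10]

def mTabBi : Fin 11 → Fin 11 := ![3, 4, 7, 2, 5, 8, 6, 0, 1, 9, 10]

end CfsgLib.Recog.ONan
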