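import Cfsg.Agent.Lib.Recog.ONan.Prop
import Cfsg.Agent.Lib.Recog.ONan.jOneData
import Cfsg.Agent.Lib.Recog.ONan.jOneState0
import Cfsg.Agent.Lib.Recog.ONan.jOneState1

set_option autoImplicit false
set_option maxRecDepth 100000

/-! One stretch of a propagation certificate (owner: helper9). -/

namespace CfsgLib.Recog.ONan

def jOneOps0_0 : List Op := [.grow 0,
  .grow 1,
  .grow 3,
  .grow 4,
  .grow 0,
  .grow 1,
  .grow 2,
  .grow 3,
  .grow 4,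
  .grow 0,
  .grow 1,
  .grow 2,
  .grow 3,
  .grow 4,
  .grow 0,
  .grow 1,
  .grow 2,
  .grow 3,
  .grow 4,
  .grow 0,
  .grow 1,
  .grow 2,
  .grow 3,
  .grow 4,
  .grow 0,
  .grow 1,
  .grow 2,
  .grow 3,
  .grow 4,
  .grow 0,
  .grow 1,
  .grow 2,
  .grow 3,
  .grow 4,
  .grow 0,
  .grow 1,
  .grow 2,
  .grow 3,
  .grow 4,
  .grow 0,
  .grow 1,
  .grow 2,
  .grow 3,
  .grow 4,
  .grow 0,
  .grow 1,
  .grow 2,
  .grow 3,
  .grow 4,
  .grow 0]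

def jOneOps0_1 : List Op := [.grow 1,
  .grow 2,
  .grow 3,
  .grow 4,
  .grow 0,
  .grow 1,
  .grow 2,
  .grow 3,
  .grow 4,
  .grow 0,
  .grow 1,
  .grow 2,
  .grow 3,
  .grow 4,
  .grow 0,
  .grow 1,
  .grow 2,
  .grow 3,
  .grow 4,
  .grow 0,
  .grow 1,
  .rule 5 0,
  .rule 13 0,
  .rule 13 1,
  .rule 13 2,
  .rule 14 2,
  .rule 7 1,
  .rule 11 10,
  .rule 11 13,
  .rule 11 21,
  .rule 9 3,
  .rule 5 0,
  .rule 13 2,
  .rule 7 0,
  .rule 7 1,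
  .rule 11 0,
  .rule 11 4,
  .rule 11 7,
  .rule 11 10,
  .rule 11 11,
  .rule 11 13,
  .rule 11 15,
  .rule 11 17,
  .rule 11 19,
  .rule 11 20,
  .rule 11 21,
  .rule 11 23,
  .rule 11 25,
  .rule 11 27,
  .rule 11 28]

def jOneOps0_2 : List Op := [.rule 11 29,
  .rule 11 30,
  .rule 11 31,
  .rule 12 5,
  .rule 12 7,
  .rule 12 10,
  .rule 12 12,
  .rule 12 14,
  .rule 12 16,
  .rule 12 18,
  .rule 12 19,
  .rule 12 22,
  .rule 12 23,
  .rule 12 26,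
  .rule 12 27,
  .rule 12 29,
  .rule 12 30,
  .rule 12 31,
  .rule 12 32,
  .rule 12 33,
  .rule 9 0,
  .rule 9 1,
  .rule 9 3,
  .rule 9 5,
  .rule 9 6,
  .rule 9 7,
  .rule 9 8,
  .rule 9 10,
  .rule 9 12,
  .rule 5 0,
  .rule 13 2,
  .rule 7 0,
  .rule 7 1,
  .rule 8 0,
  .rule 8 1,
  .rule 11 0,
  .rule 11 2,
  .rule 11 4,
  .rule 11 6]

def jOneOps0 : List Op :=
  List.flatten [jOneOps0_0, jOneOps0_1, jOneOps0_2]

theorem jOneStep0_ok :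
    sameState (run jOneData jOneSt0 jOneOps0) jOneSt1 = true := by decide +kernel

end CfsgLib.Recog.ONan
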