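import Cfsg.Agent.Lib.Recog.ONan.Prop
import Cfsg.Agent.Lib.Recog.ONan.jOneData
import Cfsg.Agent.Lib.Recog.ONan.jOneState1
import Cfsg.Agent.Lib.Recog.ONan.jOneState2

set_option autoImplicit false
set_option maxRecDepth 100000

/-! One stretch of a propagation certificate (owner: helper9). -/

namespace CfsgLib.Recog.ONan

def jOneOps1_0 : List Op := [.rule 11 7,
  .rule 11 8,
  .rule 11 9,
  .rule 11 10,
  .rule 11 11,
  .rule 11 12,
  .rule 11 13,
  .rule 11 14,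
  .rule 11 15,
  .rule 11 17,
  .rule 11 19,
  .rule 11 21,
  .rule 11 23,
  .rule 11 24,
  .rule 11 25,
  .rule 11 27,
  .rule 11 28,
  .rule 11 29,
  .rule 11 30,
  .rule 11 31,
  .rule 11 32,
  .rule 11 33,
  .rule 12 5,
  .rule 12 8,
  .rule 12 9,
  .rule 12 14,
  .rule 12 16,
  .rule 12 20,
  .rule 12 22,
  .rule 12 23,
  .rule 12 29,
  .rule 12 30,
  .rule 12 31,
  .rule 12 32,
  .rule 12 33,
  .rule 9 0,
  .rule 9 1,
  .rule 9 3,
  .rule 9 4,
  .rule 9 5,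
  .rule 9 6,
  .rule 9 7,
  .rule 9 8,
  .rule 9 9,
  .rule 9 10,
  .rule 9 12,
  .rule 9 13,
  .rule 5 0,
  .rule 13 2,
  .rule 7 0]

def jOneOps1_1 : List Op := [.rule 7 1,
  .rule 8 0,
  .rule 8 1,
  .rule 11 0,
  .rule 11 1,
  .rule 11 2,
  .rule 11 3,
  .rule 11 4,
  .rule 11 5,
  .rule 11 6,
  .rule 11 7,
  .rule 11 8]

def jOneOps1 : List Op :=
  List.flatten [jOneOps1_0, jOneOps1_1]

theorem jOneStep1_ok :
    sameState (run jOneData jOneSt1 jOneOps1) jOneSt2 = true := by decide +kernel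

end CfsgLib.Recog.ONan
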