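import Cfsg.Agent.Lib.Recog.ONan.Prop
import Cfsg.Agent.Lib.Recog.ONan.jOneData
import Cfsg.Agent.Lib.Recog.ONan.jOneState2
import Cfsg.Agent.Lib.Recog.ONan.jOneState3

set_option autoImplicit false
set_option maxRecDepth 100000

/-! One stretch of a propagation certificate (owner: helper9). -/

namespace CfsgLib.Recog.ONan

def jOneOps2_0 : List Op := [.rule 11 9,
  .rule 11 10,
  .rule 11 11,
  .rule 11 12,
  .rule 11 13,
  .rule 11 14,
  .rule 11 15,
  .rule 11 16,
  .rule 11 17,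
  .rule 11 19,
  .rule 11 20,
  .rule 11 21,
  .rule 11 22,
  .rule 11 23,
  .rule 11 24,
  .rule 11 25,
  .rule 11 26,
  .rule 11 27,
  .rule 11 28,
  .rule 11 29,
  .rule 11 30,
  .rule 11 31,
  .rule 11 32,
  .rule 11 33,
  .rule 12 2,
  .rule 12 3,
  .rule 12 5,
  .rule 12 6,
  .rule 12 7,
  .rule 12 8,
  .rule 12 9,
  .rule 12 10,
  .rule 12 11,
  .rule 12 13,
  .rule 12 14,
  .rule 12 15,
  .rule 12 16,
  .rule 12 17,
  .rule 12 18,
  .rule 12 19,
  .rule 12 21,
  .rule 12 22,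
  .rule 12 23,
  .rule 12 24,
  .rule 12 25,
  .rule 12 26,
  .rule 12 27,
  .rule 12 28,
  .rule 12 29,
  .rule 12 30]

def jOneOps2_1 : List Op := [.rule 12 31,
  .rule 12 32,
  .rule 12 33,
  .rule 9 0,
  .rule 9 1,
  .rule 9 2,
  .rule 9 3]

def jOneOps2 : List Op :=
  List.flatten [jOneOps2_0, jOneOps2_1]

theorem jOneStep2_ok :
    sameState (run jOneData jOneSt2 jOneOps2) jOneSt3 = true := by decide +kernel

end CfsgLib.Recog.ONan
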