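import Cfsg.Agent.Lib.Recog.ONan.Prop
import Cfsg.Agent.Lib.Recog.ONan.jOneData
import Cfsg.Agent.Lib.Recog.ONan.jOneState3
import Cfsg.Agent.Lib.Recog.ONan.jOneState4

set_option autoImplicit false
set_option maxRecDepth 100000

/-! One stretch of a propagation certificate (owner: helper9). -/

namespace CfsgLib.Recog.ONan

def jOneOps3_0 : List Op := [.rule 9 4,
  .rule 9 5,
  .rule 9 6,
  .rule 9 7,
  .rule 9 8,
  .rule 9 9,
  .rule 9 10,
  .rule 9 11,
  .rule 9 12,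
  .rule 9 13,
  .rule 10 1,
  .rule 10 2,
  .rule 10 3,
  .rule 10 4,
  .rule 10 5,
  .rule 10 6,
  .rule 10 7,
  .rule 10 8,
  .rule 10 9,
  .rule 10 10,
  .rule 10 11,
  .rule 10 12,
  .rule 10 13,
  .rule 5 0,
  .rule 13 2,
  .rule 7 0,
  .rule 7 1,
  .rule 8 0,
  .rule 8 1,
  .rule 11 0,
  .rule 11 1,
  .rule 11 2,
  .rule 11 3,
  .rule 11 4,
  .rule 11 5,
  .rule 11 6,
  .rule 11 7,
  .rule 11 8,
  .rule 11 9,
  .rule 11 10,
  .rule 11 11,
  .rule 11 12,
  .rule 11 13,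
  .rule 11 14,
  .rule 11 15,
  .rule 11 16,
  .rule 11 17,
  .rule 11 18,
  .rule 11 20,
  .rule 11 21]

def jOneOps3_1 : List Op := [.rule 11 22,
  .rule 11 24,
  .rule 11 25,
  .rule 11 26,
  .rule 11 27,
  .rule 11 28,
  .rule 11 29,
  .rule 11 30,
  .rule 11 31,
  .rule 11 32,
  .rule 11 33,
  .rule 12 1]

def jOneOps3 : List Op :=
  List.flatten [jOneOps3_0, jOneOps3_1]

theorem jOneStep3_ok :
    sameState (run jOneData jOneSt3 jOneOps3) jOneSt4 = true := by decide +kernel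

end CfsgLib.Recog.ONan
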