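import Cfsg.Agent.Lib.Recog.ONan.Prop
import Cfsg.Agent.Lib.Recog.ONan.jOneData
import Cfsg.Agent.Lib.Recog.ONan.jOneState4
import Cfsg.Agent.Lib.Recog.ONan.jOneState5

set_option autoImplicit false
set_option maxRecDepth 100000

/-! One stretch of a propagation certificate (owner: helper9). -/

namespace CfsgLib.Recog.ONan

def jOneOps4_0 : List Op := [.rule 12 2,
  .rule 12 3,
  .rule 12 4,
  .rule 12 5,
  .rule 12 6,
  .rule 12 7,
  .rule 12 8,
  .rule 12 9,
  .rule 12 11,
  .rule 12 13,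
  .rule 12 23,
  .rule 12 24,
  .rule 12 25,
  .rule 12 27,
  .rule 12 28,
  .rule 12 29,
  .rule 12 31,
  .rule 12 33,
  .rule 9 0,
  .rule 5 0,
  .rule 13 2,
  .rule 7 1,
  .rule 13 2]

def jOneOps4 : List Op :=
  List.flatten [jOneOps4_0]

theorem jOneStep4_ok :
    sameState (run jOneData jOneSt4 jOneOps4) jOneSt5 = true := by decide +kernel

end CfsgLib.Recog.ONan
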