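import Cfsg.Agent.Lib.Recog.ONan.Pair
import Cfsg.Agent.Lib.Recog.ONan.SubData
import Cfsg.Agent.Lib.Recog.ONan.jOneStep0
import Cfsg.Agent.Lib.Recog.ONan.jOneStep1
import Cfsg.Agent.Lib.Recog.ONan.jOneStep2
import Cfsg.Agent.Lib.Recog.ONan.jOneStep3
import Cfsg.Agent.Lib.Recog.ONan.jOneStep4
import Cfsg.Agent.Lib.Recog.JankoOneSimple

set_option autoImplicit false
set_option maxRecDepth 100000

/-!
Generators of the first Janko group that satisfy the relators of a coset certificate (owner: helper9).
-/

namespace CfsgLib.Recog.ONan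

open CfsgLib.Recog.JankoOne (IsCode code_gen gen pmul pOne isCode_one)

theorem sameState_refl : ∀ s : List ℕ, sameState s s = true
  | [] => rfl
  | v :: s => by
    show (Nat.beq v v && sameState s s) = true
    rw [Nat.beq_refl, sameState_refl s]
    rfl

theorem pairWord_mem {G : Type*} [Group G] (a b : G) (w : List ℕ) :
    (w.map (pairLetter a b)).prod ∈ Subgroup.closure ({a, b} : Set G) := by
  have hma : a ∈ Subgroup.closure ({a, b} : Set G) := Subgroup.subset_closure (Or.inl rfl)
  have hmb : b ∈ Subgroup.closure ({a, b} : Set G) := Subgroup.subset_closure (Or.inr rfl)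
  refine Subgroup.list_prod_mem _ fun z hz => ?_
  obtain ⟨x, -, rfl⟩ := List.mem_map.1 hz
  match x with
  | 0 => exact hma
  | 1 => exact hmb
  | 2 => exact inv_mem hmb
  | 3 => exact mul_mem hma hmb
  | 4 => exact inv_mem (mul_mem hma hmb)
  | (n + 5) => exact one_mem _

theorem janko_gen_eq {u v : JankoOne.G} (hu : IsCode u (gen 0)) (hv : IsCode v (gen 1)) :
    (u : GL (Fin 7) (ZMod 11)) = Cfsg.Spor.jankoX ∧ (v : GL (Fin 7) (ZMod 11)) = Cfsg.Spor.jankoY := by
  obtain ⟨h1, h2, -, -, h5, h6⟩ := JankoOne.gen_check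
  constructor
  · refine Units.ext (JankoOne.enc_injective ?_)
    show JankoOne.enc (JankoOne.mat u) = JankoOne.enc Cfsg.jankoMatrixX
    rw [← h5, JankoOne.enc_dec h1, hu, gen, show ((0 : ℕ) == 0) = true from rfl, cond_true]
  · refine Units.ext (JankoOne.enc_injective ?_)
    show JankoOne.enc (JankoOne.mat v) = JankoOne.enc Cfsg.jankoMatrixY
    rw [← h6, JankoOne.enc_dec h2, hv, gen, show ((1 : ℕ) == 0) = false from rfl, cond_false]

theorem jOne_closure_top {u v : JankoOne.G} (hu : IsCode u (gen 0)) (hv : IsCode v (gen 1))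
    (S : Subgroup JankoOne.G) (hu' : u ∈ S) (hv' : v ∈ S) : S = ⊤ := by
  obtain ⟨eu, ev⟩ := janko_gen_eq hu hv
  rw [eq_top_iff]
  rintro ⟨z, hz⟩ -
  have key : ∀ (w : GL (Fin 7) (ZMod 11)), w ∈ Subgroup.closure {Cfsg.Spor.jankoX, Cfsg.Spor.jankoY} →
      ∃ h : w ∈ Cfsg.Spor.J1, (⟨w, h⟩ : JankoOne.G) ∈ S := by
    intro w hw
    induction hw using Subgroup.closure_induction with
    | mem w hw =>
      rcases hw with h | h
      · exact ⟨h.trans eu.symm ▸ u.2, by simpa [h, ← eu] using hu'⟩
      · rw [Set.mem_singleton_iff] at h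
        exact ⟨h.trans ev.symm ▸ v.2, by simpa [h, ← ev] using hv'⟩
    | one => exact ⟨one_mem _, S.one_mem⟩
    | mul x y _ _ hx hy => exact ⟨mul_mem hx.1 hy.1, S.mul_mem hx.2 hy.2⟩
    | inv x _ hx => exact ⟨inv_mem hx.1, S.inv_mem hx.2⟩
  obtain ⟨h, h'⟩ := key z hz
  exact h'

/-- The operations for the first Janko group. -/
def jOneAll : List Op := jOneOps0 ++ jOneOps1 ++ jOneOps2 ++ jOneOps3 ++ jOneOps4

theorem jOne_start : jOneSt0 = [0, 0, 0, 1, 1, 0, 0, 0, 1] := by decide +kernel

theorem jOne_cert : PairCert jOneData jOneAll jOneSt5 25080 7 where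
  iv := rfl
  len := rfl
  okInv := by decide +kernel
  perm := by decide +kernel
  base := by decide +kernel
  runEq := by
    rw [← jOne_start, jOneAll, run_append, run_append, run_append, run_append, sameState_elim jOneStep0_ok,
      sameState_elim jOneStep1_ok, sameState_elim jOneStep2_ok, sameState_elim jOneStep3_ok,
      sameState_elim jOneStep4_ok]
    exact sameState_refl _
  full := by decide +kernel
  pos := by norm_num

/-- The product of the codes of a word. -/
def codeWord (c : ℕ → List ℕ) (w : List ℕ) : List ℕ := w.foldr (fun x r => pmul (c x) r) pOne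

theorem codeWord_isCode {g : ℕ → JankoOne.G} {c : ℕ → List ℕ} (h : ∀ x, IsCode (g x) (c x)) :
    ∀ w : List ℕ, IsCode (w.map g).prod (codeWord c w)
  | [] => isCode_one
  | x :: w => by
    rw [List.map_cons, List.prod_cons]
    exact (h x).mul (codeWord_isCode h w)

/-- The code of the first generator. -/
def jCodeA : List ℕ := codeWord gen jWordA

/-- The code of the second generator. -/
def jCodeB : List ℕ := codeWord gen jWordB

/-- The codes of the five letters. -/
def jCode : ℕ → List ℕ
  | 0 => jCodeA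
  | 1 => jCodeB
  | 2 => pmul jCodeB jCodeB
  | 3 => pmul jCodeA jCodeB
  | 4 => pmul (pmul jCodeB jCodeB) jCodeA
  | _ => pOne

theorem jOne_checks : (pmul jCodeA jCodeA == pOne) = true ∧ (pmul jCodeB (pmul jCodeB jCodeB) == pOne) = true ∧
    (jOneData.rels.all fun w => codeWord jCode w.reverse == pOne) = true ∧
    (codeWord jCode jWordX == gen 0) = true ∧ (codeWord jCode jWordY == gen 1) = true ∧
    (codeWord jCode (List.flatten (List.replicate 7 [3])) == pOne) = true := by decide +kernel

theorem jCodeA_eq : jCodeA = codeWord gen jWordA := rfl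

theorem jCodeB_eq : jCodeB = codeWord gen jWordB := rfl

attribute [local irreducible] codeWord jCodeA jCodeB

/-- Suitable generators of the first Janko group. -/
theorem jOne_gens : ∃ a b : JankoOne.G, Subgroup.closure ({a, b} : Set JankoOne.G) = ⊤ ∧ a * a = 1 ∧
    (a * b) ^ 7 = 1 ∧ ∀ w ∈ jOneData.rels, (w.reverse.map (pairLetter a b)).prod = 1 := by
  choose g hg using code_gen
  obtain ⟨hA, hB, hrel, hX, hY, h7⟩ := jOne_checks
  simp only [beq_iff_eq, List.all_eq_true] at hA hB hrel hX hY h7
  set a := (jWordA.map g).prod with ha'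
  set b := (jWordB.map g).prod with hb'
  have ha : IsCode a jCodeA := by rw [jCodeA_eq]; exact codeWord_isCode hg _
  have hb : IsCode b jCodeB := by rw [jCodeB_eq]; exact codeWord_isCode hg _
  have haa : a * a = 1 := IsCode.eq (ha.mul ha) (by rw [hA]; exact isCode_one)
  have hbbb : b * (b * b) = 1 := IsCode.eq (hb.mul (hb.mul hb)) (by rw [hB]; exact isCode_one)
  have hcode : ∀ x, IsCode (pairLetter a b x) (jCode x) := by
    intro x
    match x with
    | 0 => exact ha
    | 1 => exact hb
    | 2 =>
      rw [show pairLetter a b 2 = b * b from inv_eq_of_mul_eq_one_right hbbb]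
      exact hb.mul hb
    | 3 => exact ha.mul hb
    | 4 =>
      rw [show pairLetter a b 4 = b * b * a from by
        show (a * b)⁻¹ = _
        rw [_root_.mul_inv_rev, inv_eq_of_mul_eq_one_right hbbb, inv_eq_of_mul_eq_one_right haa]]
      exact (hb.mul hb).mul ha
    | (n + 5) => exact isCode_one
  have hone : ∀ w : List ℕ, codeWord jCode w = pOne → (w.map (pairLetter a b)).prod = 1 := fun w hw =>
    IsCode.eq (codeWord_isCode hcode w) (by rw [hw]; exact isCode_one)
  refine ⟨a, b, ?_, haa, ?_, fun w hw => hone _ (hrel w hw)⟩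
  · have hmem : ∀ w : List ℕ, (w.map (pairLetter a b)).prod ∈ Subgroup.closure ({a, b} : Set JankoOne.G) := by
      intro w
      exact pairWord_mem a b w
    have hgen : ∀ k, g k ∈ Subgroup.closure ({a, b} : Set JankoOne.G) := by
      intro k
      rcases eq_or_ne k 0 with rfl | hk
      · have hc := codeWord_isCode hcode jWordX
        rw [hX] at hc
        rw [IsCode.eq (hg 0) hc]
        exact hmem _
      · have hk' : gen k = gen 1 := by rw [gen, gen, beq_eq_false_iff_ne.2 hk]; rfl
        have hc := codeWord_isCode hcode jWordY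
        rw [hY, ← hk'] at hc
        rw [IsCode.eq (hg k) hc]
        exact hmem _
    exact jOne_closure_top (hg 0) (hg 1) _ (hgen 0) (hgen 1)
  · have := hone _ h7
    rw [show List.flatten (List.replicate 7 [3]) = List.replicate 7 3 from rfl, List.map_replicate,
      List.prod_replicate] at this
    exact this

/-- A group with two elements satisfying the relators contains the first Janko group. -/
theorem exists_jOne {G : Type*} [Group G] {k₁ k₂ : G} (hk1 : k₁ * k₁ = 1) (hk : (k₁ * k₂) ^ 7 = 1)
    (hkrel : ∀ w ∈ jOneData.rels, (w.reverse.map (pairLetter k₁ k₂)).prod = 1) (hne : k₁ ≠ 1) :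
    ∃ K : Subgroup G, Nonempty (JankoOne.G ≃* K) := by
  obtain ⟨a, b, hgen, haa, hab, hrel⟩ := jOne_gens
  have : IsSimpleGroup JankoOne.G := JankoOne.isSimpleGroup
  exact jOne_cert.exists_subgroup JankoOne.card_eq hgen haa hab hrel hk1 hk hkrel hne

end CfsgLib.Recog.ONan
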