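import Cfsg.Agent.Lib.Recog.ONan.Pair
import Cfsg.Agent.Lib.Recog.ONan.SubData
import Cfsg.Agent.Lib.Recog.ONan.mElevenStep0
import Cfsg.Agent.Lib.Sporadic.Simplicity

set_option autoImplicit false
set_option maxRecDepth 100000

/-!
A simple permutation group of degree eleven and order 7920 whose generators satisfy the relators of a coset
certificate (owner: helper9).
-/

namespace CfsgLib.Recog.ONan

/-- The first generator. -/
def mPermA : Equiv.Perm (Fin 11) where
  toFun := mTabA
  invFun := mTabA
  left_inv := by intro x; revert x; decide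
  right_inv := by intro x; revert x; decide

/-- The second generator. -/
def mPermB : Equiv.Perm (Fin 11) where
  toFun := mTabB
  invFun := mTabBi
  left_inv := by intro x; revert x; decide
  right_inv := by intro x; revert x; decide

/-- The group of degree eleven. -/
def mEleven : Subgroup (Equiv.Perm (Fin 11)) := Subgroup.closure {mPermA, mPermB}

/-- The first generator, in the group. -/
def mA : mEleven := ⟨mPermA, Subgroup.subset_closure (Or.inl rfl)⟩

/-- The second generator, in the group. -/
def mB : mEleven := ⟨mPermB, Subgroup.subset_closure (Or.inr rfl)⟩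

theorem mEleven_checks : (∀ p, mPermA (mPermA p) = p) ∧
    (∀ p, (List.replicate 11 (pairLetter mPermA mPermB 3)).prod p = p) ∧
    (mElevenData.rels.all fun w => (List.finRange 11).all fun p =>
      (w.reverse.map (pairLetter mPermA mPermB)).prod p == p) = true := by
  refine ⟨by decide +kernel, by decide +kernel, by decide +kernel⟩

theorem pairLetter_coe (x : ℕ) : ((pairLetter mA mB x : mEleven) : Equiv.Perm (Fin 11)) = pairLetter mPermA mPermB x :=
  pairLetter_map mEleven.subtype mA mB x

theorem mA_sq : mA * mA = 1 := Subtype.ext (Equiv.ext mEleven_checks.1)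

theorem mAB_pow : (mA * mB) ^ 11 = 1 := by
  refine Subtype.ext (Equiv.ext fun p => ?_)
  have h := mEleven_checks.2.1 p
  rw [List.prod_replicate] at h
  exact h

theorem mEleven_rel {w : List ℕ} (hw : w ∈ mElevenData.rels) : (w.reverse.map (pairLetter mA mB)).prod = 1 := by
  refine Subtype.ext (Equiv.ext fun p => ?_)
  have h := List.all_eq_true.1 (List.all_eq_true.1 mEleven_checks.2.2 w hw) p (List.mem_finRange p)
  rw [Subgroup.val_list_prod, List.map_map,
    List.map_congr_left (f := Subtype.val ∘ pairLetter mA mB) (g := pairLetter mPermA mPermB)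
      (fun x _ => pairLetter_coe x)]
  simpa using h

theorem mEleven_gen : Subgroup.closure ({mA, mB} : Set mEleven) = ⊤ := by
  rw [eq_top_iff]
  rintro ⟨z, hz⟩ -
  have key : ∀ w ∈ mEleven, ∃ h : w ∈ mEleven, (⟨w, h⟩ : mEleven) ∈ Subgroup.closure ({mA, mB} : Set mEleven) := by
    intro w hw
    induction hw using Subgroup.closure_induction with
    | mem w hw =>
      rcases hw with h | h
      · subst h; exact ⟨mA.2, Subgroup.subset_closure (Or.inl rfl)⟩
      · rw [Set.mem_singleton_iff] at h
        subst h; exact ⟨mB.2, Subgroup.subset_closure (Or.inr rfl)⟩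
    | one => exact ⟨one_mem _, one_mem _⟩
    | mul x y _ _ hx hy => exact ⟨mul_mem hx.1 hy.1, mul_mem hx.2 hy.2⟩
    | inv x _ hx => exact ⟨inv_mem hx.1, inv_mem hx.2⟩
  obtain ⟨h, h'⟩ := key z hz
  exact h'

theorem mEleven_start : mElevenSt0 = [0, 0, 0, 1, 1, 0, 0, 0, 1] := by decide +kernel

theorem mEleven_cert : PairCert mElevenData mElevenOps0 mElevenSt1 720 11 where
  iv := rfl
  len := rfl
  okInv := by decide +kernel
  perm := by decide +kernel
  base := by decide +kernel
  runEq := by rw [← mEleven_start]; exact mElevenStep0_ok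
  full := by decide +kernel
  pos := by norm_num

theorem mPermA_sq : mPermA * mPermA = 1 := Equiv.ext mEleven_checks.1

theorem mPermAB_pow : (mPermA * mPermB) ^ 11 = 1 := by
  refine Equiv.ext fun p => ?_
  have h := mEleven_checks.2.1 p
  rw [List.prod_replicate] at h
  exact h

theorem mEleven_card_le : Nat.card mEleven ≤ 7920 := by
  have hrel : ∀ w ∈ mElevenData.rels, (w.reverse.map (pairLetter mPermA mPermB)).prod = 1 := fun w hw => by
    refine Equiv.ext fun p => ?_
    have h := List.all_eq_true.1 (List.all_eq_true.1 mEleven_checks.2.2 w hw) p (List.mem_finRange p)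
    simpa using h
  exact (mEleven_cert.bound mPermA_sq mPermAB_pow hrel).2

/-- The word of a level and a position. -/
def mWord (k i : ℕ) : List ℕ := (mLevels.getD k []).getD i []

/-- The element of a level and a position. -/
noncomputable def mElt (k i : ℕ) : mEleven := ((mWord k i).map (pairLetter mA mB)).prod

theorem mLevel_checks : (List.range 4).all (fun k => (List.range (11 - k)).all fun i =>
    (List.range (11 - k)).all (fun j => Nat.beq i j ||
      !((((mWord k i).map (pairLetter mPermA mPermB)).prod (Fin.ofNat 11 k) : Fin 11) ==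
        ((mWord k j).map (pairLetter mPermA mPermB)).prod (Fin.ofNat 11 k))) &&
    (List.range k).all (fun q =>
      (((mWord k i).map (pairLetter mPermA mPermB)).prod (Fin.ofNat 11 q) : Fin 11) == Fin.ofNat 11 q)) = true := by
  decide +kernel

theorem mElt_coe (k i : ℕ) :
    ((mElt k i : mEleven) : Equiv.Perm (Fin 11)) = ((mWord k i).map (pairLetter mPermA mPermB)).prod := by
  rw [mElt, Subgroup.val_list_prod, List.map_map]
  exact congrArg List.prod (List.map_congr_left fun x _ => pairLetter_coe x)

theorem mElt_fix {k i q : ℕ} (hk : k < 4) (hi : i < 11 - k) (hq : q < k) :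
    (mElt k i : Equiv.Perm (Fin 11)) (Fin.ofNat 11 q) = Fin.ofNat 11 q := by
  have h := List.all_eq_true.1 (List.all_eq_true.1 mLevel_checks k (List.mem_range.2 hk)) i (List.mem_range.2 hi)
  rw [Bool.and_eq_true] at h
  have h' := List.all_eq_true.1 h.2 q (List.mem_range.2 hq)
  rw [mElt_coe]
  exact beq_iff_eq.1 h'

theorem mElt_inj {k i j : ℕ} (hk : k < 4) (hi : i < 11 - k) (hj : j < 11 - k)
    (h : (mElt k i : Equiv.Perm (Fin 11)) (Fin.ofNat 11 k) = (mElt k j : Equiv.Perm (Fin 11)) (Fin.ofNat 11 k)) :
    i = j := by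
  have h1 := List.all_eq_true.1 (List.all_eq_true.1 mLevel_checks k (List.mem_range.2 hk)) i (List.mem_range.2 hi)
  rw [Bool.and_eq_true] at h1
  have h2 := List.all_eq_true.1 h1.1 j (List.mem_range.2 hj)
  rw [mElt_coe, mElt_coe] at h
  rw [h] at h2
  simpa using h2

theorem mEleven_card : Nat.card mEleven = 7920 := by
  refine le_antisymm mEleven_card_le ?_
  let f : Fin 11 × Fin 10 × Fin 9 × Fin 8 → mEleven := fun t =>
    mElt 0 t.1 * (mElt 1 t.2.1 * (mElt 2 t.2.2.1 * mElt 3 t.2.2.2))
  have hinj : Function.Injective f := by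
    rintro ⟨a, b, c, d⟩ ⟨a', b', c', d'⟩ h
    have e : ∀ (u v : mEleven) (p : Fin 11), u = v → (u : Equiv.Perm (Fin 11)) p = (v : Equiv.Perm (Fin 11)) p :=
      fun u v p h => by rw [h]
    have ha : a = a' := Fin.ext (mElt_inj (k := 0) (by omega) a.2 a'.2 (by
      have := e _ _ (Fin.ofNat 11 0) h
      simp only [f, Subgroup.coe_mul, Equiv.Perm.mul_apply] at this
      rwa [mElt_fix (k := 3) (q := 0) (by omega) d.2 (by omega), mElt_fix (k := 2) (q := 0) (by omega) c.2 (by omega),
        mElt_fix (k := 1) (q := 0) (by omega) b.2 (by omega), mElt_fix (k := 3) (q := 0) (by omega) d'.2 (by omega),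
        mElt_fix (k := 2) (q := 0) (by omega) c'.2 (by omega), mElt_fix (k := 1) (q := 0) (by omega) b'.2 (by omega)] at this))
    subst ha
    have h1 := mul_left_cancel h
    have hb : b = b' := Fin.ext (mElt_inj (k := 1) (by omega) b.2 b'.2 (by
      have := e _ _ (Fin.ofNat 11 1) h1
      simp only [Subgroup.coe_mul, Equiv.Perm.mul_apply] at this
      rwa [mElt_fix (k := 3) (q := 1) (by omega) d.2 (by omega), mElt_fix (k := 2) (q := 1) (by omega) c.2 (by omega),
        mElt_fix (k := 3) (q := 1) (by omega) d'.2 (by omega), mElt_fix (k := 2) (q := 1) (by omega) c'.2 (by omega)] at this))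
    subst hb
    have h2 := mul_left_cancel h1
    have hc : c = c' := Fin.ext (mElt_inj (k := 2) (by omega) c.2 c'.2 (by
      have := e _ _ (Fin.ofNat 11 2) h2
      simp only [Subgroup.coe_mul, Equiv.Perm.mul_apply] at this
      rwa [mElt_fix (k := 3) (q := 2) (by omega) d.2 (by omega), mElt_fix (k := 3) (q := 2) (by omega) d'.2 (by omega)] at this))
    subst hc
    have h3 := mul_left_cancel h2
    have hd : d = d' := Fin.ext (mElt_inj (k := 3) (by omega) d.2 d'.2 (e _ _ _ h3))
    subst hd
    rfl
  have := Nat.card_le_card_of_injective f hinj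
  simpa [Nat.card_prod] using this

theorem mEleven_transitive : MulAction.IsPretransitive mEleven (Fin 11) := by
  have hsurj : ∀ p : Fin 11, ∃ g : mEleven, (g : Equiv.Perm (Fin 11)) (Fin.ofNat 11 0) = p := by
    have hinj : Function.Injective fun i : Fin 11 => (mElt 0 i : Equiv.Perm (Fin 11)) (Fin.ofNat 11 0) :=
      fun i j h => Fin.ext (mElt_inj (k := 0) (by omega) i.2 j.2 h)
    intro p
    obtain ⟨i, hi⟩ := Finite.surjective_of_injective hinj p
    exact ⟨_, hi⟩
  refine ⟨fun x y => ?_⟩
  obtain ⟨g, rfl⟩ := hsurj x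
  obtain ⟨h, rfl⟩ := hsurj y
  refine ⟨h * g⁻¹, ?_⟩
  show (h * g⁻¹) • (g • (Fin.ofNat 11 0)) = h • (Fin.ofNat 11 0)
  rw [smul_smul, inv_mul_cancel_right]

theorem mEleven_simple : IsSimpleGroup mEleven := by
  have : Fact (Nat.Prime 11) := ⟨by norm_num⟩
  have := mEleven_transitive
  have hcard : Nat.card (Fin 11) = 11 := by simp
  obtain ⟨P⟩ : Nonempty (Sylow 11 mEleven) := inferInstance
  have hPc : Nat.card (P : Subgroup mEleven) = 11 := by
    rw [P.card_eq_multiplicity, mEleven_card, show (7920 : ℕ) = 11 * 720 by norm_num,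
      Nat.factorization_mul (by norm_num) (by norm_num), Finsupp.add_apply, (Fact.out : (11 : ℕ).Prime).factorization_self,
      Nat.factorization_eq_zero_of_not_dvd (by norm_num), pow_one]
  obtain ⟨d, m, hd1, hN, hG, hm⟩ := CfsgLib.Sporadic.Simplicity.exists_card_normalizer hcard P hPc
  have hd5 : d = 5 := by
    rw [mEleven_card] at hG
    have hle : d ≤ 10 := Nat.le_of_dvd (by norm_num) hd1
    have hdm : d * m = 720 := by nlinarith
    interval_cases d <;> omega
  subst hd5
  exact CfsgLib.Sporadic.Simplicity.isSimpleGroup_of_prime_degree (by norm_num) hcard P hPc hN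
    (by rw [mEleven_card]; norm_num)

/-- A group with two elements satisfying the relators contains the group of degree eleven. -/
theorem exists_mEleven {G : Type*} [Group G] {k₁ k₂ : G} (hk1 : k₁ * k₁ = 1) (hk : (k₁ * k₂) ^ 11 = 1)
    (hkrel : ∀ w ∈ mElevenData.rels, (w.reverse.map (pairLetter k₁ k₂)).prod = 1) (hne : k₁ ≠ 1) :
    ∃ K : Subgroup G, Nonempty (mEleven ≃* K) := by
  have := mEleven_simple
  exact mEleven_cert.exists_subgroup mEleven_card mEleven_gen mA_sq mAB_pow (fun _ hw => mEleven_rel hw)
    hk1 hk hkrel hne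

end CfsgLib.Recog.ONan
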