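import Mathlib

set_option autoImplicit false

/-!
Bit-parallel evaluation of permutations given by switch networks (owner: helper9).

A network is a list of layers `(k, m)`: the layer exchanges `p` and `p + 2^k` for the set bits `p` of `m`.
-/

namespace CfsgLib.Recog.ONan

/-- One layer on a bit mask. -/
noncomputable def dswap (k m x : ℕ) : ℕ :=
  Nat.xor x (Nat.mul (Nat.land (Nat.xor (Nat.shiftRight x (Nat.pow 2 k)) x) m)
    (Nat.add (Nat.shiftLeft 1 (Nat.pow 2 k)) 1))

/-- One layer on a point. -/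
def swapAt (k m p : ℕ) : ℕ :=
  if m.testBit (if p.testBit k then p ^^^ 2 ^ k else p) then p ^^^ 2 ^ k else p

/-- A network on a point. -/
def netAt : List (ℕ × ℕ) → ℕ → ℕ
  | [], p => p
  | (k, m) :: l, p => netAt l (swapAt k m p)

/-- A network on a mask: the preimage. -/
noncomputable def pull (l : List (ℕ × ℕ)) (x : ℕ) : ℕ :=
  List.rec (motive := fun _ => ℕ → ℕ) (fun x => x) (fun a _ ih x => dswap a.1 a.2 (ih x)) l x

/-- The mask of the points below `2^n` with bit `k` set. -/
noncomputable def plane (n k : ℕ) : ℕ :=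
  Nat.rec 0 (fun j y => cond (Nat.beq j k)
    (Nat.shiftLeft (Nat.sub (Nat.shiftLeft 1 (Nat.pow 2 j)) 1) (Nat.pow 2 j))
    (Nat.mul y (Nat.add (Nat.shiftLeft 1 (Nat.pow 2 j)) 1))) n

/-- All points below `2^n`. -/
noncomputable def allPts (n : ℕ) : ℕ := Nat.sub (Nat.shiftLeft 1 (Nat.pow 2 n)) 1

/-- The mask of one word: pulled back through the networks from the last to the first. -/
noncomputable def pullWord (ns : List (List (ℕ × ℕ))) (x : ℕ) : ℕ :=
  List.rec (motive := fun _ => ℕ → ℕ) (fun x => x) (fun a _ ih x => pull a (ih x)) ns x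

/-- All planes return to themselves along a word. -/
noncomputable def fixesAll (n : ℕ) (ns : List (List (ℕ × ℕ))) : Bool :=
  Nat.rec true (fun k ok => Nat.beq (pullWord ns (plane n k)) (plane n k) && ok) n

/-- A layer is valid: only points with the bit clear are marked. -/
noncomputable def netOK (n : ℕ) (l : List (ℕ × ℕ)) : Bool :=
  l.all fun a => Nat.blt a.1 n && Nat.blt a.2 (Nat.shiftLeft 1 (Nat.pow 2 n)) &&
    Nat.beq (Nat.land a.2 (plane n a.1)) 0

theorem testBit_ones (m q : ℕ) : (Nat.sub (Nat.shiftLeft 1 m) 1).testBit q = decide (q < m) := by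
  show ((1 <<< m) - 1).testBit q = _
  rw [Nat.one_shiftLeft, Nat.testBit_two_pow_sub_one]

theorem allPts_testBit (n p : ℕ) : (allPts n).testBit p = decide (p < 2 ^ n) := testBit_ones _ _

/-- Doubling of a mask below `2^m`. -/
theorem testBit_double {y m : ℕ} (hy : y < 2 ^ m) (q : ℕ) :
    (y * ((1 <<< m) + 1)).testBit q = if q < m then y.testBit q else y.testBit (q - m) := by
  rw [Nat.one_shiftLeft, show y * (2 ^ m + 1) = 2 ^ m * y + y by ring, Nat.testBit_two_pow_mul_add y hy q]

theorem plane_lt (n k : ℕ) : plane n k < 2 ^ 2 ^ n := by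
  induction n with
  | zero => simp [plane]
  | succ j ih =>
    show cond (Nat.beq j k) _ _ < _
    have hsq : 2 ^ 2 ^ (j + 1) = 2 ^ 2 ^ j * 2 ^ 2 ^ j := by
      rw [← pow_add]; congr 1; ring
    have hpos : 0 < 2 ^ 2 ^ j := pow_pos (by omega) _
    cases hb : Nat.beq j k with
    | true =>
      show ((1 <<< 2 ^ j) - 1) <<< 2 ^ j < _
      rw [Nat.one_shiftLeft, Nat.shiftLeft_eq, hsq]
      exact Nat.mul_lt_mul_of_pos_right (Nat.sub_lt hpos one_pos) hpos
    | false =>
      show plane j k * ((1 <<< 2 ^ j) + 1) < _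
      rw [Nat.one_shiftLeft, hsq]
      have h1 : plane j k + 1 ≤ 2 ^ 2 ^ j := ih
      nlinarith

theorem plane_testBit : ∀ (n k p : ℕ), k < n → p < 2 ^ n → (plane n k).testBit p = p.testBit k
  | 0, k, p, hk, _ => by omega
  | j + 1, k, p, hk, hp => by
    have hstep : plane (j + 1) k = cond (Nat.beq j k)
      (((1 <<< 2 ^ j) - 1) <<< 2 ^ j) (plane j k * ((1 <<< 2 ^ j) + 1)) := rfl
    have h2 : 2 ^ (j + 1) = 2 ^ j + 2 ^ j := by ring
    rcases eq_or_ne j k with rfl | hne
    · rw [hstep, show Nat.beq j j = true from Nat.beq_refl j, cond_true, Nat.testBit_shiftLeft,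
        show (1 <<< 2 ^ j) - 1 = Nat.sub (Nat.shiftLeft 1 (2 ^ j)) 1 from rfl, testBit_ones,
        Nat.testBit_eq_decide_div_mod_eq]
      rcases lt_or_ge p (2 ^ j) with h | h
      · simp [Nat.div_eq_of_lt h, Nat.not_le.2 h]
      · have hd : p / 2 ^ j = 1 := Nat.div_eq_of_lt_le (by omega) (by omega)
        simp [h, hd]; omega
    · have hb : Nat.beq j k = false := by
        cases hc : Nat.beq j k with
        | false => rfl
        | true => exact absurd (Nat.eq_of_beq_eq_true hc) hne
      rw [hstep, hb, cond_false, testBit_double (plane_lt j k)]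
      split_ifs with h
      · exact plane_testBit j k p (by omega) h
      · rw [plane_testBit j k (p - 2 ^ j) (by omega) (by omega)]
        obtain ⟨r, rfl⟩ := Nat.exists_eq_add_of_le (Nat.not_lt.1 h)
        rw [Nat.add_sub_cancel_left, Nat.testBit_two_pow_add_gt (by omega)]

/-- Flipping the bit `k`. -/
theorem xor_pow_of_clear {p k : ℕ} (h : p.testBit k = false) : p ^^^ 2 ^ k = p + 2 ^ k := by
  rw [Nat.testBit_eq_decide_div_mod_eq, decide_eq_false_iff_not] at h
  have h0 : p / 2 ^ k % 2 = 0 := by omega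
  obtain ⟨a, r, hr, rfl⟩ : ∃ a r, r < 2 ^ k ∧ p = 2 ^ (k + 1) * a + r := by
    refine ⟨p / 2 ^ (k + 1), p % 2 ^ (k + 1), ?_, (Nat.div_add_mod _ _).symm⟩
    rw [pow_succ, Nat.mod_mul, h0]
    simpa using Nat.mod_lt p (pow_pos (by omega : 0 < 2) k)
  apply Nat.eq_of_testBit_eq
  intro i
  have hr2 : r < 2 ^ (k + 1) := hr.trans_le (Nat.pow_le_pow_right (by omega) (by omega))
  have hr3 : r + 2 ^ k < 2 ^ (k + 1) := by rw [pow_succ]; omega
  rw [Nat.testBit_xor, Nat.add_assoc, Nat.testBit_two_pow_mul_add _ hr2, Nat.testBit_two_pow_mul_add _ hr3,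
    Nat.testBit_two_pow]
  by_cases hi : i < k + 1
  · simp only [hi, if_true]
    rcases eq_or_ne k i with rfl | hne
    · simp [Nat.testBit_lt_two_pow hr, Nat.add_comm r (2 ^ k), Nat.testBit_two_pow_add_eq]
    · simp [hne, Nat.add_comm r (2 ^ k), Nat.testBit_two_pow_add_gt (show i < k by omega)]
  · simp [hi, show ¬ k = i by omega]

theorem add_pow_testBit {p k : ℕ} (h : p.testBit k = false) : (p + 2 ^ k).testBit k = true := by
  rw [Nat.add_comm, Nat.testBit_two_pow_add_eq, h]; rfl

theorem swapAt_involutive (k m p : ℕ) : swapAt k m (swapAt k m p) = p := by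
  have hx : p ^^^ 2 ^ k ^^^ 2 ^ k = p := by rw [Nat.xor_assoc, Nat.xor_self, Nat.xor_zero]
  cases hp : p.testBit k
  · have hq : (p ^^^ 2 ^ k).testBit k = true := by simp [hp]
    cases hm : m.testBit p <;> simp [swapAt, hp, hm, hx, hq]
  · have hq : (p ^^^ 2 ^ k).testBit k = false := by simp [hp]
    cases hm : m.testBit (p ^^^ 2 ^ k) <;> simp [swapAt, hp, hm, hx, hq]

theorem add_of_disjoint : ∀ a b : ℕ, a &&& b = 0 → a + b = a ^^^ b := by
  intro a
  induction a using Nat.strong_induction_on with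
  | _ a ih =>
    intro b h
    rcases Nat.eq_zero_or_pos a with rfl | ha
    · simp
    · have h1 : (a / 2) &&& (b / 2) = 0 := by rw [← Nat.and_div_two, h]
      have h2 := ih (a / 2) (by omega) _ h1
      rw [← Nat.xor_div_two] at h2
      have h3 : (a ^^^ b) % 2 = (a + b) % 2 := Nat.xor_mod_two_eq
      have h4 : ¬ (a % 2 = 1 ∧ b % 2 = 1) := by
        intro hh
        have := congrArg (Nat.testBit · 0) h
        simp [Nat.testBit_zero, hh.1, hh.2] at this
      omega

theorem dswap_testBit {k m : ℕ} (hm : ∀ p, m.testBit p = true → p.testBit k = false) (x p : ℕ) :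
    (dswap k m x).testBit p = x.testBit (swapAt k m p) := by
  set d := 2 ^ k with hd
  set t := ((x >>> d) ^^^ x) &&& m with ht
  have hval : dswap k m x = x ^^^ (t * ((1 <<< d) + 1)) := rfl
  have htb : ∀ q, t.testBit q = ((x.testBit (d + q) ^^ x.testBit q) && m.testBit q) := by
    intro q; simp [ht, Nat.testBit_shiftRight]
  have hdis : ∀ q, t.testBit q = true → q.testBit k = false := by
    intro q hq; rw [htb, Bool.and_eq_true] at hq; exact hm q hq.2
  have hshift : ∀ q, (t <<< d).testBit q = true → q.testBit k = true := by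
    intro q hq
    rw [Nat.testBit_shiftLeft, Bool.and_eq_true, decide_eq_true_eq] at hq
    have := add_pow_testBit (hdis _ hq.2)
    rwa [← hd, Nat.sub_add_cancel hq.1] at this
  have hand : t &&& (t <<< d) = 0 := by
    apply Nat.eq_of_testBit_eq
    intro q
    rw [Nat.testBit_and, Nat.zero_testBit]
    cases h1 : t.testBit q
    · rfl
    · cases h2 : (t <<< d).testBit q
      · rfl
      · have := hdis q h1; rw [hshift q h2] at this; simp at this
  have hmul : t * ((1 <<< d) + 1) = t ^^^ (t <<< d) := by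
    rw [Nat.one_shiftLeft]
    have : t * (2 ^ d + 1) = t + t <<< d := by rw [Nat.shiftLeft_eq]; ring
    rw [this]
    exact add_of_disjoint _ _ hand
  rw [hval, hmul, Nat.testBit_xor, Nat.testBit_xor, swapAt]
  cases hp : p.testBit k
  · have h2 : (t <<< d).testBit p = false := by
      cases h : (t <<< d).testBit p
      · rfl
      · exact absurd (hshift p h) (by simp [hp])
    have hx : p ^^^ 2 ^ k = d + p := by rw [xor_pow_of_clear hp, Nat.add_comm, hd]
    cases hmp : m.testBit p <;> simp [htb, h2, hmp, hx]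
    cases x.testBit p <;> cases x.testBit (d + p) <;> rfl
  · have h1 : t.testBit p = false := by
      cases h : t.testBit p
      · rfl
      · exact absurd (hdis p h) (by simp [hp])
    have hq : (p ^^^ 2 ^ k).testBit k = false := by simp [hp]
    have hpq : p = d + (p ^^^ 2 ^ k) := by
      conv_lhs => rw [← Nat.xor_zero p, ← Nat.xor_self (2 ^ k), ← Nat.xor_assoc, xor_pow_of_clear hq]
      rw [Nat.add_comm, hd]
    set q := p ^^^ 2 ^ k with hqd
    have h2 : (t <<< d).testBit p = t.testBit q := by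
      rw [hpq, Nat.testBit_shiftLeft, Nat.add_sub_cancel_left]; simp
    cases hmq : m.testBit q <;> simp [h1, h2, htb, hmq, ← hpq]

theorem netOK_layer {n : ℕ} {l : List (ℕ × ℕ)} (h : netOK n l = true) {a : ℕ × ℕ} (ha : a ∈ l) :
    a.1 < n ∧ ∀ p, a.2.testBit p = true → p.testBit a.1 = false ∧ p < 2 ^ n := by
  have h' := List.all_eq_true.1 h a ha
  simp only [Bool.and_eq_true, Nat.blt_eq, Nat.beq_eq] at h'
  obtain ⟨⟨h1, h2⟩, h3⟩ := h'
  refine ⟨h1, fun p hp => ?_⟩
  have hlt : p < 2 ^ n := by
    by_contra hge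
    have hbig : a.2 < 2 ^ p := lt_of_lt_of_le (by simpa [Nat.shiftLeft_eq] using h2)
      (Nat.pow_le_pow_right (by omega) (Nat.not_lt.1 hge))
    rw [Nat.testBit_lt_two_pow hbig] at hp; simp at hp
  refine ⟨?_, hlt⟩
  have := congrArg (Nat.testBit · p) h3
  rw [← plane_testBit n a.1 p h1 hlt]
  simpa [hp] using this

theorem pull_testBit {n : ℕ} : ∀ {l : List (ℕ × ℕ)}, netOK n l = true → ∀ x p : ℕ,
    (pull l x).testBit p = x.testBit (netAt l p)
  | [], _, x, p => rfl
  | (k, m) :: l, h, x, p => by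
    have hl : netOK n l = true := by
      refine List.all_eq_true.2 fun a ha => List.all_eq_true.1 h a (List.mem_cons_of_mem _ ha)
    show (dswap k m (pull l x)).testBit p = _
    rw [dswap_testBit (fun q hq => ((netOK_layer h List.mem_cons_self).2 q hq).1), pull_testBit hl]
    rfl

theorem swapAt_lt {n k m p : ℕ} (hk : k < n) (hp : p < 2 ^ n) : swapAt k m p < 2 ^ n := by
  unfold swapAt
  split_ifs <;> first | exact hp | exact Nat.xor_lt_two_pow hp (Nat.pow_lt_pow_right (by omega) hk)

theorem netAt_lt {n : ℕ} : ∀ {l : List (ℕ × ℕ)}, netOK n l = true → ∀ {p : ℕ}, p < 2 ^ n → netAt l p < 2 ^ n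
  | [], _, p, hp => hp
  | (k, m) :: l, h, p, hp => by
    have hl : netOK n l = true :=
      List.all_eq_true.2 fun a ha => List.all_eq_true.1 h a (List.mem_cons_of_mem _ ha)
    exact netAt_lt hl (swapAt_lt (netOK_layer h List.mem_cons_self).1 hp)

theorem netAt_append : ∀ (l l' : List (ℕ × ℕ)) (p : ℕ), netAt (l ++ l') p = netAt l' (netAt l p)
  | [], _, _ => rfl
  | (k, m) :: l, l', p => netAt_append l l' _

theorem netAt_reverse : ∀ (l : List (ℕ × ℕ)) (p : ℕ), netAt l.reverse (netAt l p) = p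
  | [], _ => rfl
  | (k, m) :: l, p => by
    rw [List.reverse_cons, netAt_append]
    show swapAt k m (netAt l.reverse (netAt l (swapAt k m p))) = p
    rw [netAt_reverse l, swapAt_involutive]

/-- A network on a point, in the operations the kernel computes with. -/
noncomputable def netK (l : List (ℕ × ℕ)) (p : ℕ) : ℕ :=
  List.rec (motive := fun _ => ℕ → ℕ) (fun p => p) (fun a _ ih p => ih (Nat.xor p (Nat.shiftLeft
    (Nat.land 1 (Nat.shiftRight a.2 (Nat.xor p (Nat.land p (Nat.pow 2 a.1))))) a.1))) l p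

theorem netK_eq : ∀ (l : List (ℕ × ℕ)) (p : ℕ), netK l p = netAt l p
  | [], _ => rfl
  | (k, m) :: l, p => by
    show netK l (p ^^^ ((1 &&& (m >>> (p ^^^ (p &&& 2 ^ k)))) <<< k)) = netAt l (swapAt k m p)
    rw [netK_eq l]
    congr 1
    have hq : p ^^^ (p &&& 2 ^ k) = if p.testBit k then p ^^^ 2 ^ k else p := by
      rw [Nat.and_two_pow]
      cases p.testBit k <;> simp
    rw [hq, swapAt]
    generalize (if p.testBit k then p ^^^ 2 ^ k else p) = q
    rw [Nat.one_and_eq_mod_two, Nat.shiftRight_eq_div_pow, Nat.testBit_eq_decide_div_mod_eq]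
    rcases Nat.mod_two_eq_zero_or_one (m / 2 ^ q) with h | h <;> simp [h, Nat.shiftLeft_eq]

/-- A list of networks on a point. -/
def wordAt : List (List (ℕ × ℕ)) → ℕ → ℕ
  | [], p => p
  | l :: ns, p => wordAt ns (netAt l p)

theorem pullWord_testBit {n : ℕ} : ∀ {ns : List (List (ℕ × ℕ))}, ns.all (netOK n) = true → ∀ x p : ℕ,
    (pullWord ns x).testBit p = x.testBit (wordAt ns p)
  | [], _, x, p => rfl
  | l :: ns, h, x, p => by
    rw [List.all_cons, Bool.and_eq_true] at h
    show (pull l (pullWord ns x)).testBit p = _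
    rw [pull_testBit h.1, pullWord_testBit h.2]
    rfl

theorem wordAt_lt {n : ℕ} : ∀ {ns : List (List (ℕ × ℕ))}, ns.all (netOK n) = true → ∀ {p : ℕ},
    p < 2 ^ n → wordAt ns p < 2 ^ n
  | [], _, p, hp => hp
  | l :: ns, h, p, hp => by
    rw [List.all_cons, Bool.and_eq_true] at h
    exact wordAt_lt h.2 (netAt_lt h.1 hp)

theorem fixesAll_elim {n : ℕ} {ns : List (List (ℕ × ℕ))} (hok : ns.all (netOK n) = true)
    (h : fixesAll n ns = true) {p : ℕ} (hp : p < 2 ^ n) : wordAt ns p = p := by
  have key : ∀ j, Nat.rec true (fun k ok => Nat.beq (pullWord ns (plane n k)) (plane n k) && ok) j = true →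
      ∀ k < j, pullWord ns (plane n k) = plane n k := by
    intro j
    induction j with
    | zero => intro _ k hk; omega
    | succ j ih =>
      intro hj k hk
      simp only [Bool.and_eq_true, Nat.beq_eq] at hj
      rcases Nat.lt_succ_iff_lt_or_eq.1 hk with h' | rfl
      · exact ih hj.2 k h'
      · exact hj.1
  have hq := wordAt_lt hok hp
  apply Nat.eq_of_testBit_eq
  intro k
  rcases lt_or_ge k n with hk | hk
  · have := congrArg (Nat.testBit · p) (key n h k hk)
    rwa [pullWord_testBit hok, plane_testBit n k _ hk hq, plane_testBit n k p hk hp] at this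
  · have hle : 2 ^ n ≤ 2 ^ k := Nat.pow_le_pow_right (by omega) hk
    rw [Nat.testBit_lt_two_pow (hq.trans_le hle), Nat.testBit_lt_two_pow (hp.trans_le hle)]

end CfsgLib.Recog.ONan
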