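import Cfsg.Agent.Lib.Recog.ONan.OutEval
import Cfsg.Agent.Lib.Sporadic.MultiplierEngine

set_option autoImplicit false
set_option maxRecDepth 100000

/-!
Separating the words of a table by the images of three points (owner: helper9).
-/

namespace CfsgLib.Recog.ONan

open CfsgLib.Sporadic.Mult

/-- The inverse of a word. -/
def invWord (w : List ℕ) : List ℕ := (w.map ivl).reverse

theorem wp_invWord (w : List ℕ) : wp (invWord w) = (wp w)⁻¹ := prod_ivl lgen lgen_inv w

/-- Three points in one number. -/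
noncomputable def pack3 (a b c : ℕ) : ℕ :=
  Nat.lor a (Nat.lor (Nat.shiftLeft b 17) (Nat.shiftLeft c 34))

/-- The three points moved by a word. -/
noncomputable def move3 (w : List ℕ) (n : ℕ) : ℕ :=
  pack3 (netK (flatNet w) (Nat.land n 131071)) (netK (flatNet w) (Nat.land (Nat.shiftRight n 17) 131071))
    (netK (flatNet w) (Nat.shiftRight n 34))

/-- The value that separates elements: where the inverse takes the three points. -/
noncomputable def sepKey (g : GON) : ℕ :=
  pack3 (phi g⁻¹ ⟨1, by norm_num⟩ : ℕ) (phi g⁻¹ ⟨6, by norm_num⟩ : ℕ) (phi g⁻¹ ⟨12, by norm_num⟩ : ℕ)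

theorem pack3_parts {a b c : ℕ} (ha : a < 131072) (hb : b < 131072) :
    Nat.land (pack3 a b c) 131071 = a ∧ Nat.land (Nat.shiftRight (pack3 a b c) 17) 131071 = b ∧
      Nat.shiftRight (pack3 a b c) 34 = c := by
  change (a ||| (b <<< 17 ||| c <<< 34)) &&& 131071 = a ∧ ((a ||| (b <<< 17 ||| c <<< 34)) >>> 17) &&& 131071 = b ∧
    (a ||| (b <<< 17 ||| c <<< 34)) >>> 34 = c
  have hm : (131071 : ℕ) = 2 ^ 17 - 1 := by norm_num
  have ha' : a < 2 ^ 17 := by omega
  have hb' : b < 2 ^ 17 := by omega
  refine ⟨?_, ?_, ?_⟩ <;> apply Nat.eq_of_testBit_eq <;> intro i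
  · rw [Nat.testBit_and, hm, Nat.testBit_two_pow_sub_one, Nat.testBit_or, Nat.testBit_or, Nat.testBit_shiftLeft,
      Nat.testBit_shiftLeft]
    by_cases h : i < 17
    · simp [h, show ¬ 17 ≤ i by omega, show ¬ 34 ≤ i by omega]
    · simp [h, Nat.testBit_lt_two_pow (ha'.trans_le (Nat.pow_le_pow_right (by omega) (Nat.not_lt.1 h)))]
  · rw [Nat.testBit_and, hm, Nat.testBit_two_pow_sub_one, Nat.testBit_shiftRight, Nat.testBit_or, Nat.testBit_or,
      Nat.testBit_shiftLeft, Nat.testBit_shiftLeft,
      Nat.testBit_lt_two_pow (ha'.trans_le (Nat.pow_le_pow_right (by omega) (show 17 ≤ 17 + i by omega)))]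
    by_cases h : i < 17
    · simp [h, show ¬ 34 ≤ 17 + i by omega]
    · simp [h, Nat.testBit_lt_two_pow (hb'.trans_le (Nat.pow_le_pow_right (by omega) (Nat.not_lt.1 h)))]
  · rw [Nat.testBit_shiftRight, Nat.testBit_or, Nat.testBit_or, Nat.testBit_shiftLeft, Nat.testBit_shiftLeft,
      Nat.testBit_lt_two_pow (ha'.trans_le (Nat.pow_le_pow_right (by omega) (show 17 ≤ 34 + i by omega))),
      show 34 + i - 17 = 17 + i by omega,
      Nat.testBit_lt_two_pow (hb'.trans_le (Nat.pow_le_pow_right (by omega) (show 17 ≤ 17 + i by omega)))]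
    simp

theorem sepKey_one : sepKey 1 = pack3 1 6 12 := by
  rw [sepKey, inv_one, map_one]; rfl

theorem sepKey_mul (g : GON) (w : List ℕ) : sepKey (g * wp w) = move3 (invWord w) (sepKey g) := by
  have hp := fun p : Fin (2 ^ 17) => (shows_word (invWord w)).2 p
  have h1 : (phi g⁻¹ ⟨1, by norm_num⟩ : ℕ) < 131072 := (phi g⁻¹ ⟨1, by norm_num⟩).2
  have h6 : (phi g⁻¹ ⟨6, by norm_num⟩ : ℕ) < 131072 := (phi g⁻¹ ⟨6, by norm_num⟩).2
  obtain ⟨e1, e2, e3⟩ := pack3_parts (c := (phi g⁻¹ ⟨12, by norm_num⟩ : ℕ)) h1 h6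
  rw [move3, sepKey, sepKey, e1, e2, e3, _root_.mul_inv_rev, ← wp_invWord, netK_eq, netK_eq, netK_eq, map_mul,
    Equiv.Perm.mul_apply, Equiv.Perm.mul_apply, Equiv.Perm.mul_apply, hp, hp, hp]

/-- The images of the words of a table. -/
structure SepData where
  word : List (List ℕ)
  parent : List (ℕ × ℕ)
  images : List ℕ
  gens : List (List ℕ)
  N : ℕ

/-- The check on the first image. -/
noncomputable def SepData.checkBase (S : SepData) : Bool :=
  Nat.beq (S.images.getD 0 0) (pack3 1 6 12) && decide (S.word.getD 0 [] = []) && decide (S.images.length = S.N)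

/-- The check on one image. -/
noncomputable def SepData.checkAt (S : SepData) (q : ℕ) : Bool :=
  Nat.beq q 0 ||
    (let e := S.parent.getD q (0, 0)
    Nat.blt e.1 q && Nat.blt e.2 S.gens.length && decide (S.word.getD q [] = S.word.getD e.1 [] ++ [e.2]) &&
      Nat.beq (S.images.getD q 0) (move3 (invWord (S.gens.getD e.2 [])) (S.images.getD e.1 0)))

/-- The checks on the images of a range. -/
noncomputable def SepData.checkRange (S : SepData) (lo len : ℕ) : Bool :=
  (List.range len).all fun d => S.checkAt (lo + d)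

theorem SepData.checkRange_elim {S : SepData} {lo len q : ℕ} (h : S.checkRange lo len = true) (h1 : lo ≤ q)
    (h2 : q < lo + len) : S.checkAt q = true := by
  have := List.all_eq_true.1 h (q - lo) (List.mem_range.2 (by omega))
  rwa [Nat.add_sub_cancel' h1] at this

theorem SepData.injOn {S : SepData} (h : S.checkBase = true) (hall : ∀ q < S.N, S.checkAt q = true)
    (hd : S.images.Nodup) :
    Set.InjOn (fun p => wprod (fun i => wp (S.gens.getD i [])) (S.word.getD p [])) {p | p < S.N} := by
  simp only [SepData.checkBase, Bool.and_eq_true, decide_eq_true_eq] at h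
  obtain ⟨⟨h0, hw0⟩, hlen⟩ := h
  have key : ∀ q, q < S.N →
      sepKey (wprod (fun i => wp (S.gens.getD i [])) (S.word.getD q [])) = S.images.getD q 0 := by
    intro q
    induction q using Nat.strong_induction_on with
    | _ q ih =>
      intro hq
      rcases Nat.eq_zero_or_pos q with rfl | hpos
      · rw [hw0, show wprod (fun i => wp (S.gens.getD i [])) [] = 1 from rfl, sepKey_one, Nat.eq_of_beq_eq_true h0]
      · have hh := hall q hq
        simp only [SepData.checkAt, Bool.or_eq_true, Bool.and_eq_true, decide_eq_true_eq, Nat.blt_eq] at hh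
        rcases hh with hh | ⟨⟨⟨hlt, -⟩, hw⟩, him⟩
        · exact absurd (Nat.eq_of_beq_eq_true hh) (by omega)
        · rw [hw, wprod_append, wprod_cons, show wprod (fun i => wp (S.gens.getD i [])) [] = 1 from rfl, mul_one,
            sepKey_mul, ih _ hlt (hlt.trans hq), Nat.eq_of_beq_eq_true him]
  intro p (hp : p < S.N) q (hq : q < S.N) e
  have e2 := congrArg sepKey e
  simp only at e2
  rw [key p hp, key q hq, List.getD_eq_getElem _ _ (hlen ▸ hp), List.getD_eq_getElem _ _ (hlen ▸ hq)] at e2
  exact (hd.getElem_inj_iff).1 e2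

end CfsgLib.Recog.ONan
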