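import Cfsg.Agent.Lib.Recog.ONan.MultSevenDefs
import Cfsg.Agent.Lib.Recog.ONan.MultSevenSep0
import Cfsg.Agent.Lib.Recog.ONan.MultSevenSep1
import Cfsg.Agent.Lib.Recog.ONan.MultSevenSep2
import Cfsg.Agent.Lib.Recog.ONan.MultSevenSep3

set_option autoImplicit false
set_option maxRecDepth 100000
set_option Elab.async false

/-!
Checks for the seven part of the Schur multiplier of the O'Nan group (owner: helper9).
-/

namespace CfsgLib.Recog.ONan

open CfsgLib.Sporadic.Mult MultData

theorem seven_table_ok : sevenTable.ok = true ∧ (∀ p : Fin 343, ∀ i ∈ sevenTable.wd p, i < 4) := by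
  decide +kernel

theorem seven_sep_base : sevenSep.checkBase = true := by decide +kernel

theorem seven_sep_all : ∀ q < sevenSep.N, sevenSep.checkAt q = true := by
  intro q hq
  change q < 343 at hq
  by_cases h0 : q < 86
  · exact SepData.checkRange_elim seven_sep0 (by omega) (by omega)
  by_cases h1 : q < 172
  · exact SepData.checkRange_elim seven_sep1 (by omega) (by omega)
  by_cases h2 : q < 258
  · exact SepData.checkRange_elim seven_sep2 (by omega) (by omega)
  exact SepData.checkRange_elim seven_sep3 (by omega) (by omega)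

theorem seven_sep_nodup : sevenImages.Nodup := by decide +kernel

theorem seven_rels_shape : sevenRels = [[0, 1], [1, 0], [2, 3], [3, 2]] ++ sevenPals ∧
    sevenGens.getD 1 [] = invWord (sevenGens.getD 0 []) ∧ sevenGens.getD 3 [] = invWord (sevenGens.getD 2 []) ∧
    ∀ W ∈ sevenPals, W.reverse = W ∧ ∀ i ∈ W, i < 4 := by decide +kernel

theorem seven_inv_ok :
    (sameNet (flatNet (sevenInv ++ sevenGens.getD 0 [])) (flatNet (sevenGens.getD 1 [] ++ sevenInv)) &&
      sameNet (flatNet (sevenInv ++ sevenGens.getD 2 [])) (flatNet (sevenGens.getD 3 [] ++ sevenInv))) = true := by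
  decide +kernel

theorem seven_pal_ok : sevenPals.all (fun W =>
    (W.map (fun i => sevenGens.getD i [])).flatten.all (fun x => Nat.ble 1 x && Nat.ble x 6) &&
      trivWord (W.map (fun i => sevenGens.getD i [])).flatten) = true := by decide +kernel

end CfsgLib.Recog.ONan
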