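import Cfsg.Agent.Lib.Recog.ONan.MultSep
import Cfsg.Agent.Lib.Recog.ONan.MultSevenData

set_option autoImplicit false
set_option maxRecDepth 100000

/-!
The table of a Sylow subgroup used for the Schur multiplier of the O'Nan group (owner: helper9).
-/

namespace CfsgLib.Recog.ONan

open CfsgLib.Sporadic.Mult MultData

/-- The table of the extraspecial group of order 343. -/
def sevenTable : Table := ⟨343, 4, sevenNext, sevenWord, sevenTree, sevenRels, sevenSteps⟩

/-- The images of its words. -/
def sevenSep : SepData := ⟨sevenWord, sevenParent, sevenImages, sevenGens, 343⟩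

end CfsgLib.Recog.ONan
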