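import Mathlib

set_option autoImplicit false
set_option maxRecDepth 100000

/-! Data for the Schur multiplier of the O'Nan group (owner: helper9). -/

namespace CfsgLib.Recog.ONan.MultData

def threeGens : List (List ℕ) := [[1, 2], [5, 4], [7, 2, 0, 1], [7, 4, 5, 0, 4, 6, 4, 7, 4, 5, 0, 4, 6]]

def threeFlip : List ℕ := [4]

def threeShift : List ℕ := [3, 4, 3, 5, 0, 2, 4, 3, 5, 4, 7, 2, 3, 4, 7, 5, 7, 2, 3, 4, 7, 5, 2, 3, 4, 3, 7, 4, 5, 0, 4, 6, 4, 5, 6]

def threeImagesPart0 : List ℕ := [
  206159216641, 9878490841378, 10101872263172, 687196209153, 21406222647586, 22230821502980, 755914244097, 38706282758434,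
  21663856066564, 206159216657, 9878490841402, 10101872263173, 687196209169, 21406222647610, 22230821502981, 755914244113,
  38706282758458, 21663856066565, 206159216659, 9878490841400, 10101872263220, 687196209171, 21406222647608, 22230821503028,
  755914244115, 38706282758456, 21663856066612, 755915030535, 38706311332349, 21663924224024, 206159872007, 9878530425341,
  10101833859096, 687194767367, 21406154490365, 22230791749656, 755915030596, 38706311332381, 21663924224025, 206159872068,
  9878530425373, 10101833859097, 687194767428, 21406154490397, 22230791749657, 755915030598, 38706311332672, 21663924224163,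
  206159872070, 9878530425664, 10101833859235, 687194767430, 21406154490688, 22230791749795, 687195553794, 21406183064062,
  22230859907081, 755915685890, 38706350916094, 21663885819913, 206158430210, 9878462267902, 10101804105737, 687195553825,
  21406183064226, 22230859907082, 755915685921, 38706350916258, 21663885819914, 206158430241, 9878462268066, 10101804105738,
  687195553828, 21406183064091, 22230859907165, 755915685924, 38706350916123, 21663885819997, 206158430244, 9878462267931,
  10101804105821]

def threeImages : List ℕ := threeImagesPart0

end CfsgLib.Recog.ONan.MultData
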