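import Cfsg.Agent.Lib.Recog.ONan.MultSep
import Cfsg.Agent.Lib.Recog.ONan.MultThreeData

set_option autoImplicit false
set_option maxRecDepth 100000
set_option Elab.async false

/-!
Checks for the three part of the Schur multiplier of the O'Nan group (owner: helper9).
-/

namespace CfsgLib.Recog.ONan

open MultData

/-- The word of one of the four generators. -/
def threeGen (i : ℕ) : List ℕ := threeGens.getD i []

/-- The exponents of a number below 81. -/
def digits (q : ℕ) : List ℕ := [q / 27 % 3, q / 9 % 3, q / 3 % 3, q % 3]

/-- The word of a number below 81. -/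
def threeWordAt (q : ℕ) : List ℕ :=
  ((List.range 4).map fun i => (List.replicate ((digits q).getD i 0) (threeGen i)).flatten).flatten

theorem three_cube_ok : (List.range 4).all (fun i =>
    sameNet (flatNet (threeGen i ++ threeGen i ++ threeGen i)) []) = true := by decide +kernel

theorem three_comm_ok : [(0, 1), (0, 2), (0, 3), (1, 2), (1, 3), (2, 3)].all (fun e =>
    sameNet (flatNet (threeGen e.1 ++ threeGen e.2)) (flatNet (threeGen e.2 ++ threeGen e.1))) = true := by
  decide +kernel

theorem three_flip_ok : (List.range 4).all (fun i =>
    sameNet (flatNet (threeFlip ++ threeGen i))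
      (flatNet ((if i % 2 = 0 then threeGen i else threeGen i ++ threeGen i) ++ threeFlip))) = true := by
  decide +kernel

theorem three_shift_ok :
    (sameNet (flatNet (threeShift ++ threeGen 0)) (flatNet (threeGen 3 ++ threeGen 3 ++ threeShift)) &&
      sameNet (flatNet (threeShift ++ threeGen 2)) (flatNet (threeGen 1 ++ threeGen 3 ++ threeShift))) = true := by
  decide +kernel

end CfsgLib.Recog.ONan
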