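import Cfsg.Agent.Lib.Recog.ONan.MultThreeChecks

set_option autoImplicit false
set_option maxRecDepth 100000
set_option Elab.async false

/-!
The elements of the elementary group of order 81 are distinct (owner: helper9).
-/

namespace CfsgLib.Recog.ONan

open MultData

theorem three_images_ok : (List.range 81).all (fun q =>
    Nat.beq (threeImages.getD q 0) (move3 (threeWordAt q) (pack3 1 6 12))) = true := by decide +kernel

theorem three_images_nodup : threeImages.Nodup ∧ threeImages.length = 81 := by decide +kernel

end CfsgLib.Recog.ONan
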