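import Cfsg.Agent.Lib.Recog.ONan.MultTwoChecks
import Cfsg.Agent.Lib.Recog.ONan.Simple

set_option autoImplicit false
set_option maxRecDepth 100000

/-!
The two part of the Schur multiplier of the O'Nan group is trivial (owner: helper9).
-/

namespace CfsgLib.Recog.ONan

open Cfsg CfsgLib.Sporadic.Mult MultData

theorem eq_of_sameWord {u v : List ℕ} (h : sameWord u v = true) : wp u = wp v :=
  (shows_word u).eq (shows_word v) h

theorem wp_flatten : ∀ L : List (List ℕ), wp L.flatten = (L.map wp).prod
  | [] => rfl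
  | w :: L => by rw [List.flatten_cons, wp_append, List.map_cons, List.prod_cons, wp_flatten L]

theorem wp_single (x : ℕ) : wp [x] = lgen x := by simp [wp]

theorem wp_cons (x : ℕ) (l : List ℕ) : wp (x :: l) = lgen x * wp l := by
  rw [show x :: l = [x] ++ l from rfl, wp_append, wp_single]

theorem wp_flatten_get (G : List (List ℕ)) (w : List ℕ) :
    wp (w.map (fun i => G.getD i [])).flatten = wprod (fun i => wp (G.getD i [])) w := by
  rw [wp_flatten, List.map_map]; rfl

theorem two_part {Γ : Type*} [Group Γ] [Finite Γ] (σ : Γ →* GON)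
    (hσ : Cfsg.IsStemExtension σ) (he : ∀ z ∈ σ.ker, z ^ 2 = 1) :
    ∃ U : Subgroup GON, ¬ 2 ∣ U.index ∧
      ∀ (z : Γ) (h : z ∈ U.comap σ), z ∈ σ.ker → (⟨z, h⟩ : U.comap σ) ∈ commutator (U.comap σ) →
        z = 1 := by
  obtain ⟨hs, hc, -⟩ := hσ
  let L : GON → Γ := Function.surjInv hs
  have hL : ∀ g, σ (L g) = g := Function.surjInv_eq hs
  have cen : ∀ {z : Γ}, σ z = 1 → ∀ t, Commute t z := fun hz t =>
    Subgroup.mem_center_iff.1 (hc hz) t
  set a : GON := lgen 1 with ha
  have haa : a * a = 1 := lgen_sq (by omega) (by omega)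
  set A := L a with hA
  have hsA2 : σ (A ^ 2) = 1 := by rw [map_pow, hA, hL, sq, haa]
  have hconj2 : ∀ X : Γ, (X * A * X⁻¹) ^ 2 = A ^ 2 := fun X => by
    rw [conj_pow, (cen hsA2 X).eq, mul_inv_cancel_right]
  -- any lift of a conjugate of `a` has the square of `A`
  have sqlift : ∀ (h o : GON) (X : Γ), h * a = o * h → σ X = o → X ^ 2 = A ^ 2 := by
    intro h o X hh hX
    set C := L h * A * (L h)⁻¹ with hC
    have hk : σ (C⁻¹ * X) = 1 := by
      rw [map_mul, map_inv, hC, map_mul, map_mul, map_inv, hL, hA, hL, hX, hh, mul_inv_cancel_right, inv_mul_cancel]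
    rw [show X = C * (C⁻¹ * X) by group, (cen hk C).mul_pow, he _ hk, mul_one, hC, hconj2]
  have hfour := four_ok
  simp only [Bool.and_eq_true] at hfour
  obtain ⟨⟨⟨⟨fb, fc⟩, fprod⟩, fsq⟩, fcomm⟩ := hfour
  have hA2 : A ^ 2 = 1 := by
    set b := wp fourB with hb
    have hB := eq_of_sameWord fb
    have hC := eq_of_sameWord fc
    rw [wp_append, wp_single, ← ha, wp_append, ← hb] at hB
    rw [wp_append, wp_single, ← ha, wp_append, wp_append, wp_single, ← ha, ← hb] at hC
    set B0 := L b with hB0
    have hcm : Commute A B0 := by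
      refine commute_lifts σ hs hc he (oddParts.map fun o => wp o.1) (hL a) ?_ ?_
      · rw [hB0, hL, hb, eq_of_sameWord fprod, wp_flatten, List.map_map]; rfl
      · intro o ho
        obtain ⟨p, hp, rfl⟩ := List.mem_map.1 ho
        have h := List.all_eq_true.1 odd_ok p hp
        simp only [Bool.and_eq_true, decide_eq_true_eq] at h
        obtain ⟨⟨h1, h2⟩, h3⟩ := h
        have e1 := eq_of_sameWord h1
        rw [wp_cons, wp_append, wp_single, ← ha] at e1
        have e3 := eq_of_sameWord h3
        rw [wp_flatten, List.map_replicate, List.prod_replicate, wp_nil] at e3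
        exact ⟨e1, p.2, Nat.coprime_two_right.2 (Nat.odd_iff.2 h2), e3⟩
    have h1 : (A * B0) ^ 2 = A ^ 2 := sqlift (wp fourConjC) (a * b) _ hC (by rw [map_mul, hA, hL, hB0, hL])
    rw [hcm.mul_pow, sqlift (wp fourConjB) b B0 hB (hL b), ← sq (A ^ 2), he _ (MonoidHom.mem_ker.2 hsA2)] at h1
    exact h1.symm
  have sq_one : ∀ (h o : GON) (X : Γ), h * a = o * h → σ X = o → X * X = 1 := fun h o X hh hX => by
    rw [← sq, sqlift h o X hh hX, hA2]
  -- lifts of the six involutions commute with `A`
  have hsix : ∀ j < 6, ∀ X : Γ, σ X = wp (sixGens.getD j []) → Commute A X := by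
    intro j hj X hX
    rcases Nat.eq_zero_or_pos j with rfl | hpos
    · rw [six_shape.1, wp_single] at hX
      have hk : σ (A⁻¹ * X) = 1 := by rw [map_mul, map_inv, hA, hL, hX, ha, inv_mul_cancel]
      rw [show X = A * (A⁻¹ * X) by group]
      exact (Commute.refl A).mul_right (cen hk A)
    · have h := six_conj_ok j hj
      simp only [sixAt, Bool.or_eq_true, Bool.and_eq_true] at h
      rcases h with h | ⟨h1, h2⟩
      · exact absurd (Nat.eq_of_beq_eq_true h) (by omega)
      · have e1 := eq_of_sameWord h1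
        have e2 := eq_of_sameWord h2
        rw [wp_append, wp_single, ← ha, wp_append, ← hX] at e1
        rw [wp_append, wp_single, ← ha, wp_append, wp_append, wp_single, ← ha, ← hX] at e2
        have q1 := sq_one _ _ X e1 rfl
        have q2 := sq_one _ _ (A * X) e2 (by rw [map_mul, hA, hL])
        have qA : A * A = 1 := by rw [← sq, hA2]
        show A * X = X * A
        calc A * X = (A * X)⁻¹ := (inv_eq_of_mul_eq_one_right q2).symm
          _ = X * A := by rw [_root_.mul_inv_rev, inv_eq_of_mul_eq_one_right q1, inv_eq_of_mul_eq_one_right qA]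
  have hword : ∀ w : List ℕ, (∀ j ∈ w, j < 6) → ∀ X : Γ,
      σ X = wprod (fun j => wp (sixGens.getD j [])) w → Commute A X := by
    intro w
    induction w with
    | nil => exact fun _ X hX => cen hX A
    | cons j w ih =>
      intro hw X hX
      rw [wprod_cons] at hX
      rw [show X = L (wp (sixGens.getD j [])) * ((L (wp (sixGens.getD j [])))⁻¹ * X) by group]
      refine (hsix j (hw j List.mem_cons_self) _ (hL _)).mul_right
        (ih (fun i hi => hw i (List.mem_cons_of_mem _ hi)) _ ?_)
      rw [map_mul, map_inv, hL, hX, inv_mul_cancel_left]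
  let P : ℕ → Γ := fun i => L (wp (twoConj.getD i []))
  let T : ℕ → Γ := fun i => P i * A * (P i)⁻¹
  let t : ℕ → GON := fun i => wp (twoGens.getD i [])
  have ht : ∀ i < 3, σ (T i) = t i := by
    intro i hi
    have e := eq_of_sameWord (List.all_eq_true.1 two_conj_ok i (List.mem_range.2 hi))
    rw [wp_append, wp_single, ← ha, wp_append] at e
    show σ (P i * A * (P i)⁻¹) = t i
    rw [map_mul, map_mul, map_inv, hA, hL, hL, e, mul_inv_cancel_right]
  have hsq : ∀ i, T i * T i = 1 := fun i => by rw [← sq, hconj2, hA2]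
  have hrev : ∀ w : List ℕ, wprod T w.reverse = (wprod T w)⁻¹ := by
    intro w
    induction w with
    | nil => simp [wprod]
    | cons i w ih =>
      rw [List.reverse_cons, wprod_append, ih, wprod_cons T i w, _root_.mul_inv_rev,
        inv_eq_of_mul_eq_one_right (hsq i)]
      simp [wprod]
  have hrels : ∀ W ∈ twoTable.rels, wprod T W = 1 := by
    intro W hW
    rcases two_rels_shape W hW with ⟨i, rfl⟩ | ⟨c, hc', rfl⟩
    · simp [wprod, hsq]
    · obtain ⟨hw, hx, hy, hj⟩ := two_cert_bounds c hc'
      have e := eq_of_sameWord (two_cert_ok c hc')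
      rw [wp_append, wp_append, wp_flatten_get, wp_flatten_get] at e
      set x := c.2.1
      set y := c.2.2.1
      have hcomm := hword c.2.2.2 hj ((P y)⁻¹ * (wprod T c.1 * P x)) (by
        rw [map_mul, map_inv, map_mul, map_wprod, hL, hL]
        rw [show wprod (fun i => σ (T i)) c.1 = wprod (fun i => wp (twoGens.getD i [])) c.1 from
          congrArg List.prod (List.map_congr_left fun i hi => ht i (hw i hi)), inv_mul_eq_iff_eq_mul]
        exact e)
      have hconj : wprod T c.1 * T x * (wprod T c.1)⁻¹ = T y := by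
        set Y := wprod T c.1 * P x
        calc wprod T c.1 * T x * (wprod T c.1)⁻¹ = Y * A * Y⁻¹ := by
              show wprod T c.1 * (P x * A * (P x)⁻¹) * (wprod T c.1)⁻¹ = _
              simp only [Y, _root_.mul_inv_rev, mul_assoc]
          _ = P y * (((P y)⁻¹ * Y) * A) * Y⁻¹ := by group
          _ = P y * (A * ((P y)⁻¹ * Y)) * Y⁻¹ := by rw [hcomm.eq]
          _ = P y * A * (P y)⁻¹ := by group
      rw [wprod_append, wprod_append, wprod_append, hrev, show wprod T [x] = T x by simp [wprod],
        show wprod T [y] = T y by simp [wprod], hconj, hsq]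
  have hlt : ∀ p < twoTable.N, ∀ i ∈ twoTable.wd p, i < twoTable.k := fun p hp => two_table_ok.2 ⟨p, hp⟩
  have hinj : Set.InjOn (fun p => wprod t (twoTable.wd p)) {p | p < twoTable.N} :=
    SepData.injOn (S := twoSep) two_sep_base two_sep_all two_sep_nodup
  obtain ⟨hcard, hU⟩ := complement_of_table σ hs hc two_table_ok.1 T hrels t ht hlt hinj
  refine ⟨_, fun hd => ?_, hU⟩
  have h := Subgroup.card_mul_index (Subgroup.closure (t '' {i | i < twoTable.k}))
  rw [hcard, card_GON, show twoTable.N = 512 from rfl] at h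
  have hi : (Subgroup.closure (t '' {i | i < twoTable.k})).index = 900030285 := by omega
  rw [hi] at hd
  norm_num at hd

end CfsgLib.Recog.ONan
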