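import Cfsg.Agent.Lib.Recog.ONan.MultTwoDefs

set_option autoImplicit false
set_option maxRecDepth 100000
set_option Elab.async false

/-! Relations used for the Schur multiplier (owner: helper9). -/

namespace CfsgLib.Recog.ONan

open MultData

theorem two_cert0 : certAt (twoCerts.getD 0 ([], 0, 0, [])) = true := by decide +kernel

end CfsgLib.Recog.ONan
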