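import Cfsg.Agent.Lib.Recog.ONan.MultTwoDefs

set_option autoImplicit false
set_option maxRecDepth 100000

/-! Images of the words of a table, part 0 (owner: helper9). -/

namespace CfsgLib.Recog.ONan

theorem two_sep0 : twoSep.checkRange 0 128 = true := by decide +kernel

end CfsgLib.Recog.ONan
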