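import Cfsg.Agent.Lib.Recog.ONan.MultTwoDefs
import Cfsg.Agent.Lib.Recog.ONan.MultTwoSep0
import Cfsg.Agent.Lib.Recog.ONan.MultTwoSep1
import Cfsg.Agent.Lib.Recog.ONan.MultTwoSep2
import Cfsg.Agent.Lib.Recog.ONan.MultTwoSep3
import Cfsg.Agent.Lib.Recog.ONan.MultTwoCert0
import Cfsg.Agent.Lib.Recog.ONan.MultTwoCert1
import Cfsg.Agent.Lib.Recog.ONan.MultTwoCert2
import Cfsg.Agent.Lib.Recog.ONan.MultTwoCert3
import Cfsg.Agent.Lib.Recog.ONan.MultTwoSix0
import Cfsg.Agent.Lib.Recog.ONan.MultTwoSix1

set_option autoImplicit false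
set_option maxRecDepth 100000
set_option Elab.async false

/-!
Checks for the two part of the Schur multiplier of the O'Nan group (owner: helper9).
-/

namespace CfsgLib.Recog.ONan

open CfsgLib.Sporadic.Mult MultData

theorem two_table_ok : twoTable.ok = true ∧ (∀ p : Fin 512, ∀ i ∈ twoTable.wd p, i < 3) := by decide +kernel

theorem two_sep_base : twoSep.checkBase = true := by decide +kernel

theorem two_sep_all : ∀ q < twoSep.N, twoSep.checkAt q = true := by
  intro q hq
  change q < 512 at hq
  by_cases h0 : q < 128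
  · exact SepData.checkRange_elim two_sep0 (by omega) (by omega)
  by_cases h1 : q < 256
  · exact SepData.checkRange_elim two_sep1 (by omega) (by omega)
  by_cases h2 : q < 384
  · exact SepData.checkRange_elim two_sep2 (by omega) (by omega)
  exact SepData.checkRange_elim two_sep3 (by omega) (by omega)

theorem two_sep_nodup : twoImages.Nodup := by decide +kernel

theorem two_rels_shape : ∀ W ∈ twoRels, (∃ i : Fin 3, W = [i.val, i.val]) ∨
    ∃ c ∈ twoCerts, W = c.1 ++ [c.2.1] ++ c.1.reverse ++ [c.2.2.1] := by decide +kernel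

theorem two_cert_bounds : ∀ c ∈ twoCerts, (∀ i ∈ c.1, i < 3) ∧ c.2.1 < 3 ∧ c.2.2.1 < 3 ∧
    ∀ j ∈ c.2.2.2, j < 6 := by decide +kernel

theorem two_conj0 : sameWord (twoConj.getD 0 [] ++ [1]) (twoGens.getD 0 [] ++ twoConj.getD 0 []) = true := by decide +kernel

theorem two_conj1 : sameWord (twoConj.getD 1 [] ++ [1]) (twoGens.getD 1 [] ++ twoConj.getD 1 []) = true := by decide +kernel

theorem two_conj2 : sameWord (twoConj.getD 2 [] ++ [1]) (twoGens.getD 2 [] ++ twoConj.getD 2 []) = true := by decide +kernel

theorem two_conj_ok : (List.range 3).all (fun i =>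
    sameWord (twoConj.getD i [] ++ [1]) (twoGens.getD i [] ++ twoConj.getD i [])) = true := by
  refine List.all_eq_true.2 fun i hi => ?_
  rw [List.mem_range] at hi
  interval_cases i
  exacts [two_conj0, two_conj1, two_conj2]

theorem two_cert_count : twoCerts.length = 4 := by decide +kernel

theorem two_cert_ok : ∀ c ∈ twoCerts, certAt c = true := by
  intro c hc
  obtain ⟨k, hk, rfl⟩ := List.getElem_of_mem hc
  rw [← List.getD_eq_getElem _ ([], 0, 0, []) hk]
  have hk4 : k < 4 := two_cert_count ▸ hk
  interval_cases k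
  exacts [two_cert0, two_cert1, two_cert2, two_cert3]

theorem six_shape : sixGens.getD 0 [] = [1] ∧ sixGens.length = 6 := by decide +kernel

theorem six_conj_ok : ∀ j < 6, sixAt j = true := by
  intro j hj
  interval_cases j
  · rfl
  all_goals first
    | exact List.all_eq_true.1 two_six0 _ (by decide)
    | exact List.all_eq_true.1 two_six1 _ (by decide)

theorem four_part0 : sameWord (fourConjB ++ [1]) (fourB ++ fourConjB) = true := by decide +kernel

theorem four_part1 : sameWord (fourConjC ++ [1]) ([1] ++ fourB ++ fourConjC) = true := by decide +kernel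

theorem four_part2 : sameWord fourB ((oddParts.map Prod.fst).flatten) = true := by decide +kernel

theorem four_part3 : sameWord (fourB ++ fourB) [] = true := by decide +kernel

theorem four_part4 : sameWord ([1] ++ fourB) (fourB ++ [1]) = true := by decide +kernel

theorem four_ok : (sameWord (fourConjB ++ [1]) (fourB ++ fourConjB) &&
    sameWord (fourConjC ++ [1]) ([1] ++ fourB ++ fourConjC) &&
    sameWord fourB ((oddParts.map Prod.fst).flatten) &&
    sameWord (fourB ++ fourB) [] &&
    sameWord ([1] ++ fourB) (fourB ++ [1])) = true := by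
  rw [four_part0, four_part1, four_part2, four_part3, four_part4]
  rfl

theorem odd_ok : oddParts.all (fun o => sameWord (1 :: o.1) (o.1 ++ [1]) && decide (o.2 % 2 = 1) &&
    sameWord (List.replicate o.2 o.1).flatten []) = true := by decide +kernel

end CfsgLib.Recog.ONan
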