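import Cfsg.Agent.Lib.Recog.ONan.MultSep
import Cfsg.Agent.Lib.Recog.ONan.MultTwoData

set_option autoImplicit false
set_option maxRecDepth 100000

/-!
The table of a Sylow subgroup used for the Schur multiplier of the O'Nan group (owner: helper9).
-/

namespace CfsgLib.Recog.ONan

open CfsgLib.Sporadic.Mult MultData

/-- The table of the Sylow subgroup. -/
def twoTable : Table := ⟨512, 3, twoNext, twoWord, twoTree, twoRels, twoSteps⟩

/-- The images of its words. -/
def twoSep : SepData := ⟨twoWord, twoParent, twoImages, twoGens, 512⟩

/-- Two words with the same value. -/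
noncomputable def sameWord (u v : List ℕ) : Bool := sameNet (flatNet u) (flatNet v)

/-- The check of one relator. -/
noncomputable def certAt (c : List ℕ × ℕ × ℕ × List ℕ) : Bool :=
  sameWord ((c.1.map (fun i => twoGens.getD i [])).flatten ++ twoConj.getD c.2.1 [])
    (twoConj.getD c.2.2.1 [] ++ (c.2.2.2.map (fun j => sixGens.getD j [])).flatten)

/-- The check of one of the six involutions. -/
noncomputable def sixAt (j : ℕ) : Bool := Nat.beq j 0 ||
  (sameWord (sixConj.getD j [] ++ [1]) (sixGens.getD j [] ++ sixConj.getD j []) &&
    sameWord (sixProdConj.getD j [] ++ [1]) ([1] ++ sixGens.getD j [] ++ sixProdConj.getD j []))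

end CfsgLib.Recog.ONan
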