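import Cfsg.Agent.Lib.Recog.ONan.OutTau

set_option autoImplicit false
set_option maxRecDepth 100000

/-!
The outer automorphism group of the O'Nan group has order 2 (owner: helper9).
-/

namespace CfsgLib.Recog.ONan

open Cfsg
open scoped Pointwise

/-- The elements in the places zero and four. -/
noncomputable def twoElt (a b : GON) : ℕ → GON
  | 0 => a
  | 4 => b
  | _ => 1

theorem shows_twoElt {a b : GON} {A B : List (ℕ × ℕ)} (ha : Shows a A) (hb : Shows b B) :
    ∀ x, Shows (twoElt a b x) (twoNet A B x)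
  | 0 => ha
  | 1 => shows_one
  | 2 => shows_one
  | 3 => shows_one
  | 4 => hb
  | (_ + 5) => shows_one

theorem shows_pow {a : GON} {A : List (ℕ × ℕ)} (ha : Shows a A) :
    ∀ n : ℕ, Shows (a ^ n) (List.replicate n A).flatten
  | 0 => by rw [pow_zero]; exact shows_one
  | n + 1 => by
    rw [List.replicate_succ, List.flatten_cons, pow_succ]
    exact (shows_pow ha n).mul ha

theorem out_rel {r : List ℕ} (hr : r ∈ outRels) : (r.map (twoElt eX eW)).prod = 1 :=
  (Shows.list (shows_twoElt shows_X shows_W) r).eq_one (List.all_eq_true.1 out_rels r hr)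

theorem test_all {kk : ℕ} (hk : kk < 3) {i : ℕ} (hi : i < 72) : testOne kk i = true := by
  interval_cases kk
  exacts [List.all_eq_true.1 test_zero i (List.mem_range.2 hi), List.all_eq_true.1 test_one i (List.mem_range.2 hi),
    List.all_eq_true.1 test_two i (List.mem_range.2 hi)]

theorem test_bound : outTests.all (fun t => Nat.blt t.1 3) = true ∧ outTests.length = 216 ∧ outRels.length = 3 := by
  decide +kernel

/-- An endomorphism sending `x` to a power `2^kk` and fixing `u` is the identity or the outer automorphism. -/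
theorem normalised {f : GON →* GON} {kk : ℕ} (hk : kk < 3) (hx : f eX = eX ^ 2 ^ kk) (hu : f eU = eU) :
    f = MonoidHom.id GON ∨ f = tauHom := by
  have hWU : eW * eU = eU * eW := by
    rw [eW, eU, ← wp_append, ← wp_append]
    exact (shows_word _).eq (shows_word _) w_comm
  obtain ⟨i, hi, hc⟩ := centralizer_eU (c := f eW) (by rw [← hu, ← map_mul, ← map_mul, hWU])
  have ht := test_all hk hi
  rw [testOne, Bool.or_eq_true] at ht
  rcases ht with ht | ht
  · simp only [Bool.and_eq_true, Bool.or_eq_true, beq_iff_eq] at ht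
    obtain ⟨rfl, ht⟩ := ht
    rw [pow_zero, pow_one] at hx
    rcases ht with rfl | rfl
    · refine Or.inl (hom_ext (by rw [hx]; rfl) (by rw [hu]; rfl) ?_)
      rw [hc, MonoidHom.id_apply]
      exact (shows_word _).eq shows_W same_cand
    · refine Or.inr (hom_ext (by rw [hx, tau_eX]) (by rw [hu, tau_eU]) ?_)
      rw [hc, tau_eW]
      exact (shows_word _).eq shows_V alt_cand
  · exfalso
    set t := outTests.getD (72 * kk + i) (0, 0) with htdef
    simp only [Bool.and_eq_true, Bool.not_eq_true', Nat.blt_eq] at ht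
    have hmem : t ∈ outTests := by
      rw [htdef, List.getD_eq_getElem _ _ (by rw [test_bound.2.1]; omega)]
      exact List.getElem_mem _
    have hj : t.1 < 3 := Nat.blt_eq ▸ List.all_eq_true.1 test_bound.1 t hmem
    have hr : outRels.getD t.1 [] ∈ outRels := by
      rw [List.getD_eq_getElem _ _ (by rw [test_bound.2.2]; exact hj)]
      exact List.getElem_mem _
    refine (Shows.list (shows_twoElt (shows_pow shows_X (2 ^ kk)) (shows_word (candWord i)))
      (outRels.getD t.1 [])).moves (ht.1.trans (by norm_num)) ht.2 ?_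
    have h := congrArg f (out_rel hr)
    rw [map_one, map_list_prod, List.map_map] at h
    rw [← h]
    refine congrArg List.prod (List.map_congr_left fun x _ => ?_)
    match x with
    | 0 => exact hx.symm
    | 4 => exact hc.symm
    | 1 | 2 | 3 => exact (map_one f).symm
    | (n + 5) => exact (map_one f).symm

theorem pow_reps : ∀ k < 19, k ≠ 0 → ∃ i < 6, ∃ kk < 3, k * 8 ^ i % 19 = 2 ^ kk := by decide

theorem inv_reps : ∀ kk < 3, ∃ j < 19, 2 ^ kk * j % 19 = 1 := by decide

theorem shift_reps : ∀ i < 19, ∃ j < 19, (30 * j + i) % 19 = 0 := by decide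

theorem eU_conj_pow (i e : ℕ) : eU ^ i * eX ^ e * (eU ^ i)⁻¹ = eX ^ (e * 8 ^ i) := by
  induction i generalizing e with
  | zero => simp
  | succ i ih =>
    have h1 : eU * eX ^ e * eU⁻¹ = eX ^ (8 * e) := by rw [← conj_pow, eU_conj, ← pow_mul]
    calc eU ^ (i + 1) * eX ^ e * (eU ^ (i + 1))⁻¹ = eU ^ i * (eU * eX ^ e * eU⁻¹) * (eU ^ i)⁻¹ := by
          rw [pow_succ, _root_.mul_inv_rev]; simp only [mul_assoc]
      _ = eX ^ (e * 8 ^ (i + 1)) := by rw [h1, ih, pow_succ]; congr 1; ring

theorem pow_mod_eX (n : ℕ) : eX ^ n = eX ^ (n % 19) := by rw [← pow_mod_orderOf, orderOf_eX]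

/-- Every element of order nineteen is conjugate to a power of the chosen one. -/
theorem sylow_nineteen {y : GON} (hy : orderOf y = 19) :
    ∃ g : GON, ∃ k < 19, k ≠ 0 ∧ g * y * g⁻¹ = eX ^ k := by
  have := finite_GON
  have : Fact (Nat.Prime 19) := ⟨by norm_num⟩
  have small : ∀ z : GON, orderOf z = 19 → ∃ P : Sylow 19 GON, (P : Subgroup GON) = Subgroup.zpowers z := by
    intro z hz
    obtain ⟨P, hP⟩ := (IsPGroup.of_card (p := 19) (n := 1)
      (by rw [Nat.card_zpowers, hz, pow_one]) : IsPGroup 19 (Subgroup.zpowers z)).exists_le_sylow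
    refine ⟨P, (Subgroup.eq_of_le_of_card_ge hP ?_).symm⟩
    rw [Nat.card_zpowers, hz]
    obtain ⟨k, hk⟩ := P.isPGroup'.exists_card_eq
    have hd : 19 ^ k ∣ 460815505920 := card_GON ▸ hk ▸ Subgroup.card_subgroup_dvd_card (P : Subgroup GON)
    have : k < 2 := by
      by_contra hge
      exact absurd ((pow_dvd_pow 19 (Nat.not_lt.1 hge)).trans hd) (by norm_num)
    rw [hk]
    interval_cases k <;> norm_num
  obtain ⟨P, hP⟩ := small eX orderOf_eX
  obtain ⟨Q, hQ⟩ := small y hy
  obtain ⟨g, hg⟩ := MulAction.exists_smul_eq GON Q P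
  have hm : g * y * g⁻¹ ∈ Subgroup.zpowers eX := by
    rw [← hP, ← hg, Sylow.coe_subgroup_smul, hQ]
    exact Subgroup.smul_mem_pointwise_smul y (MulAut.conj g) _ (Subgroup.mem_zpowers y)
  rw [← (orderOf_pos_iff.1 (by rw [orderOf_eX]; norm_num)).mem_powers_iff_mem_zpowers,
    Submonoid.mem_powers_iff] at hm
  obtain ⟨k, hk⟩ := hm
  refine ⟨g, k % 19, Nat.mod_lt _ (by norm_num), fun h0 => ?_, by rw [← pow_mod_eX]; exact hk.symm⟩
  rw [pow_mod_eX, h0, pow_zero] at hk
  have : y = 1 := by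
    have := hk.symm
    rwa [conj_eq_one_iff] at this
  rw [this, orderOf_one] at hy
  omega

theorem out_class (α : MulAut GON) :
    (α : Cfsg.Out GON) = 1 ∨ (α : Cfsg.Out GON) = (tauAut : Cfsg.Out GON) := by
  have hsame : ∀ (g : GON) (β : MulAut GON), ((MulAut.conj g * β : MulAut GON) : Cfsg.Out GON) = β := by
    intro g β
    rw [QuotientGroup.mk_mul, (QuotientGroup.eq_one_iff _).2 (MonoidHom.mem_range.2 ⟨g, rfl⟩), one_mul]
  obtain ⟨g, k, hk, hk0, hg⟩ := sylow_nineteen (y := α eX) (by rw [MulEquiv.orderOf_eq, orderOf_eX])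
  obtain ⟨i, -, kk, hkk, hpow⟩ := pow_reps k hk hk0
  set β : MulAut GON := MulAut.conj (eU ^ i * g) * α with hβ
  have hβX : β eX = eX ^ 2 ^ kk := by
    rw [hβ, MulAut.mul_apply, MulAut.conj_apply, _root_.mul_inv_rev,
      show eU ^ i * g * α eX * (g⁻¹ * (eU ^ i)⁻¹) = eU ^ i * (g * α eX * g⁻¹) * (eU ^ i)⁻¹ by group, hg,
      eU_conj_pow, pow_mod_eX, hpow]
  obtain ⟨j, -, hj⟩ := inv_reps kk hkk
  have hXj : (β eX) ^ j = eX := by rw [hβX, ← pow_mul, pow_mod_eX, hj, pow_one]
  have hUX : β eU * eX * (β eU)⁻¹ = eX ^ 8 := by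
    calc β eU * eX * (β eU)⁻¹ = β eU * (β eX) ^ j * (β eU)⁻¹ := by rw [hXj]
      _ = β ((eU * eX * eU⁻¹) ^ j) := by rw [conj_pow, map_mul, map_mul, map_inv, map_pow]
      _ = eX ^ 8 := by rw [eU_conj, ← pow_mul, mul_comm, pow_mul, map_pow, map_pow, hXj]
  obtain ⟨m, hm, hV⟩ := centralizer_eX (c := eU⁻¹ * β eU) (by
    have e : eU⁻¹ * eX ^ 8 * eU = eX := by rw [← eU_conj]; group
    calc eU⁻¹ * β eU * eX = eU⁻¹ * (β eU * eX * (β eU)⁻¹) * β eU := by group
      _ = eU⁻¹ * eX ^ 8 * β eU := by rw [hUX]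
      _ = eU⁻¹ * eX ^ 8 * eU * (eU⁻¹ * β eU) := by group
      _ = eX * (eU⁻¹ * β eU) := by rw [e])
  obtain ⟨l, -, hl⟩ := shift_reps m hm
  set γ : MulAut GON := MulAut.conj (eX ^ l) * β with hγ
  have hγX : γ eX = eX ^ 2 ^ kk := by
    rw [hγ, MulAut.mul_apply, MulAut.conj_apply, hβX, (Commute.pow_pow_self eX l (2 ^ kk)).eq, mul_inv_cancel_right]
  have hγU : γ eU = eU := by
    have hUm : β eU = eU * eX ^ m := by rw [← hV, mul_inv_cancel_left]
    have hi : (eX ^ l)⁻¹ = eX ^ (18 * l) := by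
      refine inv_eq_of_mul_eq_one_right ?_
      rw [← pow_add, pow_mod_eX, show (l + 18 * l) % 19 = 0 by omega, pow_zero]
    have hmove : eX ^ l * eU = eU * eX ^ (12 * l) := by
      have h1 : eU * eX ^ (12 * l) * eU⁻¹ = eX ^ l := by
        rw [← conj_pow, eU_conj, ← pow_mul, pow_mod_eX, pow_mod_eX l]
        congr 1
        omega
      conv_lhs => rw [← h1, inv_mul_cancel_right]
    rw [hγ, MulAut.mul_apply, MulAut.conj_apply, hUm, ← mul_assoc, hmove, hi, mul_assoc, mul_assoc, ← pow_add,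
      ← pow_add, pow_mod_eX, show (12 * l + (m + 18 * l)) % 19 = 0 by omega, pow_zero, mul_one]
  have hclass : (α : Cfsg.Out GON) = (γ : Cfsg.Out GON) := by rw [hγ, hsame, hβ, hsame]
  rw [hclass]
  rcases normalised (f := γ.toMonoidHom) hkk hγX hγU with h | h
  · left
    rw [show γ = 1 from MulEquiv.ext fun z => DFunLike.congr_fun h z, QuotientGroup.mk_one]
  · right
    exact congrArg _ (MulEquiv.ext fun z => DFunLike.congr_fun h z)

/-- The outer automorphism group of the O'Nan group has order 2. -/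
theorem card_out_GON : Nat.card (Cfsg.Out GON) = 2 := by
  rw [Nat.card_eq_two_iff]
  refine ⟨1, (tauAut : Cfsg.Out GON), fun h => tau_not_inner ((QuotientGroup.eq_one_iff _).1 h.symm), ?_⟩
  rw [Set.eq_univ_iff_forall]
  intro q
  obtain ⟨α, rfl⟩ := QuotientGroup.mk_surjective q
  exact (out_class α).imp id id

end CfsgLib.Recog.ONan
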