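import Cfsg.Agent.Lib.Recog.ONan.OutNets

set_option autoImplicit false
set_option maxRecDepth 100000
set_option Elab.async false

/-!
Checks for the outer automorphism, second part: generation and the new relators (owner: helper9).
-/

namespace CfsgLib.Recog.ONan

theorem tau_check0 : sameNet (wordNet (sixNet outNetWT) (genWords.getD 0 [])) (tauNet 0) = true := by decide +kernel

theorem tau_check1 : sameNet (wordNet (sixNet outNetWT) (genWords.getD 1 [])) (tauNet 1) = true := by decide +kernel

theorem tau_check2 : sameNet (wordNet (sixNet outNetWT) (genWords.getD 2 [])) (tauNet 2) = true := by decide +kernel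

theorem tau_check3 : sameNet (wordNet (sixNet outNetWT) (genWords.getD 3 [])) (tauNet 3) = true := by decide +kernel

theorem tau_check4 : sameNet (wordNet (sixNet outNetWT) (genWords.getD 4 [])) (tauNet 4) = true := by decide +kernel

theorem tau_check5 : sameNet (wordNet (sixNet outNetWT) (genWords.getD 5 [])) (tauNet 5) = true := by decide +kernel

theorem tau_check6 : sameNet (wordNet (sixNet outNetWT) (genWords.getD 6 [])) (tauNet 6) = true := by decide +kernel

theorem tau_x : sameNet (wordNet tauNet xWord) outNetX = true := by decide +kernel

theorem tau_u : sameNet (wordNet tauNet uWord) (flatNet uWord) = true := by decide +kernel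

theorem tau_w : sameNet (wordNet tauNet wWord) outNetWT = true := by decide +kernel

end CfsgLib.Recog.ONan
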