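import Mathlib

set_option autoImplicit false
set_option maxRecDepth 100000

/-! Words for the outer automorphism (owner: helper9). -/

namespace CfsgLib.Recog.ONan

def xWord : List ℕ := [3, 2, 1, 4, 3, 2, 5, 4, 3, 2, 4, 3, 2, 5, 4, 3, 4, 5]

def uWord : List ℕ := [2, 1, 4, 5, 4]

def wWord : List ℕ := [7, 2, 0, 1, 1, 2]

def wAltWord : List ℕ := [0, 2, 0, 6, 2, 1]

def innerCent : List (List ℕ) := [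
  [],
  [1, 2],
  [2, 1],
  [5, 4, 6, 5],
  [1, 2, 5, 4, 6, 5],
  [2, 1, 5, 4, 6, 5]]

def goodReps : List (List ℕ) := [
  [],
  [7, 2, 0, 1],
  [0, 2, 0, 6],
  [7, 4, 5, 0, 4, 6],
  [7, 4, 5, 2, 0, 1, 4, 6],
  [7, 4, 5, 1, 2, 0, 4, 6]]

def goodPts : List ℕ := [0, 6, 11, 56, 100, 168]

def badReps : List (ℕ × List ℕ × List ℕ) := [
  (51, [5, 0, 4, 0], [1, 2, 4, 6]),
  (87, [7, 5, 4, 2, 0], [1, 2, 5, 4, 6, 5]),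
  (97, [5, 0, 4, 2, 0], [2, 1, 4, 6])]

def fixedBits : ℕ := 0x1000000000000000012008000000108000000000841

def genWords : List (List ℕ) := [
  [1, 1, 3, 4, 0, 5, 1, 2, 5, 1, 2, 4, 0, 4, 0, 2, 0, 4, 0, 0, 5, 1, 3],
  [5, 0, 3, 5, 0, 4, 1, 3, 1, 5, 1, 5, 0, 5, 0, 3, 3, 1, 4, 0, 5, 2, 0],
  [2, 5, 1, 3, 5, 1, 4, 0, 3, 0, 5, 0, 5, 1, 5, 1, 2, 1, 4, 0, 5, 2, 0],
  [0, 0, 5, 0, 5, 0, 5, 0, 4, 0, 4, 1, 2, 1, 4, 1, 5, 3, 1, 5, 0, 0],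
  [1, 1, 3, 4, 1, 4, 0, 0, 4, 1, 1, 3, 5, 0, 5, 2, 0, 5, 0, 4, 1, 4, 3, 0, 0],
  [1, 2, 0, 5, 0, 2, 0, 4, 1, 4, 1, 3, 1, 5, 0, 4, 2, 1, 4, 0, 0, 0, 4, 1],
  [2, 0, 5, 0, 2, 5, 1, 3, 1, 5, 0, 4, 2, 0, 0, 5, 0, 4, 0, 4, 1, 5, 0, 0]]

def outRels : List (List ℕ) := [
  [4, 4, 4],
  [0, 4, 0, 4, 0, 4, 0, 4, 0, 4, 0, 4, 0, 4, 0, 4, 0, 4, 0, 4, 0, 4, 0, 4, 0, 4, 0, 4, 0, 4, 0, 4, 0, 4, 0, 4, 0, 4, 0, 4],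
  [0, 4, 0, 0, 4, 0, 0, 4, 0, 0, 4, 0, 0, 4, 0, 0, 4, 0, 0, 4, 0, 0, 4, 0, 0, 4, 0, 0, 4, 0, 0, 4, 0, 0, 4, 0, 0, 4, 0, 0, 4, 0, 0, 4, 0, 0, 4, 0, 0, 4, 0, 0, 4, 0, 0, 4, 0, 0, 4, 0]]

def outTests : List (ℕ × ℕ) := [
  (1, 1), (1, 1), (1, 1), (0, 1), (0, 1), (0, 1), (0, 1), (0, 1),
  (0, 1), (0, 1), (0, 1), (0, 1), (1, 0), (0, 0), (1, 0), (0, 1),
  (0, 1), (0, 1), (0, 1), (0, 1), (0, 1), (0, 1), (0, 1), (0, 1),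
  (1, 0), (1, 0), (0, 0), (0, 1), (0, 1), (0, 1), (0, 1), (0, 1),
  (0, 1), (0, 1), (0, 1), (0, 1), (0, 0), (0, 0), (0, 0), (0, 0),
  (0, 0), (0, 0), (0, 0), (0, 0), (0, 0), (0, 0), (0, 0), (0, 0),
  (0, 0), (0, 0), (0, 0), (0, 0), (0, 0), (0, 0), (0, 0), (0, 0),
  (0, 0), (0, 0), (0, 0), (0, 0), (0, 0), (0, 0), (0, 0), (0, 0),
  (0, 0), (0, 0), (0, 0), (0, 0), (0, 0), (0, 0), (0, 0), (0, 0),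
  (1, 1), (1, 1), (1, 1), (0, 1), (0, 1), (0, 1), (0, 1), (0, 1),
  (0, 1), (0, 1), (0, 1), (0, 1), (1, 0), (2, 0), (1, 0), (0, 1),
  (0, 1), (0, 1), (0, 1), (0, 1), (0, 1), (0, 1), (0, 1), (0, 1),
  (1, 0), (1, 0), (2, 0), (0, 1), (0, 1), (0, 1), (0, 1), (0, 1),
  (0, 1), (0, 1), (0, 1), (0, 1), (0, 0), (0, 0), (0, 0), (0, 0),
  (0, 0), (0, 0), (0, 0), (0, 0), (0, 0), (0, 0), (0, 0), (0, 0),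
  (0, 0), (0, 0), (0, 0), (0, 0), (0, 0), (0, 0), (0, 0), (0, 0),
  (0, 0), (0, 0), (0, 0), (0, 0), (0, 0), (0, 0), (0, 0), (0, 0),
  (0, 0), (0, 0), (0, 0), (0, 0), (0, 0), (0, 0), (0, 0), (0, 0),
  (1, 1), (1, 1), (1, 1), (0, 1), (0, 1), (0, 1), (0, 1), (0, 1),
  (0, 1), (0, 1), (0, 1), (0, 1), (1, 0), (1, 0), (1, 0), (0, 1),
  (0, 1), (0, 1), (0, 1), (0, 1), (0, 1), (0, 1), (0, 1), (0, 1),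
  (1, 0), (1, 0), (1, 0), (0, 1), (0, 1), (0, 1), (0, 1), (0, 1),
  (0, 1), (0, 1), (0, 1), (0, 1), (0, 0), (0, 0), (0, 0), (0, 0),
  (0, 0), (0, 0), (0, 0), (0, 0), (0, 0), (0, 0), (0, 0), (0, 0),
  (0, 0), (0, 0), (0, 0), (0, 0), (0, 0), (0, 0), (0, 0), (0, 0),
  (0, 0), (0, 0), (0, 0), (0, 0), (0, 0), (0, 0), (0, 0), (0, 0),
  (0, 0), (0, 0), (0, 0), (0, 0), (0, 0), (0, 0), (0, 0), (0, 0)]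

def sameIdx : ℕ := 13

def altIdx : ℕ := 26

end CfsgLib.Recog.ONan
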