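import Cfsg.Agent.Lib.Recog.ONan.PermRep
import Cfsg.Agent.Lib.Recog.ONan.OutWords

set_option autoImplicit false
set_option maxRecDepth 100000

/-!
Evaluation of words in arbitrary elements through switch networks (owner: helper9).
-/

namespace CfsgLib.Recog.ONan

open Cfsg

/-- The value of a word in the generators. -/
noncomputable def wp (l : List ℕ) : GON := (l.map lgen).prod

theorem wp_nil : wp [] = 1 := rfl

theorem wp_append (l m : List ℕ) : wp (l ++ m) = wp l * wp m := by
  rw [wp, List.map_append, List.prod_append]; rfl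

/-- One network for a word. -/
def flatNet (l : List ℕ) : List (ℕ × ℕ) := (l.reverse.map mainData.net).flatten

theorem netAt_flatten : ∀ (ns : List (List (ℕ × ℕ))) (p : ℕ), netAt ns.flatten p = wordAt ns p
  | [], _ => rfl
  | n :: ns, p => by
    rw [List.flatten_cons, netAt_append, netAt_flatten ns]
    rfl

theorem netOK_append {n : ℕ} {a b : List (ℕ × ℕ)} (ha : netOK n a = true) (hb : netOK n b = true) :
    netOK n (a ++ b) = true := by
  rw [netOK, List.all_append, Bool.and_eq_true]
  exact ⟨ha, hb⟩

theorem netOK_reverse {n : ℕ} {a : List (ℕ × ℕ)} (ha : netOK n a = true) : netOK n a.reverse = true := by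
  rw [netOK, List.all_eq_true] at ha ⊢
  exact fun x hx => ha x (List.mem_reverse.1 hx)

theorem netOK_flatten {n : ℕ} : ∀ {ns : List (List (ℕ × ℕ))}, (∀ a ∈ ns, netOK n a = true) →
    netOK n ns.flatten = true
  | [], _ => rfl
  | a :: ns, h => by
    rw [List.flatten_cons]
    exact netOK_append (h a List.mem_cons_self) (netOK_flatten fun b hb => h b (List.mem_cons_of_mem _ hb))

/-- The element `u` moves points as the network `V` does. -/
def Shows (u : GON) (V : List (ℕ × ℕ)) : Prop :=
  netOK 17 V = true ∧ ∀ p : Fin (2 ^ 17), ((phi u p : Fin (2 ^ 17)) : ℕ) = netAt V p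

theorem shows_one : Shows 1 [] := ⟨rfl, fun p => by rw [map_one]; rfl⟩

theorem Shows.mul {a b : GON} {A B : List (ℕ × ℕ)} (ha : Shows a A) (hb : Shows b B) :
    Shows (a * b) (B ++ A) :=
  ⟨netOK_append hb.1 ha.1, fun p => by
    rw [map_mul, Equiv.Perm.mul_apply, ha.2, hb.2, netAt_append]⟩

theorem Shows.inv {a : GON} {A : List (ℕ × ℕ)} (ha : Shows a A) : Shows a⁻¹ A.reverse :=
  ⟨netOK_reverse ha.1, fun p => by
    have h := ha.2 ((phi a)⁻¹ p)
    rw [Equiv.Perm.coe_inv, Equiv.apply_symm_apply] at h
    rw [map_inv]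
    conv_rhs => rw [h, netAt_reverse]
    rfl⟩

theorem shows_lgen (x : ℕ) : Shows (lgen x) (mainData.net x) :=
  ⟨net_ok x, fun p => by rw [phi_lgen']; rfl⟩

theorem Shows.list {e : ℕ → GON} {n : ℕ → List (ℕ × ℕ)} (h : ∀ x, Shows (e x) (n x)) :
    ∀ l : List ℕ, Shows ((l.map e).prod) ((l.reverse.map n).flatten)
  | [] => shows_one
  | x :: l => by
    rw [List.map_cons, List.prod_cons, List.reverse_cons, List.map_append, List.flatten_append, List.map_singleton,
      List.flatten_singleton]
    exact (h x).mul (Shows.list h l)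

theorem shows_word (l : List ℕ) : Shows (wp l) (flatNet l) := Shows.list shows_lgen l

/-- Checking that two networks agree everywhere. -/
noncomputable def sameNet (A B : List (ℕ × ℕ)) : Bool := fixesAll 17 [A, B.reverse]

theorem sameNet_elim {A B : List (ℕ × ℕ)} (hA : netOK 17 A = true) (hB : netOK 17 B = true)
    (h : sameNet A B = true) {p : ℕ} (hp : p < 2 ^ 17) : netAt A p = netAt B p := by
  have h1 : netAt B.reverse (netAt A p) = p :=
    fixesAll_elim (ns := [A, B.reverse]) (by simp [hA, netOK_reverse hB]) h hp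
  conv_rhs => rw [← h1]
  have := netAt_reverse B.reverse (netAt A p)
  rw [List.reverse_reverse] at this
  exact this.symm

theorem Shows.of_same {a : GON} {A B : List (ℕ × ℕ)} (ha : Shows a A) (hB : netOK 17 B = true)
    (h : sameNet A B = true) : Shows a B :=
  ⟨hB, fun p => by rw [ha.2]; exact sameNet_elim ha.1 hB h p.2⟩

theorem Shows.eq {a b : GON} {A B : List (ℕ × ℕ)} (ha : Shows a A) (hb : Shows b B)
    (h : sameNet A B = true) : a = b :=
  phi_injective (Equiv.ext fun p => Fin.ext (by rw [ha.2, hb.2]; exact sameNet_elim ha.1 hb.1 h p.2))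

/-- Checking that a network moves nothing. -/
theorem Shows.eq_one {a : GON} {A : List (ℕ × ℕ)} (ha : Shows a A) (h : sameNet A [] = true) : a = 1 :=
  ha.eq shows_one h

theorem Shows.moves {a : GON} {A : List (ℕ × ℕ)} (ha : Shows a A) {p : ℕ} (hp : p < 2 ^ 17)
    (h : Nat.beq (netK A p) p = false) : a ≠ 1 := by
  intro e
  have := ha.2 ⟨p, hp⟩
  rw [e, map_one, Equiv.Perm.one_apply, ← netK_eq] at this
  exact absurd (Nat.beq_eq.symm ▸ this.symm : netK A p = p) (fun e' => by rw [e', Nat.beq_refl] at h; exact Bool.noConfusion h)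

/-- The elements fixing the base point are those of the subgroup. -/
theorem mem_sixSub_iff {g : GON} : g ∈ sixSub ↔ ((phi g ⟨0, by norm_num⟩ : Fin (2 ^ 17)) : ℕ) = 0 := by
  refine ⟨six_fixes, fun h => ?_⟩
  have : cosetPt (g : GON ⧸ sixSub) = cosetPt ((1 : GON) : GON ⧸ sixSub) := by
    rw [cosetPt_mk, cosetPt_mk, map_one, Equiv.Perm.one_apply]
    exact Fin.ext h
  have := QuotientGroup.eq.1 (cosetPt_injective this)
  simpa using this

/-- The points fixed by an element below the index are recorded in its mask. -/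
theorem fixed_bit {a : GON} {A : List (ℕ × ℕ)} (ha : Shows a A) {p : Fin (2 ^ 17)} (hp : (p : ℕ) < 122760)
    (h : phi a p = p) :
    (Nat.land (fixedMask 17 [A]) (Nat.sub (Nat.shiftLeft 1 122760) 1)).testBit p = true := by
  change ((fixedMask 17 [A]) &&& (Nat.sub (Nat.shiftLeft 1 122760) 1)).testBit (p : ℕ) = true
  rw [Nat.testBit_and, fixedMask_testBit (by simp [ha.1]) p.2 (by
    show netAt A p = p
    rw [← ha.2, h]), testBit_ones]
  simpa using hp

/-- The image of the base point lies below the index. -/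
theorem base_lt (g : GON) : ((phi g ⟨0, by norm_num⟩ : Fin (2 ^ 17)) : ℕ) < 122760 := by
  rw [← cosetPt_mk]
  exact cosetPt_lt _

end CfsgLib.Recog.ONan
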