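import Cfsg.Agent.Lib.Recog.ONan.LinearModel
import Cfsg.Agent.Lib.Recog.ONan.OutWords

set_option autoImplicit false
set_option maxRecDepth 100000

/-!
Two centralisers in the extension of `PSL(3,7)` (owner: helper9).
-/

namespace CfsgLib.Recog.ONan

open Matrix

local instance : Fact (Nat.Prime 7) := ⟨by norm_num⟩

abbrev Mat37 : Type := Matrix (Fin 3) (Fin 3) (ZMod 7)

def xMat : Mat37 := !![2, 4, 5; 2, 2, 5; 3, 3, 2]

def xDual : Mat37 := !![3, 4, 0; 0, 3, 6; 3, 0, 3]

def uMat : Mat37 := !![5, 0, 0; 0, 0, 4; 0, 1, 0]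

def zMat : Mat37 := !![1, 0, 0; 0, 2, 0; 0, 0, 4]

theorem x_mat : evalPairs xWord = some xMat ∧ xMat.det = 1 ∧ xDual.det = 1 ∧ xDualᵀ * xMat = 1 ∧ zMat.det = 1 ∧
    evalPairs [2, 1] = some zMat := by decide +kernel

theorem u_mat : uWord = [2, 1, 4, 5] ++ [4] ∧ (evalPairs [2, 1, 4, 5]).map (· * genMat 3) = some uMat := by
  decide +kernel

theorem pmk_eq {A B : SL37} (h : pmk A = pmk B) :
    ∃ c : ZMod 7, c ^ 3 = 1 ∧ (B : Mat37) = c • (A : Mat37) := by
  obtain ⟨c, hc1, hc⟩ := Matrix.SpecialLinearGroup.mem_center_iff.1 (QuotientGroup.eq.1 h)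
  refine ⟨c, by simpa using hc1, ?_⟩
  have e : A * (A⁻¹ * B) = B := by group
  conv_lhs => rw [← e, Matrix.SpecialLinearGroup.coe_mul, ← hc]
  rw [Matrix.scalar_apply, ← Matrix.smul_one_eq_diagonal, Matrix.mul_smul, Matrix.mul_one]

theorem pmk_of_smul {A B : SL37} {c : ZMod 7} (hc : c ^ 3 = 1) (h : (B : Mat37) = c • (A : Mat37)) :
    pmk A = pmk B := by
  refine QuotientGroup.eq.2 (Matrix.SpecialLinearGroup.mem_center_iff.2 ⟨c, by simpa using hc, ?_⟩)
  rw [Matrix.SpecialLinearGroup.coe_mul, h, Matrix.scalar_apply, ← Matrix.smul_one_eq_diagonal, Matrix.mul_smul,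
    ← Matrix.SpecialLinearGroup.coe_mul, inv_mul_cancel, Matrix.SpecialLinearGroup.coe_one]

theorem right_cases (t : Target) : (∃ A : SL37, t = ⟨pmk A, 1⟩) ∨ ∃ A : SL37, t = outer A := by
  obtain ⟨A, hA⟩ := QuotientGroup.mk'_surjective (Subgroup.center SL37) t.left
  rcases zpowers_cases t.right with h | h
  · exact Or.inl ⟨A, SemidirectProduct.ext hA.symm (Subtype.ext h)⟩
  · exact Or.inr ⟨A, SemidirectProduct.ext hA.symm (Subtype.ext h)⟩

theorem inner_mul (A B : SL37) : (⟨pmk A, 1⟩ : Target) * ⟨pmk B, 1⟩ = ⟨pmk (A * B), 1⟩ := by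
  apply SemidirectProduct.ext
  · show pmk A * (1 : MulAut PSL37) (pmk B) = _
    rw [MulAut.one_apply, ← map_mul]
  · exact one_mul _

theorem inner_mul_outer (A B : SL37) : (⟨pmk A, 1⟩ : Target) * outer B = outer (A * B) := by
  apply SemidirectProduct.ext
  · show pmk A * (1 : MulAut PSL37) (pmk B) = pmk (A * B)
    rw [MulAut.one_apply, ← map_mul]
  · exact one_mul _

theorem outer_mul_inner (A B : SL37) : outer A * (⟨pmk B, 1⟩ : Target) = outer (A * invT B) := by
  apply SemidirectProduct.ext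
  · show pmk A * sigma (pmk B) = pmk (A * invT B)
    rw [sigma_pmk, ← map_mul]
  · exact mul_one _

/-- The word of an even length in the six involutions lies in the normal subgroup. -/
theorem word_right {w : List ℕ} {P : Mat37} (h : evalPairs w = some P) : ((w.map tgen).prod).right = 1 := by
  obtain ⟨A, -, hA⟩ := evalPairs_spec h
  rw [hA]

theorem uT_eq : ∃ U : SL37, (U : Mat37) = uMat ∧ (uWord.map tgen).prod = outer U := by
  obtain ⟨he, hm⟩ := u_mat
  rw [Option.map_eq_some_iff] at hm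
  obtain ⟨P, hP, hPu⟩ := hm
  obtain ⟨A, rfl, hA⟩ := evalPairs_spec hP
  refine ⟨A * genSL 3, hPu, ?_⟩
  rw [he, List.map_append, List.prod_append, hA, List.map_singleton, List.prod_singleton, tgen, dif_pos (by omega),
    inner_mul_outer]
  rfl

theorem smul_cases : ∀ c : ZMod 7, c ^ 3 = 1 → c ≠ 1 → xMat.trace ≠ c * xMat.trace := by decide +kernel

theorem dual_trace : ∀ c : ZMod 7, c ^ 3 = 1 → xMat.trace ≠ c * xDual.trace := by decide +kernel

/-- The cyclic vectors of the first matrix. -/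
def kry (v : Fin 3 → ZMod 7) : Mat37 :=
  Matrix.of fun i j => ![v, xMat *ᵥ v, xMat *ᵥ (xMat *ᵥ v)] j i

def kryInv : Mat37 := (kry ![1, 0, 0]).adjugate.map (· * ((kry ![1, 0, 0]).det) ^ 5)

theorem kry_inv : kry ![1, 0, 0] * kryInv = 1 := by decide +kernel

theorem kry_check : ∀ a b c : ZMod 7, (kry ![a, b, c] * kryInv).det = 1 →
    xMat * (kry ![a, b, c] * kryInv) = kry ![a, b, c] * kryInv * xMat →
    ∃ i : Fin 19, ∃ s : ZMod 7, s ^ 3 = 1 ∧ kry ![a, b, c] * kryInv = s • xMat ^ (i : ℕ) := by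
  decide +kernel

theorem kry_of_commute {A : Mat37} (h : xMat * A = A * xMat) (v : Fin 3 → ZMod 7) :
    A * kry v = kry (A *ᵥ v) := by
  have h1 : A *ᵥ (xMat *ᵥ v) = xMat *ᵥ (A *ᵥ v) := by rw [Matrix.mulVec_mulVec, Matrix.mulVec_mulVec, h]
  have h2 : A *ᵥ (xMat *ᵥ (xMat *ᵥ v)) = xMat *ᵥ (xMat *ᵥ (A *ᵥ v)) := by
    rw [Matrix.mulVec_mulVec, ← h, ← Matrix.mulVec_mulVec, h1]
  ext i j
  show (A *ᵥ (fun l => kry v l j)) i = _
  fin_cases j
  · rfl
  · show (A *ᵥ (xMat *ᵥ v)) i = (xMat *ᵥ (A *ᵥ v)) i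
    rw [h1]
  · show (A *ᵥ (xMat *ᵥ (xMat *ᵥ v))) i = (xMat *ᵥ (xMat *ᵥ (A *ᵥ v))) i
    rw [h2]

/-- The centraliser of the element of order nineteen. -/
theorem centralizer_x {t : Target} (h : t * (xWord.map tgen).prod = (xWord.map tgen).prod * t) :
    ∃ i < 19, t = ((xWord.map tgen).prod) ^ i := by
  obtain ⟨hx, -, hxd, hdual, -, -⟩ := x_mat
  obtain ⟨X, hXc, hX⟩ := evalPairs_spec hx
  rw [hX] at h ⊢
  rcases right_cases t with ⟨A, rfl⟩ | ⟨A, rfl⟩
  · rw [inner_mul, inner_mul] at h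
    obtain ⟨c, hc, hAX⟩ := pmk_eq (congrArg SemidirectProduct.left h)
    rw [Matrix.SpecialLinearGroup.coe_mul, Matrix.SpecialLinearGroup.coe_mul, hXc] at hAX
    have hc1 : c = 1 := by
      by_contra hne
      refine smul_cases c hc hne ?_
      have e : ((A⁻¹ : SL37) : Mat37) * (xMat * (A : Mat37)) = c • xMat := by
        rw [hAX, Matrix.mul_smul, ← Matrix.mul_assoc, ← Matrix.SpecialLinearGroup.coe_mul, inv_mul_cancel,
          Matrix.SpecialLinearGroup.coe_one, Matrix.one_mul]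
      have e2 := congrArg Matrix.trace e
      rw [Matrix.trace_smul, smul_eq_mul, Matrix.trace_mul_comm, Matrix.mul_assoc,
        ← Matrix.SpecialLinearGroup.coe_mul, mul_inv_cancel, Matrix.SpecialLinearGroup.coe_one, Matrix.mul_one] at e2
      exact e2
    rw [hc1, one_smul] at hAX
    set v := (A : Mat37) *ᵥ ![1, 0, 0] with hv
    have hA : (A : Mat37) = kry v * kryInv := by
      rw [hv, ← kry_of_commute hAX, Matrix.mul_assoc, kry_inv, Matrix.mul_one]
    have hvec : v = ![v 0, v 1, v 2] := by ext i; fin_cases i <;> rfl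
    rw [hvec] at hA
    obtain ⟨i, s, hs, his⟩ := kry_check (v 0) (v 1) (v 2) (by rw [← hA]; exact A.2) (by rw [← hA]; exact hAX)
    refine ⟨i, i.2, ?_⟩
    have hp : ∀ n : ℕ, (⟨pmk X, 1⟩ : Target) ^ n = ⟨pmk (X ^ n), 1⟩ := by
      intro n
      induction n with
      | zero => rw [pow_zero, pow_zero, map_one]; rfl
      | succ n ih => rw [pow_succ, ih, inner_mul, pow_succ]
    rw [hp]
    congr 1
    refine (pmk_of_smul hs ?_).symm
    rw [hA, his, ← hXc, Matrix.SpecialLinearGroup.coe_pow]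
  · exfalso
    rw [outer_mul_inner, inner_mul_outer] at h
    obtain ⟨c, hc, hAX⟩ := pmk_eq (congrArg SemidirectProduct.left h)
    obtain ⟨D, hDc⟩ : ∃ D : SL37, (D : Mat37) = xDual := ⟨⟨xDual, hxd⟩, rfl⟩
    have hD : invT X = D := invT_eq (by rw [hXc, hDc]; exact hdual)
    rw [hD, Matrix.SpecialLinearGroup.coe_mul, Matrix.SpecialLinearGroup.coe_mul, hXc, hDc] at hAX
    have e : (xMat * (A : Mat37)) * ((A⁻¹ : SL37) : Mat37) = c • (((A : Mat37) * xDual) * ((A⁻¹ : SL37) : Mat37)) := by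
      rw [hAX, Matrix.smul_mul]
    have e2 := congrArg Matrix.trace e
    rw [Matrix.trace_smul, smul_eq_mul, Matrix.mul_assoc, ← Matrix.SpecialLinearGroup.coe_mul, mul_inv_cancel,
      Matrix.SpecialLinearGroup.coe_one, Matrix.mul_one, Matrix.trace_mul_cycle,
      ← Matrix.SpecialLinearGroup.coe_mul, inv_mul_cancel, Matrix.SpecialLinearGroup.coe_one, Matrix.one_mul] at e2
    exact dual_trace c hc e2

/-- A matrix with one entry in each column. -/
def monMat (k : Fin 3) (a b c : ZMod 7) : Mat37 := Matrix.of fun i j => if i = j + k then ![a, b, c] j else 0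

theorem mon_check : ∀ k : Fin 3, ∀ a b c : ZMod 7, (monMat k a b c).det = 1 →
    (∃ s : ZMod 7, s ^ 3 = 1 ∧ uMat = s • (monMat k a b c * uMat * (monMat k a b c)ᵀ)) →
    ∃ w ∈ innerCent, ∃ s : ZMod 7, s ^ 3 = 1 ∧ evalPairs w = some (s • monMat k a b c) := by
  decide +kernel

theorem diag_shift : ∀ c : ZMod 7, c ^ 3 = 1 → ∃ k : Fin 3, ∀ i j : Fin 3, i ≠ j + k →
    zMat i i ≠ c * zMat j j := by decide +kernel

theorem z_diag (i j : Fin 3) : i = j ∨ zMat i j = 0 := by
  fin_cases i <;> fin_cases j <;> simp [zMat]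

theorem u_four : trivWord (uWord ++ uWord ++ uWord ++ uWord ++ [1, 2]) = true := by decide +kernel

theorem z_two : trivWord [2, 1, 1, 2] = true := by decide +kernel

/-- The inner part of the centraliser of the element of order six. -/
theorem centralizer_u_inner {A : SL37} (h : (⟨pmk A, 1⟩ : Target) * (uWord.map tgen).prod =
    (uWord.map tgen).prod * ⟨pmk A, 1⟩) : ∃ w ∈ innerCent, (⟨pmk A, 1⟩ : Target) = (w.map tgen).prod := by
  obtain ⟨-, -, -, -, hzd, hz⟩ := x_mat
  obtain ⟨U, hUc, hU⟩ := uT_eq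
  obtain ⟨Z, hZc, hZ⟩ := evalPairs_spec hz
  set t : Target := ⟨pmk A, 1⟩ with ht
  set u : Target := (uWord.map tgen).prod with hu
  have hz4 : u * u * u * u = (([2, 1] : List ℕ).map tgen).prod := by
    have h1 := trivWord_spec u_four
    rw [List.map_append, List.prod_append, List.map_append, List.prod_append, List.map_append, List.prod_append,
      List.map_append, List.prod_append, ← hu] at h1
    have h2 := trivWord_spec z_two
    rw [show ([2, 1, 1, 2] : List ℕ) = [2, 1] ++ [1, 2] from rfl, List.map_append, List.prod_append] at h2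
    exact mul_right_cancel (h1.trans h2.symm)
  have hcz : t * (⟨pmk Z, 1⟩ : Target) = ⟨pmk Z, 1⟩ * t := by
    rw [← hZ, ← hz4]
    have hc : Commute t u := h
    exact ((hc.mul_right hc).mul_right hc).mul_right hc
  rw [ht, inner_mul, inner_mul] at hcz
  obtain ⟨c, hc, hAZ⟩ := pmk_eq (congrArg SemidirectProduct.left hcz)
  rw [Matrix.SpecialLinearGroup.coe_mul, Matrix.SpecialLinearGroup.coe_mul, hZc] at hAZ
  obtain ⟨k, hk⟩ := diag_shift c hc
  have hzero : ∀ i j : Fin 3, i ≠ j + k → (A : Mat37) i j = 0 := by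
    intro i j hij
    have e := congrFun (congrFun hAZ i) j
    rw [Matrix.smul_apply, Matrix.mul_apply, Matrix.mul_apply, Finset.sum_eq_single i, Finset.sum_eq_single j,
      smul_eq_mul] at e
    · have e' : (A : Mat37) i j * (zMat i i - c * zMat j j) = 0 := by linear_combination e
      exact (mul_eq_zero.1 e').resolve_right (sub_ne_zero.2 (hk i j hij))
    · intro l _ hl; rw [(z_diag l j).resolve_left hl, mul_zero]
    · simp
    · intro l _ hl; rw [(z_diag i l).resolve_left hl.symm, zero_mul]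
    · simp
  have hA : (A : Mat37) = monMat k ((A : Mat37) k 0) ((A : Mat37) (1 + k) 1) ((A : Mat37) (2 + k) 2) := by
    ext i j
    rw [monMat, Matrix.of_apply]
    split_ifs with hij
    · subst hij
      fin_cases j <;> simp
    · exact hzero i j hij
  rw [hU, ht, inner_mul_outer, outer_mul_inner] at h
  obtain ⟨s, hs, hAU⟩ := pmk_eq (congrArg SemidirectProduct.left h)
  rw [Matrix.SpecialLinearGroup.coe_mul, Matrix.SpecialLinearGroup.coe_mul, hUc] at hAU
  have hinv : ((invT A : SL37) : Mat37) * (A : Mat37)ᵀ = 1 := by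
    show ((A⁻¹).transpose : Mat37) * _ = 1
    rw [Matrix.SpecialLinearGroup.coe_transpose, ← Matrix.transpose_mul, ← Matrix.SpecialLinearGroup.coe_mul,
      mul_inv_cancel, Matrix.SpecialLinearGroup.coe_one, Matrix.transpose_one]
  have hquad : uMat = s • ((A : Mat37) * uMat * (A : Mat37)ᵀ) := by
    rw [← Matrix.smul_mul, ← hAU, Matrix.mul_assoc, hinv, Matrix.mul_one]
  obtain ⟨w, hw, r, hr, hev⟩ := mon_check k _ _ _ (by rw [← hA]; exact A.2) ⟨s, hs, by rw [← hA]; exact hquad⟩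
  obtain ⟨B, hBc, hB⟩ := evalPairs_spec hev
  refine ⟨w, hw, ?_⟩
  rw [hB, ht]
  exact congrArg (fun z => (⟨z, 1⟩ : Target)) (pmk_of_smul hr (hBc.trans (congrArg (r • ·) hA.symm)))

/-- The centraliser of the element of order six. -/
theorem centralizer_u {t : Target} (h : t * (uWord.map tgen).prod = (uWord.map tgen).prod * t) :
    ∃ w ∈ innerCent, t = (w.map tgen).prod ∨ t = (w.map tgen).prod * (uWord.map tgen).prod := by
  rcases right_cases t with ⟨A, rfl⟩ | ⟨A, rfl⟩
  · obtain ⟨w, hw, e⟩ := centralizer_u_inner h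
    exact ⟨w, hw, Or.inl e⟩
  · obtain ⟨U, -, hU⟩ := uT_eq
    have e : ∃ B : SL37, outer A * ((uWord.map tgen).prod)⁻¹ = ⟨pmk B, 1⟩ := by
      rcases right_cases (outer A * ((uWord.map tgen).prod)⁻¹) with hB | ⟨B, hB⟩
      · exact hB
      · have := congrArg SemidirectProduct.right hB
        rw [SemidirectProduct.mul_right, SemidirectProduct.inv_right, hU] at this
        exact absurd (congrArg Subtype.val this) (by
          show sigma * sigma⁻¹ ≠ sigma
          rw [mul_inv_cancel]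
          exact sigma_ne_one.symm)
    obtain ⟨B, hB⟩ := e
    have hc : Commute (⟨pmk B, 1⟩ : Target) ((uWord.map tgen).prod) := by
      rw [← hB]
      exact (Commute.mul_left h (Commute.refl _).inv_left)
    obtain ⟨w, hw, e'⟩ := centralizer_u_inner hc
    exact ⟨w, hw, Or.inr (by rw [← e', ← hB, inv_mul_cancel_right])⟩

end CfsgLib.Recog.ONan
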