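import Cfsg.Agent.Lib.Recog.ONan.OutEval
import Cfsg.Agent.Lib.Recog.ONan.OutNetX
import Cfsg.Agent.Lib.Recog.ONan.OutNetW
import Cfsg.Agent.Lib.Recog.ONan.OutNetWT
import Cfsg.Agent.Lib.Recog.ONan.OutNetTG
import Cfsg.Agent.Lib.Recog.ONan.OutNetTA
import Cfsg.Agent.Lib.Recog.ONan.OutNetTB
import Cfsg.Agent.Lib.Recog.ONan.OutNetTC
import Cfsg.Agent.Lib.Recog.ONan.OutNetTD
import Cfsg.Agent.Lib.Recog.ONan.OutNetTE
import Cfsg.Agent.Lib.Recog.ONan.OutNetTF

set_option autoImplicit false
set_option maxRecDepth 100000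

/-!
The networks used for the outer automorphism (owner: helper9).
-/

namespace CfsgLib.Recog.ONan

/-- One network for a word over other networks. -/
def wordNet (n : ℕ → List (ℕ × ℕ)) (l : List ℕ) : List (ℕ × ℕ) := (l.reverse.map n).flatten

/-- The networks of `x, x⁻¹, u, u⁻¹, w, w⁻¹`. -/
def sixNet (W : List (ℕ × ℕ)) : ℕ → List (ℕ × ℕ)
  | 0 => outNetX
  | 1 => outNetX.reverse
  | 2 => flatNet uWord
  | 3 => (flatNet uWord).reverse
  | 4 => W
  | 5 => W.reverse
  | _ => []

/-- The networks of two elements in the places zero and four. -/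
def twoNet (A B : List (ℕ × ℕ)) : ℕ → List (ℕ × ℕ)
  | 0 => A
  | 4 => B
  | _ => []

/-- The networks of the images of the letters. -/
def tauNet : ℕ → List (ℕ × ℕ)
  | 0 => outNetTG
  | 1 => outNetTA
  | 2 => outNetTB
  | 3 => outNetTC
  | 4 => outNetTD
  | 5 => outNetTE
  | 6 => outNetTF
  | 7 => outNetTG.reverse
  | _ => []

/-- All twelve words of the inner centraliser. -/
def centWords : List (List ℕ) := innerCent ++ innerCent.map (· ++ uWord)

/-- The candidates for the image of the third generator. -/
def candWord (i : ℕ) : List ℕ := goodReps.getD (i / 12) [] ++ centWords.getD (i % 12) []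

/-- The candidates for the image of the first generator. -/
def powNet (kk : ℕ) : List (ℕ × ℕ) := (List.replicate (2 ^ kk) outNetX).flatten

/-- One test of a candidate: the chosen relation moves the chosen point. -/
noncomputable def testOne (kk i : ℕ) : Bool :=
  (kk == 0 && (i == sameIdx || i == altIdx)) ||
    (let t := outTests.getD (72 * kk + i) (0, 0)
    Nat.blt t.2 122760 &&
      !(Nat.beq (netK (wordNet (twoNet (powNet kk) (flatNet (candWord i))) (outRels.getD t.1 [])) t.2) t.2))

end CfsgLib.Recog.ONan
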