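import Cfsg.Agent.Lib.Recog.ONan.OutNets

set_option autoImplicit false
set_option maxRecDepth 100000

/-!
Checks for the outer automorphism, second part: generation and the new relators (owner: helper9).
-/

namespace CfsgLib.Recog.ONan

theorem tau_relators0 : ((baseSeqs.drop 0).take 26).all (fun w => sameNet ((w.map tauNet).flatten) []) = true := by decide +kernel

end CfsgLib.Recog.ONan
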