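import Cfsg.Agent.Lib.Recog.ONan.OutBound
import Cfsg.Prelude.Def_KGroupFacts
import Cfsg.Agent.Lib.Recog.ONan.OutCheckD
import Cfsg.Agent.Lib.Recog.ONan.OutRels0
import Cfsg.Agent.Lib.Recog.ONan.OutRels1
import Cfsg.Agent.Lib.Recog.ONan.OutRels2

set_option autoImplicit false
set_option maxRecDepth 100000

/-!
An outer automorphism of the O'Nan group (owner: helper9).
-/

namespace CfsgLib.Recog.ONan

open Cfsg

/-- The images of the letters. -/
noncomputable def tauImg (x : ℕ) : GON :=
  if x < 7 then ((genWords.getD x []).map (sixElt eV)).prod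
  else if x = 7 then (((genWords.getD 0 []).map (sixElt eV)).prod)⁻¹ else 1

theorem tau_check {t : ℕ} (ht : t < 7) :
    sameNet (wordNet (sixNet outNetWT) (genWords.getD t [])) (tauNet t) = true := by
  interval_cases t
  exacts [tau_check0, tau_check1, tau_check2, tau_check3, tau_check4, tau_check5, tau_check6]

theorem shows_tauImg (x : ℕ) : Shows (tauImg x) (tauNet x) := by
  have key : ∀ t < 7, netOK 17 (tauNet t) = true → Shows (((genWords.getD t []).map (sixElt eV)).prod) (tauNet t) :=
    fun t ht hok => (shows_six_word shows_V _).of_same hok (tau_check ht)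
  rcases lt_trichotomy x 7 with h | rfl | h
  · rw [tauImg, if_pos h]
    exact key x h (net_ok_of (by interval_cases x <;> simp [tauNet]))
  · rw [tauImg, if_neg (lt_irrefl 7), if_pos rfl]
    exact (key 0 (by omega) (net_ok_of (by simp [tauNet]))).inv
  · rw [tauImg, if_neg (by omega), if_neg (by omega)]
    obtain ⟨n, rfl⟩ : ∃ n, x = n + 8 := ⟨x - 8, by omega⟩
    exact shows_one

theorem base_split : baseSeqs = (baseSeqs.drop 0).take 26 ++ (baseSeqs.drop 26).take 16 ++ (baseSeqs.drop 42).take 10 := by
  decide +kernel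

theorem tauImg_rel {w : List ℕ} (hw : w ∈ baseSeqs) : (w.reverse.map tauImg).prod = 1 := by
  have h : sameNet ((w.map tauNet).flatten) [] = true := by
    rw [base_split, List.mem_append, List.mem_append] at hw
    rcases hw with (hw | hw) | hw
    · exact List.all_eq_true.1 tau_relators0 w hw
    · exact List.all_eq_true.1 tau_relators1 w hw
    · exact List.all_eq_true.1 tau_relators2 w hw
  have hs := Shows.list shows_tauImg w.reverse
  rw [List.reverse_reverse] at hs
  exact hs.eq_one h

theorem inv_pairs : ∀ x < 8, [ivl x, x].reverse ∈ baseSeqs := by decide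

theorem tauImg_inv (x : ℕ) : tauImg (ivl x) * tauImg x = 1 := by
  rcases lt_or_ge x 8 with h | h
  · have := tauImg_rel (inv_pairs x h)
    rw [List.reverse_reverse] at this
    simpa using this
  · rw [show ivl x = x by rw [ivl, if_neg (by omega), if_neg (by omega)], tauImg, if_neg (by omega),
      if_neg (by omega), one_mul]

theorem tau_respects {r : FreeGroup Spor.ON.Gen}
    (h : r ∈ Spor.coxRelators Spor.ON.edges ∪ {r | r ∈ Spor.ON.extra}) :
    FreeGroup.lift (fun y => tauImg (gidx y)) r = 1 := by
  rw [lift_eq_prod _ tauImg (fun _ => rfl) tauImg_inv]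
  exact tauImg_rel (List.contains_iff_mem.1 (List.all_eq_true.1 relList_seqs _
    (List.mem_map.2 ⟨r, mem_relList h, rfl⟩)))

/-- The outer automorphism, as an endomorphism. -/
noncomputable def tauHom : GON →* GON := PresentedGroup.toGroup fun _ h => tau_respects h

theorem tauHom_lgen (x : ℕ) : tauHom (lgen x) = tauImg x := by
  rcases lt_or_ge x 8 with h | h
  · interval_cases x <;> try exact PresentedGroup.toGroup.of _
    show tauHom (PresentedGroup.of Spor.ON.Gen.g)⁻¹ = _
    rw [map_inv, show tauHom (PresentedGroup.of Spor.ON.Gen.g) = tauImg 0 from PresentedGroup.toGroup.of _]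
    rfl
  · obtain ⟨n, rfl⟩ : ∃ n, x = n + 8 := ⟨x - 8, by omega⟩
    rw [show lgen (n + 8) = 1 from rfl, map_one, tauImg, if_neg (by omega), if_neg (by omega)]

theorem tauHom_wp (l : List ℕ) : tauHom (wp l) = (l.map tauImg).prod := by
  rw [wp, map_list_prod, List.map_map]
  exact congrArg List.prod (List.map_congr_left fun x _ => tauHom_lgen x)

theorem tau_eX : tauHom eX = eX := by
  rw [eX, tauHom_wp]
  exact (Shows.list shows_tauImg xWord).eq shows_X tau_x

theorem tau_eU : tauHom eU = eU := by
  rw [eU, tauHom_wp]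
  exact (Shows.list shows_tauImg uWord).eq shows_U tau_u

theorem tau_eW : tauHom eW = eV := by
  rw [eW, tauHom_wp]
  exact (Shows.list shows_tauImg wWord).eq shows_V tau_w

theorem tauHom_bijective : Function.Bijective tauHom := by
  have := finite_GON
  have : IsSimpleGroup GON := isON_GON.1
  refine (Finite.injective_iff_bijective).1 ?_
  rw [← MonoidHom.ker_eq_bot_iff]
  refine (IsSimpleGroup.eq_bot_or_eq_top_of_normal _ tauHom.normal_ker).resolve_right fun h => ?_
  have : eX ∈ tauHom.ker := h ▸ Subgroup.mem_top eX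
  rw [MonoidHom.mem_ker, tau_eX] at this
  exact eX_ne_one this

/-- The outer automorphism. -/
noncomputable def tauAut : MulAut GON := MulEquiv.ofBijective tauHom tauHom_bijective

theorem eV_ne_eW : eV ≠ eW := by
  intro e
  have h : eW * eV⁻¹ = 1 := by rw [e, mul_inv_cancel]
  have hs := shows_V.inv
  have hm : Shows (eV⁻¹ * eW) (outNetW ++ outNetWT.reverse) := hs.mul shows_W
  have h1 : eV⁻¹ * eW = 1 := by rw [e, inv_mul_cancel]
  rcases w_moves with hw | hw
  · exact hm.moves (by norm_num) hw h1
  · exact hm.moves (by norm_num) hw h1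

theorem tau_not_inner : tauAut ∉ Cfsg.Inn GON := by
  rintro ⟨g, hg⟩
  have e : ∀ z : GON, g * z * g⁻¹ = tauHom z := fun z => by
    have := DFunLike.congr_fun hg z
    rwa [MulAut.conj_apply] at this
  have hX : g * eX = eX * g := by
    have := e eX
    rw [tau_eX, mul_inv_eq_iff_eq_mul] at this
    exact this
  obtain ⟨i, hi, rfl⟩ := centralizer_eX hX
  have hU := e eU
  rw [tau_eU, mul_inv_eq_iff_eq_mul] at hU
  have hc : eU * eX ^ i * eU⁻¹ = eX ^ (8 * i) := by
    rw [← conj_pow, eU_conj, ← pow_mul]
  rw [← hU, mul_inv_cancel_right] at hc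
  have hmod := pow_inj_mod.1 hc
  rw [orderOf_eX] at hmod
  obtain rfl : i = 0 := by omega
  have hW := e eW
  rw [pow_zero, one_mul, inv_one, mul_one, tau_eW] at hW
  exact eV_ne_eW hW.symm

end CfsgLib.Recog.ONan
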