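import Cfsg.Agent.Lib.Recog.ONan.Tower

set_option autoImplicit false

/-!
Two elements satisfying the relators of a coset certificate generate a small group, and a simple group with
such generators maps into every group with such generators (owner: helper9).
-/

namespace CfsgLib.Recog.ONan

open CfsgLib.ThreeTrans.CosetIndex (actW actW_eq)

variable {G : Type*} [Group G]

/-- The letters `a`, `b`, `b⁻¹`, `ab`, `(ab)⁻¹`. -/
def pairLetter (a b : G) : ℕ → G
  | 0 => a
  | 1 => b
  | 2 => b⁻¹
  | 3 => a * b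
  | 4 => (a * b)⁻¹
  | _ => 1

/-- The inverse letters. -/
def pairInv : List ℕ := [0, 2, 1, 4, 3]

theorem pairLetter_inv {a b : G} (ha : a * a = 1) : ∀ x, pairLetter a b (pairInv.getD x x) * pairLetter a b x = 1
  | 0 => ha
  | 1 => inv_mul_cancel b
  | 2 => mul_inv_cancel b
  | 3 => inv_mul_cancel (a * b)
  | 4 => mul_inv_cancel (a * b)
  | (n + 5) => by
    rw [List.getD_eq_default _ _ (by simp [pairInv])]
    exact one_mul 1

theorem pairInv_pairInv (x : ℕ) : pairInv.getD (pairInv.getD x x) (pairInv.getD x x) = x := by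
  rcases lt_or_ge x 5 with h | h
  · interval_cases x <;> rfl
  · rw [List.getD_eq_default _ _ (show pairInv.length ≤ x by simpa [pairInv] using h),
      List.getD_eq_default _ _ (show pairInv.length ≤ x by simpa [pairInv] using h)]

theorem run_append (D : Data) : ∀ (o₁ o₂ : List Op) (s : List ℕ), run D s (o₁ ++ o₂) = run D (run D s o₁) o₂
  | [], _, _ => rfl
  | o :: o₁, o₂, s => run_append D o₁ o₂ (o.apply D s)

/-- What is checked about a certificate for two generators. -/
structure PairCert (D : Data) (ops : List Op) (s : List ℕ) (idx ord : ℕ) : Prop where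
  iv : D.iv = pairInv
  len : D.nets.length = 5
  okInv : (List.range 5).all (fun x => netOK D.L (D.net x) &&
    fixesAll D.L [D.net x, D.net (D.inv x)]) = true
  perm : D.rels.all (fun w => fixesAll D.L (w.map D.net)) = true
  base : (Nat.beq (netAt (D.net 3) 0) 0 && Nat.beq (netAt (D.net 4) 0) 0) = true
  runEq : sameState (run D [0, 0, 0, 1, 1, 0, 0, 0, 1] ops) s = true
  full : (List.range 5).all (fun x => Nat.beq (ent s x) (ent s 8)) = true ∧
    ent s 8 = Nat.sub (Nat.shiftLeft 1 idx) 1
  pos : 0 < ord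

theorem PairCert.ok {D : Data} {ops : List Op} {s : List ℕ} {idx ord : ℕ} (C : PairCert D ops s idx ord)
    (x : ℕ) : netOK D.L (D.net x) = true := by
  rcases lt_or_ge x 5 with h | h
  · have := List.all_eq_true.1 C.okInv x (List.mem_range.2 h)
    simp only [Bool.and_eq_true] at this
    exact this.1
  · rw [Data.net, List.getD_eq_default _ _ (by rw [C.len]; exact h)]; rfl

theorem PairCert.ctx {D : Data} {ops : List Op} {s : List ℕ} {idx ord : ℕ} (C : PairCert D ops s idx ord)
    {X : Type*} [MulAction G X] {a b : G} (ha : a * a = 1)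
    (hrel : ∀ w ∈ D.rels, (w.reverse.map (pairLetter a b)).prod = 1) :
    Ctx (X := X) (pairLetter a b) D := by
  have hi : ∀ x, D.inv x = pairInv.getD x x := fun x => by rw [Data.inv, C.iv]
  refine ⟨C.ok, fun x => by rw [hi, hi]; exact pairInv_pairInv x, fun x => by rw [hi]; exact pairLetter_inv ha x,
    rfl, fun x p => ?_, fun w hw q => by rw [actW_eq, hrel w hw, one_smul],
    fun w hw p hp => fixesAll_elim (by simp [List.all_eq_true, C.ok]) (List.all_eq_true.1 C.perm w hw) hp⟩
  rcases lt_or_ge x 5 with hx | hx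
  · rcases lt_or_ge p (2 ^ D.L) with hp | hp
    · have := List.all_eq_true.1 C.okInv x (List.mem_range.2 hx)
      simp only [Bool.and_eq_true] at this
      exact fixesAll_elim (ns := [D.net x, D.net (D.inv x)]) (by simp [C.ok]) this.2 hp
    · rw [netAt_ge (C.ok x) hp, netAt_ge (C.ok _) hp]
  · rw [hi, List.getD_eq_default _ _ (show pairInv.length ≤ x by simpa [pairInv] using hx), Data.net,
      List.getD_eq_default _ _ (by rw [C.len]; exact hx)]
    rfl

/-- The bound. -/
theorem PairCert.bound {D : Data} {ops : List Op} {s : List ℕ} {idx ord : ℕ} (C : PairCert D ops s idx ord)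
    {a b : G} (ha : a * a = 1) (hord : (a * b) ^ ord = 1)
    (hrel : ∀ w ∈ D.rels, (w.reverse.map (pairLetter a b)).prod = 1) :
    Finite (Subgroup.closure ({a, b} : Set G)) ∧ Nat.card (Subgroup.closure ({a, b} : Set G)) ≤ idx * ord := by
  classical
  set H := Subgroup.zpowers (a * b) with hH
  set K := Subgroup.closure ({a, b} : Set G) with hK
  have hfo : IsOfFinOrder (a * b) := isOfFinOrder_iff_pow_eq_one.2 ⟨ord, C.pos, hord⟩
  have hHfin : (H : Set G).Finite := hfo.finite_zpowers
  have hHcard : (H : Set G).ncard ≤ ord := by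
    rw [← Nat.card_coe_set_eq]
    show Nat.card (Subgroup.zpowers (a * b)) ≤ ord
    rw [Nat.card_zpowers]
    exact orderOf_le_of_pow_eq_one C.pos hord
  have hb3 := C.base
  rw [Bool.and_eq_true] at hb3
  have cX : Ctx (X := G ⧸ H) (pairLetter a b) D := C.ctx ha hrel
  obtain ⟨s0, t0⟩ := sound_start (a := pairLetter a b) (D := D) (q0 := ((1 : G) : G ⧸ H))
    (s := [0, 0, 0, 1, 1, 0, 0, 0, 1]) rfl (fun x hx => by
      interval_cases x
      · exact Or.inl rfl
      · exact Or.inl rfl
      · exact Or.inl rfl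
      · refine Or.inr ⟨rfl, ?_, Nat.eq_of_beq_eq_true hb3.1⟩
        rw [MulAction.Quotient.smul_coe, QuotientGroup.eq, smul_eq_mul, mul_one, mul_one]
        exact H.inv_mem (Subgroup.mem_zpowers _)
      · refine Or.inr ⟨rfl, ?_, Nat.eq_of_beq_eq_true hb3.2⟩
        rw [MulAction.Quotient.smul_coe, QuotientGroup.eq, smul_eq_mul, mul_one, mul_one]
        exact H.inv_mem (H.inv_mem (Subgroup.mem_zpowers _))
      all_goals exact Or.inl rfl)
  obtain ⟨r1, t1⟩ := sound_run cX ops s0 t0
  rw [sameState_elim C.runEq] at r1 t1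
  obtain ⟨v, hv, -⟩ := covers cX r1 t1 (kl := List.range 5) (fun x hx => by
    have hx' := List.mem_range.1 hx
    refine ⟨by omega, ?_, Nat.eq_of_beq_eq_true (List.all_eq_true.1 C.full.1 x hx)⟩
    rw [Data.inv, C.iv, List.mem_range]
    interval_cases x <;> decide)
  have hKle : K ≤ Subgroup.closure {g | ∃ x ∈ List.range 5, g = pairLetter a b x} := by
    rw [hK, Subgroup.closure_le]
    rintro g (rfl | hg)
    · exact Subgroup.subset_closure ⟨0, by decide, rfl⟩
    · rw [Set.mem_singleton_iff] at hg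
      exact Subgroup.subset_closure ⟨1, by decide, hg⟩
  let rep : ℕ → G := fun p => (v p).out
  have hKsub : (K : Set G) ⊆ (fun z : ℕ × G => rep z.1 * z.2) '' (Set.Iio idx ×ˢ (H : Set G)) := fun g hg => by
    obtain ⟨p, hp, e⟩ := hv g (hKle hg)
    refine ⟨(p, (rep p)⁻¹ * g), ⟨testBit_lt_of_ones C.full.2 hp, ?_⟩, by simp⟩
    rw [SetLike.mem_coe, ← QuotientGroup.eq]
    show ((v p).out : G ⧸ H) = (g : G ⧸ H)
    rw [QuotientGroup.out_eq', ← e, MulAction.Quotient.smul_coe, smul_eq_mul, mul_one]
  have hfin := ((Set.finite_Iio idx).prod hHfin).image (fun z : ℕ × G => rep z.1 * z.2)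
  refine ⟨Set.finite_coe_iff.2 (hfin.subset hKsub), ?_⟩
  rw [← SetLike.coe_sort_coe, Nat.card_coe_set_eq]
  refine (Set.ncard_le_ncard hKsub hfin).trans ((Set.ncard_image_le ((Set.finite_Iio idx).prod hHfin)).trans ?_)
  rw [Set.ncard_prod, ← Finset.coe_Iio, Set.ncard_coe_finset, Nat.card_Iio]
  exact Nat.mul_le_mul_left _ hHcard

theorem pairLetter_map {H : Type*} [Group H] (f : G →* H) (a b : G) (x : ℕ) :
    f (pairLetter a b x) = pairLetter (f a) (f b) x := by
  match x with
  | 0 => rfl
  | 1 => rfl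
  | 2 => exact map_inv f b
  | 3 => exact map_mul f a b
  | 4 => simp [pairLetter]
  | (n + 5) => exact map_one f

theorem pairLetter_prod {H : Type*} [Group H] (a b : G) (c d : H) :
    ∀ w : List ℕ, (w.map (pairLetter (a, c) (b, d))).prod =
      ((w.map (pairLetter a b)).prod, (w.map (pairLetter c d)).prod) := by
  intro w
  have h1 := map_list_prod (MonoidHom.fst G H) (w.map (pairLetter (a, c) (b, d)))
  have h2 := map_list_prod (MonoidHom.snd G H) (w.map (pairLetter (a, c) (b, d)))
  rw [List.map_map] at h1 h2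
  refine Prod.ext (h1.trans ?_) (h2.trans ?_) <;>
    exact congrArg List.prod (List.map_congr_left fun x _ => pairLetter_map _ _ _ x)

/-- A simple group with such generators occurs in every group with such generators. -/
theorem PairCert.exists_subgroup {D : Data} {ops : List Op} {s : List ℕ} {idx ord : ℕ}
    (C : PairCert D ops s idx ord) {M : Type*} [Group M] [IsSimpleGroup M] (hM : Nat.card M = idx * ord)
    {m₁ m₂ : M} (hgen : Subgroup.closure ({m₁, m₂} : Set M) = ⊤) (hm1 : m₁ * m₁ = 1)
    (hm : (m₁ * m₂) ^ ord = 1) (hmrel : ∀ w ∈ D.rels, (w.reverse.map (pairLetter m₁ m₂)).prod = 1)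
    {k₁ k₂ : G} (hk1 : k₁ * k₁ = 1) (hk : (k₁ * k₂) ^ ord = 1)
    (hkrel : ∀ w ∈ D.rels, (w.reverse.map (pairLetter k₁ k₂)).prod = 1) (hne : k₁ ≠ 1) :
    ∃ K : Subgroup G, Nonempty (M ≃* K) := by
  obtain ⟨hfin, hbd⟩ := C.bound (a := (k₁, m₁)) (b := (k₂, m₂)) (Prod.ext hk1 hm1)
    (Prod.ext (by simpa using hk) (by simpa using hm))
    (fun w hw => by rw [pairLetter_prod, hkrel w hw, hmrel w hw]; rfl)
  set Δ := Subgroup.closure ({(k₁, m₁), (k₂, m₂)} : Set (G × M)) with hΔ
  let π := (MonoidHom.snd G M).comp Δ.subtype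
  have hsurj : Function.Surjective π := by
    rw [← MonoidHom.range_eq_top, eq_top_iff, ← hgen, Subgroup.closure_le]
    rintro m (h | h)
    · exact ⟨⟨(k₁, m₁), Subgroup.subset_closure (Or.inl rfl)⟩, h.symm⟩
    · rw [Set.mem_singleton_iff] at h
      exact ⟨⟨(k₂, m₂), Subgroup.subset_closure (Or.inr rfl)⟩, h.symm⟩
  have hbij : Function.Bijective π := hsurj.bijective_of_nat_card_le (by omega)
  let ρ : M →* G := ((MonoidHom.fst G M).comp Δ.subtype).comp (MulEquiv.ofBijective π hbij).symm.toMonoidHom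
  have hρ : ρ m₁ = k₁ := by
    have e : (MulEquiv.ofBijective π hbij).symm m₁ = ⟨(k₁, m₁), Subgroup.subset_closure (Or.inl rfl)⟩ :=
      (MulEquiv.symm_apply_eq _).2 rfl
    show ((MulEquiv.ofBijective π hbij).symm m₁).1.1 = _
    rw [e]
  have hinj : Function.Injective ρ := by
    rw [← MonoidHom.ker_eq_bot_iff]
    refine (IsSimpleGroup.eq_bot_or_eq_top_of_normal _ ρ.normal_ker).resolve_right fun h => hne ?_
    rw [← hρ]
    exact MonoidHom.mem_ker.1 (h ▸ Subgroup.mem_top m₁)
  exact ⟨ρ.range, ⟨MonoidHom.ofInjective hinj⟩⟩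

end CfsgLib.Recog.ONan
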