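import Cfsg.Agent.Lib.Recog.ONan.Subgroups

set_option autoImplicit false

/-!
The O'Nan group as a permutation group on 122760 points (owner: helper9).
-/

namespace CfsgLib.Recog.ONan

open Cfsg

theorem cosetPt_lt (c : GON ⧸ sixSub) : (cosetPt c : ℕ) < 122760 := by
  obtain ⟨v, hv, hpt⟩ := coset_bijection
  obtain ⟨p, hp, rfl⟩ := hv.surjOn (Set.mem_univ c)
  rw [hpt p hp]
  exact hp

theorem cosetPt_injective : Function.Injective cosetPt := by
  obtain ⟨v, hv, hpt⟩ := coset_bijection
  intro c d h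
  obtain ⟨p, hp, rfl⟩ := hv.surjOn (Set.mem_univ c)
  obtain ⟨q, hq, rfl⟩ := hv.surjOn (Set.mem_univ d)
  rw [← hpt p hp, h, hpt q hq]

theorem permutation_realisation :
    ∃ H : Subgroup (Equiv.Perm (Fin 122760)), Cfsg.IsON H ∧ MulAction.IsPretransitive H (Fin 122760) ∧
      Nat.card (MulAction.stabilizer H (0 : Fin 122760)) = 3753792 ∧ (∃ K : Subgroup H, Cfsg.IsJ1 K) ∧
        ∃ K : Subgroup H, Cfsg.IsM11 K := by
  let f : GON ⧸ sixSub → Fin 122760 := fun c => ⟨cosetPt c, cosetPt_lt c⟩
  have hf : Function.Bijective f := by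
    obtain ⟨v, hv, hpt⟩ := coset_bijection
    refine ⟨fun c d h => cosetPt_injective (Fin.ext (by simpa [f] using h)), fun p => ⟨v p, Fin.ext ?_⟩⟩
    exact hpt p p.2
  let e := Equiv.ofBijective f hf
  let ψ : GON →* Equiv.Perm (Fin 122760) :=
    e.permCongrHom.toMonoidHom.comp (MulAction.toPermHom GON (GON ⧸ sixSub))
  have happ : ∀ (u : GON) (c : GON ⧸ sixSub), ψ u (e c) = e (u • c) := fun u c => by
    simp [ψ, Equiv.permCongrHom, Equiv.permCongr_apply]
  have hsimple : IsSimpleGroup GON := isON_GON.1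
  have hψ : Function.Injective ψ := by
    rw [← MonoidHom.ker_eq_bot_iff]
    refine (IsSimpleGroup.eq_bot_or_eq_top_of_normal _ ψ.normal_ker).resolve_right fun h => ?_
    refine nineteen_ne_one ?_
    have hfix : ∀ c : GON ⧸ sixSub, nineteen • c = c := fun c => e.injective (by
      rw [← happ, MonoidHom.mem_ker.1 (h ▸ Subgroup.mem_top nineteen)]
      rfl)
    obtain ⟨v, hv, hpt⟩ := coset_bijection
    have h1 := nineteen_fixed (hfix (v 1))
    have h2 := hpt 1 (by norm_num)
    rw [h1, cosetPt_mk, map_one] at h2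
    exact absurd h2 (by decide)
  let E : GON ≃* ψ.range := MonoidHom.ofInjective hψ
  have hcard : Nat.card ψ.range = 460815505920 := (Nat.card_congr E.toEquiv).symm.trans card_GON
  have htr : MulAction.IsPretransitive ψ.range (Fin 122760) := ⟨fun p q => by
    obtain ⟨c, rfl⟩ := e.surjective p
    obtain ⟨d, rfl⟩ := e.surjective q
    obtain ⟨u, rfl⟩ := QuotientGroup.mk_surjective c
    obtain ⟨w, rfl⟩ := QuotientGroup.mk_surjective d
    refine ⟨⟨ψ (w * u⁻¹), w * u⁻¹, rfl⟩, ?_⟩
    show ψ (w * u⁻¹) (e _) = _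
    rw [happ, MulAction.Quotient.smul_coe, smul_eq_mul, inv_mul_cancel_right]⟩
  refine ⟨ψ.range, ⟨?_, hcard⟩, htr, ?_, ?_, ?_⟩
  · have : Nontrivial ψ.range := E.toEquiv.symm.nontrivial
    exact IsSimpleGroup.isSimpleGroup_of_surjective E.toMonoidHom E.surjective
  · have := htr
    have h := (MulAction.stabilizer ψ.range (0 : Fin 122760)).card_mul_index
    rw [MulAction.index_stabilizer_of_transitive, Nat.card_eq_fintype_card (α := Fin 122760), Fintype.card_fin,
      hcard, show (460815505920 : ℕ) = 3753792 * 122760 by norm_num] at h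
    exact Nat.eq_of_mul_eq_mul_right (by norm_num) h
  · obtain ⟨K, hK⟩ := isJ1_sub
    let eK := K.equivMapOfInjective E.toMonoidHom E.injective
    have hs := hK.1
    refine ⟨K.map E.toMonoidHom, ?_, (Nat.card_congr eK.toEquiv).symm.trans hK.2⟩
    have : Nontrivial (K.map E.toMonoidHom) := eK.toEquiv.symm.nontrivial
    exact IsSimpleGroup.isSimpleGroup_of_surjective eK.toMonoidHom eK.surjective
  · obtain ⟨K, hK⟩ := isM11_sub
    let eK := K.equivMapOfInjective E.toMonoidHom E.injective
    have hs := hK.1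
    refine ⟨K.map E.toMonoidHom, ?_, (Nat.card_congr eK.toEquiv).symm.trans hK.2⟩
    have : Nontrivial (K.map E.toMonoidHom) := eK.toEquiv.symm.nontrivial
    exact IsSimpleGroup.isSimpleGroup_of_surjective eK.toMonoidHom eK.surjective

end CfsgLib.Recog.ONan
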