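import Cfsg.Agent.Lib.Recog.ONan.Index

set_option autoImplicit false

/-!
The subgroup of the six involutions is `PSL(3,7)` extended by an involution (owner: helper9).
-/

namespace CfsgLib.Recog.ONan

open Cfsg

/-- The subgroup is isomorphic to the extension. -/
noncomputable def sixIso : Target ≃* sixSub :=
  (MonoidHom.ofInjective rho_injective).trans (MulEquiv.subgroupCongr rho_range)

theorem exists_psl_subgroup :
    ∃ N : Subgroup sixSub, N.Normal ∧ N.index = 2 ∧ Nonempty (N ≃* PSL37) := by
  let i : PSL37 →* Target := SemidirectProduct.inl
  have hk : i.range = (SemidirectProduct.rightHom : Target →* Subgroup.zpowers sigma).ker :=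
    SemidirectProduct.range_inl_eq_ker_rightHom
  let f : PSL37 →* sixSub := sixIso.toMonoidHom.comp i
  have hr : f.range = i.range.map sixIso.toMonoidHom := MonoidHom.range_comp _ _
  have hf : Function.Injective f := sixIso.injective.comp SemidirectProduct.inl_injective
  refine ⟨f.range, ?_, ?_, ⟨(MonoidHom.ofInjective hf).symm⟩⟩
  · rw [hr, hk]
    exact (MonoidHom.normal_ker _).map _ sixIso.surjective
  · rw [hr, Subgroup.index_map_of_bijective sixIso.bijective, hk, Subgroup.index_ker,
      MonoidHom.range_eq_top.2 SemidirectProduct.rightHom_surjective, Subgroup.card_top, card_zpowers_sigma]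

end CfsgLib.Recog.ONan
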