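import Cfsg.Agent.Lib.Recog.ONan.Simple
import Cfsg.Agent.Lib.Recog.ONan.JOne
import Cfsg.Agent.Lib.Recog.ONan.MEleven
import Cfsg.Agent.Lib.Recog.ONan.NetJv
import Cfsg.Agent.Lib.Recog.ONan.NetMv

set_option autoImplicit false
set_option Elab.async false
set_option maxRecDepth 100000

/-!
The first Janko group and the Mathieu group on eleven points inside the O'Nan group (owner: helper9).
-/

namespace CfsgLib.Recog.ONan

open Cfsg

theorem phi_injective : Function.Injective phi := by
  have : IsSimpleGroup GON := isON_GON.1
  rw [← MonoidHom.ker_eq_bot_iff]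
  refine (IsSimpleGroup.eq_bot_or_eq_top_of_normal _ phi.normal_ker).resolve_right fun h => ?_
  have h1 : ∀ t : Target, t = 1 := fun t => phi_rho_injective (by
    rw [map_one, MonoidHom.comp_apply]
    exact MonoidHom.mem_ker.1 (h ▸ Subgroup.mem_top (rho t)))
  have := card_target
  rw [Nat.card_eq_one_iff_unique.2 ⟨⟨fun a b => (h1 a).trans (h1 b).symm⟩, ⟨1⟩⟩] at this
  omega

theorem wordAt_append : ∀ (u v : List (List (ℕ × ℕ))) (p : ℕ), wordAt (u ++ v) p = wordAt v (wordAt u p)
  | [], _, _ => rfl
  | n :: u, v, p => wordAt_append u v _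

/-- The networks of the five letters for `a` and an element with network `V`. -/
def pairNet (V : List (ℕ × ℕ)) : ℕ → List (ℕ × ℕ)
  | 0 => netA
  | 1 => V
  | 2 => V.reverse
  | 3 => V ++ netA
  | 4 => netA ++ V.reverse
  | _ => []

/-- What is checked about the second generator. -/
structure Second (V : List (ℕ × ℕ)) (wv : List ℕ) (S : List (List ℕ)) (ord : ℕ) : Prop where
  ok : netOK 17 V = true
  word : fixesAll 17 (wv.reverse.map mainData.net ++ [V.reverse]) = true
  pow : fixesAll 17 ((List.replicate ord 3).map (pairNet V)) = true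
  rels : S.all (fun w => fixesAll 17 (w.map (pairNet V))) = true

variable {V : List (ℕ × ℕ)} {wv : List ℕ} {S : List (List ℕ)} {ord : ℕ} (hV : Second V wv S ord)
include hV

theorem second_rev_ok : netOK 17 V.reverse = true := by
  have h := hV.ok
  rw [netOK, List.all_eq_true] at h ⊢
  exact fun a ha => h a (List.mem_reverse.1 ha)

theorem pairNet_ok (x : ℕ) : netOK 17 (pairNet V x) = true := by
  have hA : netOK 17 netA = true := net_ok 1
  have hr := second_rev_ok hV
  match x with
  | 0 => exact hA
  | 1 => exact hV.ok
  | 2 => exact hr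
  | 3 =>
    show netOK 17 (V ++ netA) = true
    rw [netOK, List.all_append, Bool.and_eq_true]
    exact ⟨hV.ok, hA⟩
  | 4 =>
    show netOK 17 (netA ++ V.reverse) = true
    rw [netOK, List.all_append, Bool.and_eq_true]
    exact ⟨hA, hr⟩
  | (n + 5) => rfl

/-- The second generator as a group element. -/
noncomputable def secondElt (_hV : Second V wv S ord) : GON := (wv.map lgen).prod

theorem phi_second (p : Fin (2 ^ 17)) : ((phi (secondElt hV) p : Fin (2 ^ 17)) : ℕ) = netAt V p := by
  have h := fixesAll_elim (by simp [List.all_eq_true, net_ok, second_rev_ok hV]) hV.word p.2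
  have e := phi_word wv.reverse p
  rw [List.reverse_reverse] at e
  rw [wordAt_append] at h
  rw [secondElt, e]
  have h' : netAt V.reverse (wordAt (wv.reverse.map mainData.net) p) = p := h
  conv_rhs => rw [← h']
  have := netAt_reverse V.reverse (wordAt (wv.reverse.map mainData.net) p)
  rw [List.reverse_reverse] at this
  exact this.symm

theorem phi_pairLetter (x : ℕ) (p : Fin (2 ^ 17)) :
    ((phi (pairLetter (lgen 1) (secondElt hV) x) p : Fin (2 ^ 17)) : ℕ) = netAt (pairNet V x) p := by
  have hA : ∀ p : Fin (2 ^ 17), ((phi (lgen 1) p : Fin (2 ^ 17)) : ℕ) = netAt netA p := fun p => by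
    rw [phi_lgen']; rfl
  have hinv : ∀ p : Fin (2 ^ 17), ((phi (secondElt hV)⁻¹ p : Fin (2 ^ 17)) : ℕ) = netAt V.reverse p := fun p => by
    have h2 : phi (secondElt hV) ⟨netAt V.reverse p, netAt_lt (second_rev_ok hV) p.2⟩ = p := Fin.ext (by
      rw [phi_second hV]
      have := netAt_reverse V.reverse p
      rwa [List.reverse_reverse] at this)
    conv_lhs => rw [← h2, map_inv, Equiv.Perm.inv_def, Equiv.symm_apply_apply]
  match x with
  | 0 => exact hA p
  | 1 => exact phi_second hV p
  | 2 => exact hinv p
  | 3 =>
    show ((phi (lgen 1 * secondElt hV) p : Fin (2 ^ 17)) : ℕ) = netAt (V ++ netA) p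
    rw [map_mul, Equiv.Perm.mul_apply, hA, phi_second hV, netAt_append]
  | 4 =>
    show ((phi (lgen 1 * secondElt hV)⁻¹ p : Fin (2 ^ 17)) : ℕ) = netAt (netA ++ V.reverse) p
    rw [_root_.mul_inv_rev, inv_eq_of_mul_eq_one_right (lgen_sq (x := 1) (by omega) (by omega)), map_mul,
      Equiv.Perm.mul_apply, hinv, hA, netAt_append]
  | (n + 5) =>
    show ((phi 1 p : Fin (2 ^ 17)) : ℕ) = _
    rw [map_one]
    rfl

theorem pair_word_one {w : List ℕ} (h : fixesAll 17 (w.map (pairNet V)) = true) :
    (w.reverse.map (pairLetter (lgen 1) (secondElt hV))).prod = 1 := by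
  have key : ∀ (w : List ℕ) (p : Fin (2 ^ 17)),
      ((phi ((w.reverse.map (pairLetter (lgen 1) (secondElt hV))).prod) p : Fin (2 ^ 17)) : ℕ) =
        wordAt (w.map (pairNet V)) p := by
    intro w
    induction w with
    | nil => intro p; rw [List.reverse_nil, List.map_nil, List.prod_nil, map_one]; rfl
    | cons x w ih =>
      intro p
      rw [List.reverse_cons, List.map_append, List.prod_append, List.map_singleton, List.prod_singleton, map_mul,
        Equiv.Perm.mul_apply, ih, phi_pairLetter hV]
      rfl
  refine phi_injective ?_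
  rw [map_one]
  exact Equiv.ext fun p => Fin.ext (by
    rw [key]
    exact fixesAll_elim (by simp [List.all_eq_true, pairNet_ok hV]) h p.2)

theorem second_pow : (lgen 1 * secondElt hV) ^ ord = 1 := by
  have := pair_word_one hV hV.pow
  rw [List.reverse_replicate, List.map_replicate, List.prod_replicate] at this
  exact this

theorem second_rels {R : List (List ℕ)}
    (hsrc : R.all (fun w => S.contains w || S.contains (w.reverse.map fun x => pairInv.getD x x)) = true)
    {w : List ℕ} (hw : w ∈ R) : (w.reverse.map (pairLetter (lgen 1) (secondElt hV))).prod = 1 := by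
  have h := List.all_eq_true.1 hsrc w hw
  simp only [Bool.or_eq_true, List.contains_iff_mem] at h
  rcases h with h | h
  · exact pair_word_one hV (List.all_eq_true.1 hV.rels w h)
  · have h1 := pair_word_one hV (List.all_eq_true.1 hV.rels _ h)
    have hinv : ∀ x, pairLetter (lgen 1) (secondElt hV) (pairInv.getD x x) *
        pairLetter (lgen 1) (secondElt hV) x = 1 := pairLetter_inv (lgen_sq (x := 1) (by omega) (by omega))
    have e : ∀ (u : List ℕ), ((u.map fun x => pairInv.getD x x).reverse.map
        (pairLetter (lgen 1) (secondElt hV))).prod = ((u.map (pairLetter (lgen 1) (secondElt hV))).prod)⁻¹ := by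
      intro u
      induction u with
      | nil => simp
      | cons x u ih =>
        rw [List.map_cons, List.reverse_cons, List.map_append, List.prod_append, ih, List.map_singleton,
          List.prod_singleton, List.map_cons, List.prod_cons, _root_.mul_inv_rev,
          eq_inv_of_mul_eq_one_left (hinv x)]
    rw [e, inv_eq_one] at h1
    exact h1

omit hV

theorem jv_net : netOK 17 netJv = true := by decide +kernel

theorem jv_word : fixesAll 17 (wordJv.reverse.map mainData.net ++ [(netJv).reverse]) = true := by decide +kernel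

theorem jv_pow : fixesAll 17 ((List.replicate 7 3).map (pairNet netJv)) = true := by decide +kernel

theorem jv_rels_low : (jOneSeqs.take (jOneSeqs.length / 2)).all (fun w => fixesAll 17 (w.map (pairNet netJv))) = true := by
  decide +kernel

theorem jv_rels_high : (jOneSeqs.drop (jOneSeqs.length / 2)).all (fun w => fixesAll 17 (w.map (pairNet netJv))) = true := by
  decide +kernel

theorem jv_ok : Second netJv wordJv jOneSeqs 7 where
  ok := jv_net
  word := jv_word
  pow := jv_pow
  rels := by
    rw [← List.take_append_drop (jOneSeqs.length / 2) jOneSeqs, List.all_append]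
    exact Bool.and_eq_true_iff.2 ⟨jv_rels_low, jv_rels_high⟩

theorem mv_net : netOK 17 netMv = true := by decide +kernel

theorem mv_word : fixesAll 17 (wordMv.reverse.map mainData.net ++ [(netMv).reverse]) = true := by decide +kernel

theorem mv_pow : fixesAll 17 ((List.replicate 11 3).map (pairNet netMv)) = true := by decide +kernel

theorem mv_rels_low : (mElevenSeqs.take (mElevenSeqs.length / 2)).all (fun w => fixesAll 17 (w.map (pairNet netMv))) = true := by
  decide +kernel

theorem mv_rels_high : (mElevenSeqs.drop (mElevenSeqs.length / 2)).all (fun w => fixesAll 17 (w.map (pairNet netMv))) = true := by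
  decide +kernel

theorem mv_ok : Second netMv wordMv mElevenSeqs 11 where
  ok := mv_net
  word := mv_word
  pow := mv_pow
  rels := by
    rw [← List.take_append_drop (mElevenSeqs.length / 2) mElevenSeqs, List.all_append]
    exact Bool.and_eq_true_iff.2 ⟨mv_rels_low, mv_rels_high⟩

theorem jOne_src : jOneData.rels.all (fun w => jOneSeqs.contains w ||
    jOneSeqs.contains (w.reverse.map fun x => pairInv.getD x x)) = true := by decide +kernel

theorem mEleven_src : mElevenData.rels.all (fun w => mElevenSeqs.contains w ||
    mElevenSeqs.contains (w.reverse.map fun x => pairInv.getD x x)) = true := by decide +kernel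

theorem lgen_one_ne : lgen 1 ≠ 1 := by
  intro h
  have h1 : tgen 1 = 1 := rho_injective (by rw [rho_tgen le_rfl (by omega), h, map_one])
  rw [tgen, dif_pos (by omega)] at h1
  exact sigma_ne_one (congrArg Subtype.val (congrArg SemidirectProduct.right h1))

theorem isJ1_sub : ∃ K : Subgroup GON, Cfsg.IsJ1 K := by
  obtain ⟨K, ⟨e⟩⟩ := exists_jOne (lgen_sq (x := 1) (by omega) (by omega)) (second_pow jv_ok)
    (fun _ hw => second_rels jv_ok jOne_src hw) lgen_one_ne
  have : IsSimpleGroup JankoOne.G := JankoOne.isSimpleGroup
  refine ⟨K, ?_, ?_⟩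
  · have : Nontrivial K := e.toEquiv.symm.nontrivial
    exact IsSimpleGroup.isSimpleGroup_of_surjective e.toMonoidHom e.surjective
  · rw [← Nat.card_congr e.toEquiv]
    exact JankoOne.card_eq

theorem isM11_sub : ∃ K : Subgroup GON, Cfsg.IsM11 K := by
  obtain ⟨K, ⟨e⟩⟩ := exists_mEleven (lgen_sq (x := 1) (by omega) (by omega)) (second_pow mv_ok)
    (fun _ hw => second_rels mv_ok mEleven_src hw) lgen_one_ne
  have := mEleven_simple
  refine ⟨K, ?_, ?_⟩
  · have : Nontrivial K := e.toEquiv.symm.nontrivial
    exact IsSimpleGroup.isSimpleGroup_of_surjective e.toMonoidHom e.surjective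
  · rw [← Nat.card_congr e.toEquiv]
    exact mEleven_card

end CfsgLib.Recog.ONan
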