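import Cfsg.Agent.Lib.Recog.ONan.Prop
import Cfsg.Agent.Lib.Recog.ONan.MainData
import Cfsg.Agent.Lib.Recog.ONan.mainState10
import Cfsg.Agent.Lib.Recog.ONan.mainState11

set_option autoImplicit false
set_option maxRecDepth 100000

/-! One stretch of a propagation certificate (owner: helper9). -/

namespace CfsgLib.Recog.ONan

def mainOps10_0 : List Op := [.rule 58 12,
  .rule 20 1,
  .rule 22 1,
  .rule 24 1,
  .rule 8 1,
  .rule 10 1,
  .rule 12 1,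
  .rule 14 1,
  .rule 8 0,
  .rule 10 1,
  .rule 12 1,
  .rule 8 0,
  .rule 18 1,
  .rule 20 1,
  .rule 8 1,
  .rule 22 1,
  .rule 24 1,
  .rule 18 0,
  .rule 8 1,
  .rule 10 1,
  .rule 12 1,
  .rule 14 1,
  .rule 10 0,
  .rule 8 0,
  .rule 18 1,
  .rule 8 1,
  .rule 16 1,
  .rule 20 1,
  .rule 22 1,
  .rule 24 1,
  .rule 18 0,
  .rule 10 1,
  .rule 12 1,
  .rule 14 1,
  .rule 10 0,
  .rule 8 0,
  .rule 10 1,
  .rule 16 1,
  .rule 12 1,
  .rule 8 0,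
  .rule 18 1,
  .rule 20 1,
  .rule 8 1,
  .rule 10 0,
  .rule 22 1,
  .rule 24 1,
  .rule 8 1,
  .rule 10 1,
  .rule 12 1,
  .rule 14 1]

def mainOps10_1 : List Op := [.rule 10 0,
  .rule 8 0,
  .rule 18 0,
  .rule 10 1,
  .rule 12 1,
  .rule 16 1,
  .rule 10 0,
  .rule 18 1,
  .rule 20 1,
  .rule 22 1,
  .rule 24 1,
  .rule 8 1,
  .rule 10 1,
  .rule 12 1,
  .rule 14 1,
  .rule 10 0,
  .rule 8 0,
  .rule 16 1,
  .rule 18 1,
  .rule 20 1,
  .rule 22 1,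
  .rule 24 1,
  .rule 8 1,
  .rule 18 0,
  .rule 10 1,
  .rule 12 1,
  .rule 10 0,
  .rule 18 1,
  .rule 20 1,
  .rule 22 1,
  .rule 8 1,
  .rule 14 1,
  .rule 16 1,
  .rule 10 0,
  .rule 8 0,
  .rule 10 1,
  .rule 12 0,
  .rule 40 4,
  .rule 28 1,
  .rule 30 1,
  .rule 18 1,
  .rule 20 1,
  .rule 10 1,
  .rule 8 1,
  .rule 22 1,
  .rule 18 0,
  .rule 24 1,
  .rule 10 1,
  .rule 12 1,
  .rule 10 0]

def mainOps10_2 : List Op := [.rule 14 1,
  .rule 8 0,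
  .rule 16 1,
  .rule 10 0,
  .rule 28 0,
  .rule 18 1,
  .rule 20 1,
  .rule 18 0,
  .rule 8 1,
  .rule 12 0,
  .rule 30 0,
  .rule 10 0,
  .rule 22 1,
  .rule 24 1,
  .rule 40 3,
  .rule 32 0,
  .rule 28 1,
  .rule 10 1,
  .rule 12 1,
  .rule 36 0,
  .rule 30 1,
  .rule 10 0,
  .rule 18 1,
  .rule 20 1,
  .rule 20 0,
  .rule 40 2,
  .rule 10 1,
  .rule 14 1,
  .rule 28 1,
  .rule 22 1]

def mainOps10 : List Op :=
  List.flatten [mainOps10_0, mainOps10_1, mainOps10_2]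

theorem mainStep10_ok :
    sameState (run mainData mainSt10 mainOps10) mainSt11 = true := by decide +kernel

end CfsgLib.Recog.ONan
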