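import Cfsg.Agent.Lib.Recog.ONan.Prop
import Cfsg.Agent.Lib.Recog.ONan.towAData
import Cfsg.Agent.Lib.Recog.ONan.towAState0
import Cfsg.Agent.Lib.Recog.ONan.towAState1

set_option autoImplicit false
set_option maxRecDepth 100000

/-! One stretch of a propagation certificate (owner: helper9). -/

namespace CfsgLib.Recog.ONan

def towAOps0_0 : List Op := [.grow 1,
  .grow 2,
  .grow 3,
  .grow 4,
  .grow 6,
  .grow 1,
  .grow 2,
  .grow 3,
  .grow 4,
  .grow 1,
  .grow 2,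
  .grow 3,
  .grow 4,
  .grow 1,
  .grow 2,
  .rule 7 0,
  .rule 7 1,
  .rule 9 0,
  .rule 9 1,
  .rule 11 0,
  .rule 11 1,
  .rule 15 0,
  .rule 15 1,
  .rule 17 0,
  .rule 17 1,
  .rule 21 0,
  .rule 21 1,
  .rule 23 0,
  .rule 23 1,
  .rule 5 0,
  .rule 13 0,
  .rule 25 0,
  .rule 25 2,
  .rule 25 8,
  .rule 25 9,
  .rule 7 0,
  .rule 9 0,
  .rule 11 0,
  .rule 17 0,
  .rule 21 0,
  .rule 23 0,
  .rule 5 0,
  .rule 13 0,
  .rule 13 1,
  .rule 25 0,
  .rule 25 8,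
  .rule 15 1,
  .rule 17 0,
  .rule 5 1,
  .rule 13 0]

def towAOps0 : List Op :=
  List.flatten [towAOps0_0]

theorem towAStep0_ok :
    sameState (run towAData towASt0 towAOps0) towASt1 = true := by decide +kernel

end CfsgLib.Recog.ONan
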